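import Mathlib
import Cfsg.Agent.H949.SubInv
import Cfsg.Agent.H687.Ext
import Cfsg.Agent.H691.StExt
import Cfsg.Agent.H90.R4.Prime_m3
import Cfsg.Agent.H687.Good
import Cfsg.Agent.H494.R4.OddExt_m3
import Cfsg.Agent.H727.Orth.PSL2
import Cfsg.Agent.Characters.Counting
import Cfsg.Agent.FastGrp
import Cfsg.Agent.Prune
set_option linter.all false

section
prune_inst 0x7f00000000000000000000000000000000000000000000000000000000000000000000000000000000000000000000000000000000000000000000000000000000000000000000000000000000000000003ffffff7ffffffffffffffffffffbeffbdfbfeffff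

-- part: H685/R4/Base
section
prune_inst 0x80000000000000000000000000000000000
set_option linter.all false
open scoped Cfsg.Agent.FastGrp

/-!
# Real constituents of a permutation character (helper685, S4554)

* `real_of_dc` : if all double cosets of `H` are closed under inversion, all constituents of `1_H^G` are real;
* `exists_odd` : if `|G : H|` is even, `1_H^G` has a nontrivial real constituent of odd degree.
-/

set_option autoImplicit false

namespace Cfsg.Agent.H685.R4

open Cfsg Cfsg.Agent.H949.SubInv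
open scoped ComplexConjugate

universe u

variable {G : Type u} [Group G] [Finite G]

/-- the conjugate of an irreducible character -/
noncomputable def cIrr (χ : IrrCharacter G) : IrrCharacter G :=
  ⟨fun g => conj ((χ : G → ℂ) g), Characters.Core.isIrr_conj χ.2⟩

theorem cIrr_apply (χ : IrrCharacter G) (g : G) : (cIrr χ : G → ℂ) g = conj ((χ : G → ℂ) g) := rfl

theorem cIrr_apply' (χ : IrrCharacter G) (g : G) : (cIrr χ : G → ℂ) g = (χ : G → ℂ) g⁻¹ := by
  rw [cIrr_apply, Characters.Core.isCharacter_apply_inv (Characters.Core.isIrr_isCharacter χ.2)]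

/-- the sum over a subgroup of the conjugate -/
theorem sum_cIrr (H : Subgroup G) [Fintype H] (χ : IrrCharacter G) :
    ∑ h : H, (cIrr χ : G → ℂ) h = ∑ h : H, (χ : G → ℂ) h := by
  rw [← Equiv.sum_comp (Equiv.inv H) (fun h : H => (χ : G → ℂ) h)]
  refine Finset.sum_congr rfl fun h _ => ?_
  rw [cIrr_apply']
  rfl

/-- **If all double cosets of `H` are closed under inversion, the constituents of `1_H^G` are real.** -/
theorem real_of_dc (H : Subgroup G) [Fintype H] {χ : G → ℂ} (hχ : IsIrrCharacter G χ) (h0 : ∑ h : H, χ h ≠ 0)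
    (hH : ∀ g : G, ∃ a ∈ H, ∃ b ∈ H, g⁻¹ = a * g * b) (s : G) : χ s⁻¹ = χ s := by
  classical
  have : Fintype G := Fintype.ofFinite G
  have hS : (Nat.card G : ℂ) ≠ 0 := by exact_mod_cast Nat.card_pos.ne'
  obtain ⟨X, hX⟩ : ∃ X : IrrCharacter G, X = ⟨χ, hχ⟩ := ⟨_, rfl⟩
  have hXχ : (X : G → ℂ) = χ := by rw [hX]
  by_contra hne
  have hne' : (cIrr X : G → ℂ) ≠ χ := by
    intro h
    apply hne
    rw [← hXχ, ← cIrr_apply', h, hXχ]
  have hψ := (cIrr X).2
  have hcl := Characters.Core.isIrr_isClassFunction hχ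
  -- biinvariance
  have hQ : ∀ g : G, ∑ h : H, (cIrr X : G → ℂ) (h * g) = ∑ h : H, χ (h * g) := by
    intro g
    have h1 : ∑ h : H, (cIrr X : G → ℂ) (h * g) = ∑ h : H, χ (h * g⁻¹) := by
      rw [← Equiv.sum_comp (Equiv.inv H) (fun h : H => χ (h * g⁻¹))]
      refine Finset.sum_congr rfl fun h _ => ?_
      rw [cIrr_apply', hXχ, mul_inv_rev]
      show χ (g⁻¹ * (h : G)⁻¹) = χ ((h : G)⁻¹ * g⁻¹)
      rw [← hcl ((h : G)⁻¹ * g⁻¹) g⁻¹]
      congr 1
      group
    obtain ⟨a, ha, b, hb, h2⟩ := hH g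
    rw [h1, h2]
    have h3 : ∑ h : H, χ (h * (a * g * b)) = ∑ h : H, χ ((b * h * a : G) * g) := by
      refine Finset.sum_congr rfl fun h _ => ?_
      have h4 := hcl ((h : G) * (a * g * b)) b
      rw [← h4]
      congr 1
      group
    rw [h3]
    exact Equiv.sum_comp ((Equiv.mulLeft (⟨b, hb⟩ : H)).trans (Equiv.mulRight (⟨a, ha⟩ : H))) (fun h : H => χ (h * g))
  have h5 : ∑ g : G, conj (χ g) * ∑ h : H, (cIrr X : G → ℂ) (h * g) = 0 := by
    have h6 : ∀ g : G, conj (χ g) * ∑ h : H, (cIrr X : G → ℂ) (h * g) =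
        ∑ h : H, conj (χ g) * (cIrr X : G → ℂ) (h * g) := fun g => Finset.mul_sum _ _ _
    rw [Finset.sum_congr rfl fun g _ => h6 g, Finset.sum_comm]
    refine Finset.sum_eq_zero fun h _ => ?_
    have h7 := sum_conj_mul hχ hψ (h : G)
    rw [Characters.Core.classInner_irr_ne hψ hχ hne', mul_zero, zero_mul, zero_div] at h7
    exact h7
  have h8 : ∑ g : G, conj (χ g) * ∑ h : H, χ (h * g) = (Nat.card G : ℂ) / χ 1 * ∑ h : H, χ h := by
    have h6 : ∀ g : G, conj (χ g) * ∑ h : H, χ (h * g) = ∑ h : H, conj (χ g) * χ (h * g) :=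
      fun g => Finset.mul_sum _ _ _
    rw [Finset.sum_congr rfl fun g _ => h6 g, Finset.sum_comm, Finset.mul_sum]
    refine Finset.sum_congr rfl fun h _ => ?_
    rw [sum_conj_mul hχ hχ (h : G), Characters.Core.classInner_irr_self hχ, mul_one, mul_div_right_comm]
  rw [Finset.sum_congr rfl fun g _ => by rw [hQ g], h8] at h5
  rcases mul_eq_zero.1 h5 with h9 | h9
  · exact div_ne_zero hS (Characters.Core.isIrr_apply_one_ne_zero hχ) h9
  · exact h0 h9

theorem exists_mult (H : Subgroup G) [Fintype H] (χ : IrrCharacter G) :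
    ∃ m : ℕ, ∑ h : H, (χ : G → ℂ) h = (Nat.card H : ℂ) * m := by
  have : Fintype G := Fintype.ofFinite G
  exact H949.SubDeg.sum_eq_nat H (Characters.Core.isIrr_isCharacter χ.2)

/-- the multiplicity in the permutation character -/
noncomputable def mult (H : Subgroup G) [Fintype H] (χ : IrrCharacter G) : ℕ := (exists_mult H χ).choose

theorem mult_spec (H : Subgroup G) [Fintype H] (χ : IrrCharacter G) :
    ∑ h : H, (χ : G → ℂ) h = (Nat.card H : ℂ) * mult H χ := (exists_mult H χ).choose_spec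

theorem mult_eq_zero_iff (H : Subgroup G) [Fintype H] (χ : IrrCharacter G) :
    mult H χ = 0 ↔ ∑ h : H, (χ : G → ℂ) h = 0 := by
  have hH : (Nat.card H : ℂ) ≠ 0 := by exact_mod_cast Nat.card_pos.ne'
  rw [mult_spec, mul_eq_zero, or_iff_right hH, Nat.cast_eq_zero]

theorem mult_cIrr (H : Subgroup G) [Fintype H] (χ : IrrCharacter G) : mult H (cIrr χ) = mult H χ := by
  have hH : (Nat.card H : ℂ) ≠ 0 := by exact_mod_cast Nat.card_pos.ne'
  have h1 := mult_spec H (cIrr χ)
  rw [sum_cIrr, mult_spec] at h1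
  exact_mod_cast (mul_left_cancel₀ hH h1).symm

/-- the degree of the permutation character -/
theorem sum_deg_mult [Fintype (IrrCharacter G)] (H : Subgroup G) [Fintype H] :
    ∑ χ : IrrCharacter G, charDegree (χ : G → ℂ) * mult H χ = H.index := by
  classical
  have : Fintype G := Fintype.ofFinite G
  have hH : (Nat.card H : ℂ) ≠ 0 := by exact_mod_cast Nat.card_pos.ne'
  have h1 : ∑ χ : IrrCharacter G, (χ : G → ℂ) 1 * ∑ h : H, (χ : G → ℂ) h = (Nat.card G : ℂ) := by
    have h2 : ∀ χ : IrrCharacter G, (χ : G → ℂ) 1 * ∑ h : H, (χ : G → ℂ) h =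
        ∑ h : H, (χ : G → ℂ) 1 * (χ : G → ℂ) h := fun χ => Finset.mul_sum _ _ _
    rw [Finset.sum_congr rfl fun χ _ => h2 χ, Finset.sum_comm]
    have h3 : ∀ h : H, ∑ χ : IrrCharacter G, (χ : G → ℂ) 1 * (χ : G → ℂ) h =
        if h = 1 then (Nat.card G : ℂ) else 0 := by
      intro h
      rw [Characters.Counting.sum_irr_one_mul]
      simp only [OneMemClass.coe_eq_one]
    rw [Finset.sum_congr rfl fun h _ => h3 h, Finset.sum_ite_eq' Finset.univ (1 : H), if_pos (Finset.mem_univ _)]
  have h4 : (Nat.card H : ℂ) * ((∑ χ : IrrCharacter G, charDegree (χ : G → ℂ) * mult H χ : ℕ) : ℂ) =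
      (Nat.card H : ℂ) * (H.index : ℂ) := by
    rw [← Nat.cast_mul (Nat.card H) H.index, Subgroup.card_mul_index, ← h1, Nat.cast_sum, Finset.mul_sum]
    refine Finset.sum_congr rfl fun χ _ => ?_
    rw [mult_spec, H687.Irr.one_eq, Nat.cast_mul]
    ring
  exact_mod_cast mul_left_cancel₀ hH h4

/-- the trivial character -/
noncomputable def triv (G : Type u) [Group G] : IrrCharacter G := ⟨1, Characters.Core.isIrr_one⟩

theorem mult_triv (H : Subgroup G) [Fintype H] : mult H (triv G) = 1 := by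
  have hH : (Nat.card H : ℂ) ≠ 0 := by exact_mod_cast Nat.card_pos.ne'
  have h1 := mult_spec H (triv G)
  have h2 : ∑ h : H, ((triv G : IrrCharacter G) : G → ℂ) h = (Nat.card H : ℂ) := by
    show ∑ _h : H, (1 : ℂ) = _
    rw [Finset.sum_const, Finset.card_univ, nsmul_eq_mul, mul_one, Nat.card_eq_fintype_card]
  rw [h2] at h1
  have h3 : (Nat.card H : ℂ) * 1 = (Nat.card H : ℂ) * (mult H (triv G) : ℂ) := by rw [mul_one]; exact h1
  exact_mod_cast (mul_left_cancel₀ hH h3).symm

omit [Finite G] in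
theorem deg_triv : charDegree ((triv G : IrrCharacter G) : G → ℂ) = 1 := by
  have h1 := H687.Irr.one_eq (triv G)
  have h2 : ((triv G : IrrCharacter G) : G → ℂ) 1 = 1 := rfl
  rw [h2] at h1
  exact_mod_cast h1.symm

end Cfsg.Agent.H685.R4

private theorem dce_5e711e460858 : _root_.True := by
  try have : _root_.True := by simp only [_root_.Cfsg.Agent.H685.R4.cIrr.congr_simp]
  try have : _root_.True := by simp only [_root_.Cfsg.Agent.H685.R4.mult.congr_simp]
  exact _root_.True.intro
end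

-- part: H685/R4/Stein
section
prune_inst 0x4010000
set_option linter.all false
open scoped Cfsg.Agent.FastGrp

/-!
# The real extension of the Steinberg character (helper685, S4554)

* `char_inv` : the character of the Steinberg module of an overgroup is real;
* `rd_steinberg` : `RD G N (p ^ a)`, `p ^ a = |N|_p`, for a normal subgroup `N` with a split (B,N)-pair.
-/

set_option autoImplicit false

namespace Cfsg.Agent.H685.R4

open Cfsg Cfsg.Agent.LieExceptional.BNPairCore Cfsg.Agent.Tits.Core Cfsg.Agent.Tits.Core.Bldg Cfsg.Agent.Tits.OfBN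
  Cfsg.Agent.Schreier.BNSch Cfsg.Agent.Tits.OppRes Cfsg.Agent.FixBN.OfBN Cfsg.Agent.FixBN Representation
open Cfsg.Agent.H691.StExt
open scoped ComplexConjugate

section

variable {I : Type*} {M : CoxeterMatrix I} {W : Type*} [Group W] {cs : CoxeterSystem M W} {C : Type*}
  [Fintype C] (Δ : Bldg cs C)

/-- the bilinear form on the Steinberg module -/
noncomputable def bil : H163.Steinberg.St Δ →ₗ[ℂ] Module.Dual ℂ (H163.Steinberg.St Δ) :=
  LinearMap.mk₂ ℂ (fun f f' => ∑ x : C, (f : C → ℂ) x * (f' : C → ℂ) x)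
    (fun f g h => by
      rw [← Finset.sum_add_distrib]
      refine Finset.sum_congr rfl fun x _ => ?_
      rw [Submodule.coe_add, Pi.add_apply]
      ring)
    (fun c f h => by
      rw [smul_eq_mul, Finset.mul_sum]
      refine Finset.sum_congr rfl fun x _ => ?_
      rw [Submodule.coe_smul, Pi.smul_apply, smul_eq_mul]
      ring)
    (fun f g h => by
      rw [← Finset.sum_add_distrib]
      refine Finset.sum_congr rfl fun x _ => ?_
      rw [Submodule.coe_add, Pi.add_apply]
      ring)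
    (fun c f h => by
      rw [smul_eq_mul, Finset.mul_sum]
      refine Finset.sum_congr rfl fun x _ => ?_
      rw [Submodule.coe_smul, Pi.smul_apply, smul_eq_mul]
      ring)

theorem bil_apply (f f' : H163.Steinberg.St Δ) :
    bil Δ f f' = ∑ x : C, (f : C → ℂ) x * (f' : C → ℂ) x := rfl

theorem conj_mem {f : C → ℂ} (hf : f ∈ H163.Steinberg.St Δ) : (fun x => conj (f x)) ∈ H163.Steinberg.St Δ := by
  classical
  intro i x
  have h1 := hf i x
  unfold H163.Steinberg.psum at h1 ⊢
  have h2 := congrArg (starRingEnd ℂ) h1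
  rw [map_zero, map_sum] at h2
  refine Eq.trans ?_ h2
  refine Finset.sum_congr rfl fun y _ => ?_
  by_cases hy : y ∈ Δ.Pan i x
  · rw [if_pos hy, if_pos hy]
  · rw [if_neg hy, if_neg hy, map_zero]

theorem bil_injective : Function.Injective (bil Δ) := by
  rw [← LinearMap.ker_eq_bot, LinearMap.ker_eq_bot']
  intro f hf
  have h1 : bil Δ f ⟨_, conj_mem Δ f.2⟩ = 0 := by rw [hf]; rfl
  rw [bil_apply] at h1
  have h2 : ∑ x : C, (((f : C → ℂ) x * conj ((f : C → ℂ) x)) : ℂ) = ((∑ x : C, ‖(f : C → ℂ) x‖ ^ 2 : ℝ) : ℂ) := by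
    rw [Complex.ofReal_sum]
    refine Finset.sum_congr rfl fun x _ => ?_
    rw [Complex.mul_conj, Complex.normSq_eq_norm_sq]
  have h3 : (∑ x : C, ‖(f : C → ℂ) x‖ ^ 2 : ℝ) = 0 := by
    have h4 : ((∑ x : C, ‖(f : C → ℂ) x‖ ^ 2 : ℝ) : ℂ) = 0 := by rw [← h2]; exact h1
    exact_mod_cast h4
  rw [Finset.sum_eq_zero_iff_of_nonneg (fun x _ => by positivity)] at h3
  apply Subtype.ext
  funext x
  have h5 := h3 x (Finset.mem_univ x)
  simpa using h5

/-- **The Steinberg module of an overgroup is self-dual.** -/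
theorem char_inv {A : Type*} [Group A] [MulAction A C]
    (h : ∀ (a : A) (i : I) (x : C), ∃ j, ∀ y, y ∈ Δ.Pan i x ↔ a • y ∈ Δ.Pan j (a • x)) (a : A) :
    (repA Δ h).character a⁻¹ = (repA Δ h).character a := by
  classical
  have hfd : FiniteDimensional ℂ (H163.Steinberg.St Δ) := inferInstance
  have hbij : Function.Bijective (bil Δ) :=
    ⟨bil_injective Δ, (LinearMap.injective_iff_surjective_of_finrank_eq_finrank
      (Subspace.dual_finrank_eq).symm).1 (bil_injective Δ)⟩
  let e := LinearEquiv.ofBijective (bil Δ) hbij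
  have he : ∀ f, e f = bil Δ f := fun f => rfl
  have hint : ∀ f f', bil Δ (repA Δ h a f) f' = bil Δ f (repA Δ h a⁻¹ f') := by
    intro f f'
    rw [bil_apply, bil_apply]
    refine (Fintype.sum_equiv (MulAction.toPerm a) _ _ fun x => ?_).symm
    change (f : C → ℂ) x * (f' : C → ℂ) (a⁻¹⁻¹ • x) = (f : C → ℂ) (a⁻¹ • a • x) * (f' : C → ℂ) (a • x)
    rw [inv_inv, inv_smul_smul]
  have hconj : e.conj (repA Δ h a) = Module.Dual.transpose (repA Δ h a⁻¹) := by
    refine LinearMap.ext fun φ => LinearMap.ext fun f' => ?_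
    obtain ⟨f, rfl⟩ := e.surjective φ
    rw [LinearEquiv.conj_apply_apply, e.symm_apply_apply, he, he, hint]
    rfl
  show LinearMap.trace ℂ _ (repA Δ h a⁻¹) = LinearMap.trace ℂ _ (repA Δ h a)
  rw [← LinearMap.trace_conj' (repA Δ h a) e, hconj, LinearMap.trace_transpose']

end

/-- **The Steinberg character extends to a real character.** -/
theorem exists_ext_hom {K : Type*} [Group K] [Finite K] {A : Type*} [Group A] {p : ℕ} [Fact p.Prime]
    (h : FixBN.HasSplit p K) (f : K →* A) (ψ : A →* MulAut K) (hψ : ∀ k, ψ (f k) = MulAut.conj k) :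
    ∃ χ : A → ℂ, IsIrrCharacter A χ ∧ IsIrrCharacter K (χ ∘ f) ∧ (∀ Q : Sylow p K, χ 1 = Nat.card Q) ∧
      ∀ a, χ a⁻¹ = χ a := by
  classical
  obtain ⟨P, U, -, S⟩ := h
  have hN : ((P.B ⊓ P.N).subgroupOf P.N).Normal := Tits.OfBN.normal_subgroupOf P
  obtain ⟨M, cs, hcs⟩ := S0320.result P
  have Sy := FixBN.OfBN.sys (Equiv.refl P.S) cs hcs S
  have : Fintype (K ⧸ P.B) := Fintype.ofFinite _
  let act : MulAction A (K ⧸ P.B) :=
    { smul := fun a x => th S (ψ a) x
      one_smul := by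
        intro x
        show th S (ψ 1) x = x
        rw [map_one, ← map_one (MulAut.conj : K →* MulAut K), th_conj, one_smul]
      mul_smul := by
        intro a b x
        show th S (ψ (a * b)) x = th S (ψ a) (th S (ψ b) x)
        rw [map_mul]
        exact th_mul S (ψ a) (ψ b) x }
  have hsmul : ∀ (k : K) (x : K ⧸ P.B), f k • x = k • x := by
    intro k x
    show th S (ψ (f k)) x = k • x
    rw [hψ, th_conj]
  have hpan : ∀ (a : A) (i : P.S) (x : K ⧸ P.B), ∃ j, ∀ y,
      y ∈ (bldg P (Equiv.refl P.S) cs hcs).Pan i x ↔ a • y ∈ (bldg P (Equiv.refl P.S) cs hcs).Pan j (a • x) :=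
    fun a i x => th_pan S (Equiv.refl P.S) cs hcs (ψ a) i x
  set ρ := repA (bldg P (Equiv.refl P.S) cs hcs) (A := A) hpan with hρ
  have hrestr : (ρ.comp f : Representation ℂ K _) = H163.Steinberg.rep (G := K) Sy.iso := by
    refine MonoidHom.ext fun k => LinearMap.ext fun v => Subtype.ext ?_
    funext x
    change (v : _ → ℂ) ((f k)⁻¹ • x) = (v : _ → ℂ) (k⁻¹ • x)
    rw [← map_inv, hsmul]
  obtain ⟨c0⟩ : Nonempty (K ⧸ P.B) := ⟨QuotientGroup.mk 1⟩
  have hopp : ∀ c, ∃ d, (bldg P (Equiv.refl P.S) cs hcs).Opp c d := fun c => Tits.Opp.exists_opp _ c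
  have hirr := H163.Steinberg.isIrreducible Sy (fun x y => MulAction.exists_smul_eq K x y) c0 (hopp c0)
  have hirrA : ρ.IsIrreducible := isIrreducible_of_restrict ρ f (by rw [hrestr]; exact hirr)
  have hchar : ρ.character ∘ f = (H163.Steinberg.rep (G := K) Sy.iso).character := by
    rw [← hrestr]
    rfl
  refine ⟨ρ.character, Characters.Core.isIrrCharacter_of_rep _ hirrA, ?_, fun Q => ?_, fun a => char_inv _ hpan a⟩
  · rw [hchar]
    exact Characters.Core.isIrrCharacter_of_rep _ hirr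
  · obtain ⟨c, hc⟩ := Sy.exists_fix Q Q.isPGroup'
    have hQ : (Q : Subgroup K) = Sy.U c :=
      (Q.is_maximal' (Sy.isP c) (Sy.max c Q Q.isPGroup' hc)).symm
    have h1 := congrFun hchar 1
    rw [Function.comp_apply, map_one] at h1
    rw [h1, H163.Steinberg.character_apply Sy c (hopp c) 1 (one_mem _), if_pos rfl, ← hQ]

universe u

theorem im_eq_zero {G : Type u} [Group G] [Finite G] {χ : G → ℂ} (hχ : IsIrrCharacter G χ)
    (h : ∀ g, χ g⁻¹ = χ g) (g : G) : (χ g).im = 0 := by
  have h1 := Characters.Core.isCharacter_apply_inv (Characters.Core.isIrr_isCharacter hχ) g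
  rw [h] at h1
  exact Complex.conj_eq_iff_im.1 h1.symm

/-- **The real Steinberg character of an almost simple group.** -/
theorem rd_steinberg {G : Type u} [Group G] [Finite G] (N : Subgroup G) [N.Normal] {p : ℕ} [Fact p.Prime]
    (h : FixBN.HasSplit p N) (hp : p ∣ Nat.card N) : H619.R4.RD G N (p ^ (Nat.card N).factorization p) := by
  classical
  have := Fintype.ofFinite N
  obtain ⟨χ, h1, h2, h3, h4⟩ := exists_ext_hom h N.subtype MulAut.conjNormal (fun k => by
    ext x
    simp)
  have hd : χ 1 = ((p ^ (Nat.card N).factorization p : ℕ) : ℂ) := by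
    have Q : Sylow p N := default
    rw [h3 Q, Q.card_eq_multiplicity]
  have hone : 1 < p ^ (Nat.card N).factorization p := by
    refine Nat.one_lt_pow ?_ (Fact.out : p.Prime).one_lt
    exact ((Fact.out : p.Prime).factorization_pos_of_dvd Nat.card_pos.ne' hp).ne'
  refine ⟨⟨χ, h1⟩, im_eq_zero h1 h4, ?_, H687.charDegree_of_eq hd⟩
  by_contra hcon
  push Not at hcon
  -- then the restriction is the multiple of the trivial character
  have h5 : ∀ n : N, (χ ∘ N.subtype) n = χ 1 := fun n => hcon n n.2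
  have h6 := Characters.Core.classInner_irr_self h2
  rw [Characters.Core.classInner_def] at h6
  have h7 : ∑ g : N, (χ ∘ N.subtype) g * conj ((χ ∘ N.subtype) g) = (Nat.card N : ℂ) * (χ 1 * conj (χ 1)) := by
    rw [Finset.sum_congr rfl fun n _ => by rw [h5 n], Finset.sum_const, Finset.card_univ, nsmul_eq_mul,
      Nat.card_eq_fintype_card]
  rw [h7, inv_mul_cancel_left₀ (by exact_mod_cast Nat.card_pos.ne'), hd, map_natCast] at h6
  have h8 : (p ^ (Nat.card N).factorization p) * (p ^ (Nat.card N).factorization p) = 1 := by exact_mod_cast h6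
  have h9 := Nat.mul_le_mul hone.le hone.le
  nlinarith

end Cfsg.Agent.H685.R4
end

-- part: H494/R4/PointOdd
section
prune_inst 0x80000000000000000000000000004010000
set_option linter.all false
open scoped Cfsg.Agent.FastGrp

/-!
# Sylow-stable real characters of odd degree (helper494, S4554)

* `exists_fixed_aut` : a `2`-group of automorphisms fixes an irreducible character in a stable set of odd size;
* `exists_odd_at` : `x ≠ 1` real with a class stable under the `2`-group `T` of automorphisms: a `T`-stable real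
  irreducible character of odd degree, not `1`, not zero at `x`;
* `rd_odd` : the degrees in `G`.
-/

set_option autoImplicit false
set_option linter.unusedSectionVars false

namespace Cfsg.Agent.H494.R4

open Cfsg Cfsg.Agent.Characters Cfsg.Agent.Blocks Cfsg.Agent.H686.CharKit
open Cfsg.Agent.H727.Orth Cfsg.Agent.H619.R4
open Cfsg.Agent.H705.StrongLin (ind ind_eq real_of_ind)
open Cfsg.Agent.H694 (ind_cases ind_eq_zero_iff cj cj_cj charDegree_cj sum_eq_sum_real real_of_ind_ne)
open scoped ComplexConjugate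

universe u

section

variable {S : Type u} [Group S] [Finite S]

/-- the action of an automorphism on characters -/
noncomputable def autIrr (a : MulAut S) (χ : IrrCharacter S) : IrrCharacter S :=
  ⟨fun s => (χ : S → ℂ) (a⁻¹ s), Core.isIrr_comp (a⁻¹ : MulAut S).toMonoidHom (a⁻¹ : MulAut S).surjective χ.2⟩

theorem autIrr_apply (a : MulAut S) (χ : IrrCharacter S) (s : S) : (autIrr a χ : S → ℂ) s = (χ : S → ℂ) (a⁻¹ s) := rfl

/-- A `2`-group of automorphisms fixes a character in a stable set of odd size. -/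
theorem exists_fixed_aut (T : Subgroup (MulAut S)) (hT : IsPGroup 2 T) (X : Set (IrrCharacter S))
    (hX : Odd (Nat.card X)) (hinv : ∀ a ∈ T, ∀ χ ∈ X, autIrr a χ ∈ X) :
    ∃ χ ∈ X, T ≤ stab (χ : S → ℂ) := by
  classical
  let act : MulAction T X :=
    { smul := fun a χ => ⟨autIrr (a : MulAut S) χ.1, hinv _ a.2 _ χ.2⟩
      one_smul := fun χ => Subtype.ext (Subtype.ext (by
        funext s
        show (χ.1 : S → ℂ) (((1 : MulAut S)⁻¹ : MulAut S) s) = _
        rw [inv_one]
        rfl))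
      mul_smul := fun a b χ => Subtype.ext (Subtype.ext (by
        funext s
        show (χ.1 : S → ℂ) ((((a : MulAut S) * b)⁻¹ : MulAut S) s) =
          (χ.1 : S → ℂ) ((b : MulAut S)⁻¹ ((a : MulAut S)⁻¹ s))
        rw [mul_inv_rev]
        rfl)) }
  have := Core.finite_irr (G := S)
  haveI : Fact (Nat.Prime 2) := ⟨Nat.prime_two⟩
  have h1 := hT.card_modEq_card_fixedPoints X
  have h2 : Odd (Nat.card (MulAction.fixedPoints T X)) := by
    rw [Nat.odd_iff] at hX ⊢
    rw [← hX]
    exact h1.symm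
  obtain ⟨χ, hχ⟩ : (MulAction.fixedPoints T X).Nonempty := by
    rw [Set.nonempty_iff_ne_empty]
    intro h3
    rw [h3] at h2
    simp at h2
  refine ⟨χ.1, χ.2, fun a ha s => ?_⟩
  have h3 : ((⟨a⁻¹, T.inv_mem ha⟩ : T) • χ : X) = χ := hχ _
  have h4 := congrFun (congrArg (fun z : X => (z.1 : S → ℂ)) h3) s
  have h5 : (χ.1 : S → ℂ) (((a⁻¹)⁻¹ : MulAut S) s) = (χ.1 : S → ℂ) s := h4
  rwa [inv_inv] at h5

/-- **Parity at an element.** -/
theorem exists_odd_at {x : S} (hx : x ≠ 1) (hr : IsConj x x⁻¹) (T : Subgroup (MulAut S)) (hst : ∀ a ∈ T, IsConj x (a x))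
    (hT : IsPGroup 2 T) :
    ∃ χ : IrrCharacter S, (∀ s, ((χ : S → ℂ) s).im = 0) ∧ Odd (charDegree (χ : S → ℂ)) ∧
      (χ : S → ℂ) ≠ 1 ∧ (χ : S → ℂ) x ≠ 0 ∧ T ≤ stab (χ : S → ℂ) := by
  classical
  have := Fintype.ofFinite S
  have := Core.finite_irr (G := S)
  have := Fintype.ofFinite (IrrCharacter S)
  have hint : ∀ χ : IrrCharacter S, (χ : S → ℂ) x ∈ integralClosure ℤ ℂ := fun χ =>
    Characters.GaloisBasic.isIntegral_apply (Core.isIrr_isCharacter χ.2) x
  obtain ⟨v, hv⟩ : ∃ v : IrrCharacter S → OI, ∀ χ, ((v χ : OI) : ℂ) = (χ : S → ℂ) x :=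
    ⟨fun χ => ⟨_, hint χ⟩, fun _ => rfl⟩
  obtain ⟨one, hone⟩ : ∃ one : IrrCharacter S, (one : S → ℂ) = 1 := ⟨⟨1, Core.isIrr_one⟩, rfl⟩
  obtain ⟨f, hf⟩ : ∃ f : IrrCharacter S → O2, ∀ χ, f χ = red ((charDegree (χ : S → ℂ) : OI) * v χ) :=
    ⟨_, fun _ => rfl⟩
  have hcl : ∀ (χ : IrrCharacter S) {a b : S}, IsConj a b → (χ : S → ℂ) a = (χ : S → ℂ) b := by
    intro χ a b h
    obtain ⟨c, rfl⟩ := isConj_iff.1 h
    exact (Core.isIrr_isClassFunction χ.2 a c).symm
  -- the sum of all terms is zero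
  have h1 : ∑ χ : IrrCharacter S, f χ = 0 := by
    have h2 : ∑ χ : IrrCharacter S, ((charDegree (χ : S → ℂ) : OI) * v χ) = 0 := by
      have h3 := Characters.Counting.sum_irr_one_mul x
      rw [if_neg hx] at h3
      apply Subtype.ext
      push_cast
      rw [← h3]
      refine Finset.sum_congr rfl fun χ _ => ?_
      rw [hv, Cfsg.Agent.Blocks.Basic.irr_one_eq_charDegree χ.2]
    rw [Finset.sum_congr rfl fun χ _ => hf χ, ← map_sum, h2, map_zero]
  have hfone : f one = 1 := by
    rw [hf]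
    have h2 : charDegree (one : S → ℂ) = 1 := by
      have h3 := Cfsg.Agent.Blocks.Basic.irr_one_eq_charDegree one.2
      rw [hone, Pi.one_apply] at h3
      rw [hone]
      exact_mod_cast h3.symm
    have h3 : v one = 1 := by
      apply Subtype.ext
      rw [hv, hone]
      rfl
    rw [h2, h3, Nat.cast_one, one_mul, map_one]
  have hcj : ∀ χ, f (cj χ) = f χ := by
    intro χ
    rw [hf, hf, charDegree_cj]
    congr 2
    apply Subtype.ext
    rw [hv, hv]
    show conj ((χ : S → ℂ) x) = _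
    rw [← Core.isCharacter_apply_inv (Core.isIrr_isCharacter χ.2)]
    exact (hcl χ hr).symm
  have h2 := sum_eq_sum_real add_self_zero f hcj
  rw [h1] at h2
  have h3 : ∑ᶠ χ ∈ {χ : IrrCharacter S | ind (χ : S → ℂ) ≠ 0}, f χ =
      ∑ χ ∈ Finset.univ.filter (fun χ : IrrCharacter S => ind (χ : S → ℂ) ≠ 0), f χ := by
    rw [← finsum_mem_coe_finset]
    congr 1
    funext χ
    simp
  rw [h3] at h2
  have hind1 : ind (one : S → ℂ) ≠ 0 := by
    intro h
    obtain ⟨s, hs⟩ := (ind_eq_zero_iff one.2).1 h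
    rw [hone] at hs
    simp at hs
  have h4 : one ∈ Finset.univ.filter (fun χ : IrrCharacter S => ind (χ : S → ℂ) ≠ 0) := by
    rw [Finset.mem_filter]
    exact ⟨Finset.mem_univ _, hind1⟩
  rw [← Finset.add_sum_erase _ _ h4, hfone] at h2
  have h5 : ∑ χ ∈ (Finset.univ.filter (fun χ : IrrCharacter S => ind (χ : S → ℂ) ≠ 0)).erase one, f χ ≠ 0 := by
    intro h
    rw [h, add_zero] at h2
    exact one_ne_zero h2.symm
  obtain ⟨r, hr0, hrodd⟩ := exists_odd_fiber add_self_zero f _ h5
  obtain ⟨X, hX⟩ : ∃ X : Set (IrrCharacter S), X = {χ : IrrCharacter S | (ind (χ : S → ℂ) ≠ 0 ∧ χ ≠ one) ∧ f χ = r} := ⟨_, rfl⟩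
  have hXc : Odd (Nat.card X) := by
    have h6 : Nat.card X = (((Finset.univ.filter (fun χ : IrrCharacter S => ind (χ : S → ℂ) ≠ 0)).erase one).filter
        fun χ : IrrCharacter S => f χ = r).card := by
      rw [Nat.card_eq_fintype_card, ← Set.toFinset_card]
      congr 1
      ext χ
      rw [Set.mem_toFinset, hX, Finset.mem_filter, Finset.mem_erase, Finset.mem_filter]
      exact ⟨fun h => ⟨⟨h.1.2, Finset.mem_univ _, h.1.1⟩, h.2⟩, fun h => ⟨⟨h.1.2.2, h.1.1⟩, h.2⟩⟩
    rw [h6]
    exact hrodd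
  obtain ⟨χ, hχX, hχT⟩ := exists_fixed_aut T hT X hXc (by
    intro a haT χ hχ
    rw [hX] at hχ ⊢
    obtain ⟨⟨h6, h7⟩, h8⟩ := hχ
    refine ⟨⟨?_, ?_⟩, ?_⟩
    · intro h9
      apply h6
      obtain ⟨s, hs⟩ := (ind_eq_zero_iff (autIrr a χ).2).1 h9
      exact (ind_eq_zero_iff χ.2).2 ⟨_, hs⟩
    · intro h9
      apply h7
      apply Subtype.ext
      rw [hone]
      funext s
      have h10 := congrFun (congrArg (fun z : IrrCharacter S => (z : S → ℂ)) h9) (a s)
      have h11 : (χ : S → ℂ) (a⁻¹ (a s)) = (one : S → ℂ) (a s) := h10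
      rw [MulAut.inv_apply_self, hone] at h11
      exact h11
    · rw [← h8, hf, hf]
      have h9 : charDegree (autIrr a χ : S → ℂ) = charDegree (χ : S → ℂ) := by
        have h10 : (charDegree (autIrr a χ : S → ℂ) : ℂ) = charDegree (χ : S → ℂ) := by
          rw [← Cfsg.Agent.Blocks.Basic.irr_one_eq_charDegree (autIrr a χ).2,
            ← Cfsg.Agent.Blocks.Basic.irr_one_eq_charDegree χ.2, autIrr_apply, map_one]
        exact_mod_cast h10
      rw [h9]
      congr 2
      apply Subtype.ext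
      rw [hv, hv, autIrr_apply]
      exact (hcl χ (hst a⁻¹ (T.inv_mem haT))).symm)
  rw [hX] at hχX
  obtain ⟨⟨h6, h7⟩, h8⟩ := hχX
  have h9 : f χ ≠ 0 := by rw [h8]; exact hr0
  rw [hf, map_mul] at h9
  refine ⟨χ, fun s => real_of_ind_ne χ.2 h6 s, ?_, ?_, ?_, hχT⟩
  · by_contra ho
    rw [Nat.not_odd_iff_even] at ho
    obtain ⟨k, hk⟩ := ho
    apply h9
    have h10 : ((charDegree (χ : S → ℂ) : ℕ) : OI) = 2 * (k : OI) := by
      rw [hk]
      push_cast
      ring
    rw [h10, red_two_mul, zero_mul]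
  · intro h10
    exact h7 (Subtype.ext (h10.trans hone.symm))
  · intro h10
    apply h9
    have h11 : v χ = 0 := by
      apply Subtype.ext
      rw [hv, h10]
      rfl
    rw [h11, map_zero, mul_zero]

end

/-- **Odd degrees from Sylow-stable characters.** -/
theorem rd_odd {S : Type u} [Group S] [Finite S] (hc : Subgroup.center S = ⊥) (hp : pResidual 2 S = ⊤)
    (T : Sylow 2 (MulAut S)) {θ : S → ℂ} (h1 : IsIrrCharacter S θ) (hr : ∀ s, (θ s).im = 0)
    (ho : Odd (charDegree θ)) (hT : (T : Subgroup (MulAut S)) ≤ stab θ) (hne : ∃ s, θ s ≠ θ 1)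
    {G : Type u} [Group G] [Finite G] (N : Subgroup G) [N.Normal] (f : S ≃* N)
    (hC : Subgroup.centralizer (N : Set G) = ⊥) : ∃ k, Odd k ∧ RD G N (k * charDegree θ) := by
  classical
  haveI : Fact (Nat.Prime 2) := ⟨Nat.prime_two⟩
  let Q : Sylow 2 G := default
  let Q' : Subgroup (MulAut S) := (Q : Subgroup G).map (act N f)
  have hQ' : IsPGroup 2 Q' := Q.2.map _
  obtain ⟨T', hT'⟩ := hQ'.exists_le_sylow
  obtain ⟨b, hb⟩ := MulAction.exists_smul_eq (MulAut S) T' T
  -- the conjugate character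
  have h2 : IsIrrCharacter S (fun s => θ (b s)) := Core.isIrr_comp b.toMonoidHom b.surjective h1
  have h3 : (charDegree fun s => θ (b s)) = charDegree θ := by
    rw [charDegree, charDegree, map_one]
  have h4 := oext_of_odd hc hp h2 (fun s => hr _) (by rw [h3]; exact ho)
  obtain ⟨s, hs⟩ := hne
  have h5 := rd_of_oext h2 ⟨b⁻¹ s, by
    show θ (b (b⁻¹ s)) ≠ θ (b 1)
    rw [MulAut.apply_inv_self, map_one]
    exact hs⟩ h4 N f
  rw [h3] at h5
  refine ⟨_, ?_, h5⟩
  have h6 : (Q : Subgroup G) ≤ stb N f (fun s => θ (b s)) := by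
    intro g hg
    have h7 : act N f g ∈ (T' : Subgroup (MulAut S)) := hT' ⟨g, hg, rfl⟩
    have h8 : b * act N f g * b⁻¹ ∈ (T : Subgroup (MulAut S)) := by
      rw [← hb]
      exact ⟨act N f g, h7, rfl⟩
    have h9 := hT h8
    intro s
    show θ (b (act N f g s)) = θ (b s)
    have h10 := h9 (b s)
    have h11 : (b * act N f g * b⁻¹ : MulAut S) (b s) = b (act N f g s) := by
      show b (act N f g (b⁻¹ (b s))) = _
      rw [MulAut.inv_apply_self]
    rwa [h11] at h10
  have h7 : Odd (Q : Subgroup G).index := by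
    have := Q.not_dvd_index
    exact Nat.odd_iff.2 (by omega)
  exact h7.of_dvd_nat (Subgroup.index_dvd_of_le h6)

end Cfsg.Agent.H494.R4
end
end
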