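import Cfsg.Agent.H612.WModel
import Cfsg.Agent.H612.RowsTab
import Mathlib
import Cfsg.Agent.H685.R4.Base_m3
import Cfsg.Agent.H612.BNAut
import Cfsg.Agent.H687.BNGeo
import Cfsg.Agent.Tits.Chart
import Cfsg.Agent.H949.LieDZ
import Cfsg.Agent.H967.ThInv
import Cfsg.Agent.H949.SubInv
import Cfsg.Agent.H494.R4.OddExt_m3
import Cfsg.Agent.H519.LieRank
import Cfsg.Agent.H612.ModA_m3
import Cfsg.Agent.LieRecognition.CoxForm
import Cfsg.Agent.H742.PanU_m3
import Cfsg.Agent.Lib.FinFast
import Cfsg.Agent.H90.R4.Prime_m3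
import Cfsg.Agent.H696.OddIndex
import Cfsg.Agent.H597.Degrees
import Cfsg.Agent.H672.Over
import Cfsg.Agent.H700.PRat
import Cfsg.Agent.H700.PRatExt
import Cfsg.Agent.S0862
import Cfsg.Agent.S0866
import Cfsg.Agent.S1489
import Cfsg.Agent.H579.RR.Psl2Real
import Cfsg.Agent.H597.L2Row
import Cfsg.Agent.H979.LieSplit
import Cfsg.Agent.S0165
import Cfsg.Agent.FastGrp
import Cfsg.Agent.Prune
set_option linter.all false

section
prune_inst 0x7f9cfdf8aba8addedfff7e3ffedddffaf1a4efffe6dff943bfe4299f8fdf6b0289656b850fe050ff1ed660b610b87803fd7eceffe86bdc7ffffd5ff41ffbee4fe5f7b508519c88b40f382ffe03e07f8e6f3fffffffffffffffffffffffffffbefffffbfeffff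

-- part: H685/R4/WInv
section
set_option linter.all false
open scoped Cfsg.Agent.FastGrp

/-!
# Self-paired double cosets in Coxeter groups (helper685, S4554)

`ColK m K κ` : a colouring of a model of `W_J \ W` whose classes are the components under the moves of `K`.

* `ColK.iff` : the colour of `w` determines `W_J w W_K`;
* `ColK.last` : a map permuting the double cosets and fixing all but one of them fixes all;
* `ColK.hR1` : double cosets closed under inversion;
* `ColK.hR2` : the same twisted by an automorphism interchanging `J` and `K`.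
-/

set_option autoImplicit false
set_option linter.unusedSectionVars false

namespace Cfsg.Agent.H685.R4.WInv

open CoxeterSystem Cfsg.Agent.ChevalleyStructure.CoxeterGeom Cfsg.Agent.Tits.Roots
  Cfsg.Agent.Tits.Core Cfsg.Agent.H905.DC Cfsg.Agent.H612.WModel

variable {I W : Type*} [Fintype I] [DecidableEq I] [Group W] {M : CoxeterMatrix I}
  (cs : CoxeterSystem M W) {A : I → I → ℤ} (h : IsCartan M A) {Ω : Type*} {l : I → ℤ}

/-- a colouring whose classes are the components under the moves of `K` -/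
structure ColK (m : Model A l Ω) (K : Set I) (κ : Type*) where
  /-- the colour -/
  c : Ω → κ
  inv : ∀ j ∈ K, ∀ ω, c (m.a j ω) = c ω
  /-- base points -/
  b : κ → Ω
  conn : ∀ ω, Relation.ReflTransGen (fun x y => ∃ j ∈ K, y = m.a j x) (b (c ω)) ω

/-- the colouring of a `Col` -/
def ofCol {m : Model A l Ω} {κ : Type*} (C : m.Col κ) : ColK m {i | l i = 0} κ where
  c := C.c
  inv := fun j hj ω => C.inv j hj ω
  b := C.b
  conn := C.conn

variable {m : Model A l Ω} {K : Set I} {κ : Type*} (C : ColK m K κ)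

theorem ColK.inv_pos {w v : W} (hv : v ∈ WJ cs K) : C.c (m.pos cs h (w * v)) = C.c (m.pos cs h w) := by
  unfold WJ at hv
  induction hv using Subgroup.closure_induction generalizing w with
  | mem x hx =>
    obtain ⟨j, hj, rfl⟩ := hx
    rw [Model.pos_mul_simple]
    exact C.inv j hj _
  | one => rw [mul_one]
  | mul x y _ _ hx hy => rw [← mul_assoc, hy, hx]
  | inv x _ hx =>
    have := hx (w := w * x⁻¹)
    rw [inv_mul_cancel_right] at this
    exact this.symm

theorem ColK.iff (h0 : ∀ i, 0 ≤ l i) {w w' : W} : C.c (m.pos cs h w) = C.c (m.pos cs h w') ↔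
    ∃ a ∈ WJ cs {i | l i = 0}, ∃ b ∈ WJ cs K, w' = a * w * b := by
  constructor
  · intro hc
    have h1 := C.conn (m.pos cs h w)
    have h2 := C.conn (m.pos cs h w')
    rw [hc] at h1
    obtain ⟨v, hv, hv'⟩ := m.exists_of_reach cs h ((m.conn_symm h h1).trans h2)
    exact ⟨w' * (w * v)⁻¹, (m.pos_eq_iff cs h h0).1 hv', v, hv, by group⟩
  · rintro ⟨a, ha, b, hb, rfl⟩
    rw [C.inv_pos cs h hb]
    congr 1
    rw [m.pos_eq_iff cs h h0]
    have : w * (a * w)⁻¹ = a⁻¹ := by group
    rw [this]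
    exact inv_mem ha

/-- **A map permuting the double cosets and fixing all but one of them fixes all.** -/
theorem ColK.last (τ : W → W)
    (hτ : ∀ w w', C.c (m.pos cs h (τ w)) = C.c (m.pos cs h (τ w')) ↔ C.c (m.pos cs h w) = C.c (m.pos cs h w'))
    (k0 : κ) (hrep : ∀ k, k ≠ k0 → ∃ w, C.c (m.pos cs h w) = k ∧ C.c (m.pos cs h (τ w)) = k) (w : W) :
    C.c (m.pos cs h (τ w)) = C.c (m.pos cs h w) := by
  by_cases hw : C.c (m.pos cs h w) = k0
  · by_contra hne
    obtain ⟨v, hv, hv'⟩ := hrep (C.c (m.pos cs h (τ w))) (by rw [← hw]; exact hne)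
    have h1 := (hτ w v).1 hv'.symm
    rw [hv] at h1
    exact hne h1.symm
  · obtain ⟨v, hv, hv'⟩ := hrep _ hw
    rw [← hv', hτ]
    exact hv.symm

/-- **Double cosets closed under inversion.** -/
theorem ColK.hR1 {C : ColK m {i | l i = 0} κ} (h0 : ∀ i, 0 ≤ l i) (k0 : κ)
    (hrep : ∀ k, k ≠ k0 → ∃ w : W, C.c (m.pos cs h w) = k ∧ C.c (m.pos cs h w⁻¹) = k) (w : W) :
    ∃ a ∈ WJ cs {i | l i = 0}, ∃ b ∈ WJ cs {i | l i = 0}, w⁻¹ = a * w * b := by
  refine (C.iff cs h h0).1 ((C.last cs h (fun w => w⁻¹) (fun v w => ?_) k0 hrep w).symm)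
  rw [C.iff cs h h0, C.iff cs h h0]
  constructor
  · rintro ⟨a, ha, b, hb, hab⟩
    refine ⟨b⁻¹, inv_mem hb, a⁻¹, inv_mem ha, ?_⟩
    rw [← inv_inj, hab]
    group
  · rintro ⟨a, ha, b, hb, rfl⟩
    exact ⟨b⁻¹, inv_mem hb, a⁻¹, inv_mem ha, by group⟩

/-- the image of a parabolic subgroup -/
theorem map_mem {σ : I → I} {J K : Set I} (hJK : ∀ j ∈ J, σ j ∈ K) {φ : W → W}
    (hφ : ∀ v w, φ (v * w) = φ v * φ w) (hφs : ∀ i, φ (cs.simple i) = cs.simple (σ i)) {w : W} (hw : w ∈ WJ cs J) :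
    φ w ∈ WJ cs K := by
  have h1 : φ 1 = 1 := by
    have := hφ 1 1
    rw [mul_one] at this
    exact mul_eq_left.1 this.symm
  unfold WJ at hw
  induction hw using Subgroup.closure_induction with
  | mem x hx =>
    obtain ⟨j, hj, rfl⟩ := hx
    rw [hφs]
    exact Subgroup.subset_closure ⟨_, hJK j hj, rfl⟩
  | one => rw [h1]; exact one_mem _
  | mul x y _ _ hx hy => rw [hφ]; exact mul_mem hx hy
  | inv x _ hx =>
    have h2 := hφ x⁻¹ x
    rw [inv_mul_cancel, h1] at h2
    rw [← inv_eq_of_mul_eq_one_left h2.symm]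
    exact inv_mem hx

theorem exists_mem {σ : Equiv.Perm I} {J K : Set I} (hJK : σ '' J = K) {φ : W → W}
    (hφ : ∀ v w, φ (v * w) = φ v * φ w) (hφs : ∀ i, φ (cs.simple i) = cs.simple (σ i)) {w : W} (hw : w ∈ WJ cs K) :
    ∃ v ∈ WJ cs J, φ v = w := by
  have h1 : φ 1 = 1 := by
    have := hφ 1 1
    rw [mul_one] at this
    exact mul_eq_left.1 this.symm
  unfold WJ at hw
  induction hw using Subgroup.closure_induction with
  | mem x hx =>
    obtain ⟨j, hj, rfl⟩ := hx
    rw [← hJK] at hj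
    obtain ⟨i, hi, rfl⟩ := hj
    exact ⟨_, Subgroup.subset_closure ⟨i, hi, rfl⟩, hφs i⟩
  | one => exact ⟨1, one_mem _, h1⟩
  | mul x y _ _ hx hy =>
    obtain ⟨v, hv, rfl⟩ := hx
    obtain ⟨w, hw, rfl⟩ := hy
    exact ⟨v * w, mul_mem hv hw, hφ v w⟩
  | inv x _ hx =>
    obtain ⟨v, hv, rfl⟩ := hx
    refine ⟨v⁻¹, inv_mem hv, ?_⟩
    have h2 := hφ v⁻¹ v
    rw [inv_mul_cancel, h1] at h2
    exact (inv_eq_of_mul_eq_one_left h2.symm).symm

/-- **Double cosets `W_J w W_K` closed under `w ↦ φ(w⁻¹)`.** -/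
theorem ColK.hR2 (h0 : ∀ i, 0 ≤ l i) {σ : Equiv.Perm I} (hJK : σ '' {i | l i = 0} = K)
    (hKJ : σ '' K = {i | l i = 0}) {φ : W → W} (hφ : ∀ v w, φ (v * w) = φ v * φ w) (hφi : Function.Injective φ)
    (hφs : ∀ i, φ (cs.simple i) = cs.simple (σ i)) (k0 : κ)
    (hrep : ∀ k, k ≠ k0 → ∃ w : W, C.c (m.pos cs h w) = k ∧ C.c (m.pos cs h (φ w⁻¹)) = k) (w : W) :
    ∃ a ∈ WJ cs {i | l i = 0}, ∃ b ∈ WJ cs K, φ w⁻¹ = a * w * b := by
  refine (C.iff cs h h0).1 ((C.last cs h (fun w => φ w⁻¹) (fun v w => ?_) k0 hrep w).symm)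
  rw [C.iff cs h h0, C.iff cs h h0]
  constructor
  · rintro ⟨a, ha, b, hb, hab⟩
    obtain ⟨a', ha', rfl⟩ := exists_mem cs hKJ hφ hφs ha
    obtain ⟨b', hb', rfl⟩ := exists_mem cs hJK hφ hφs hb
    rw [← hφ, ← hφ] at hab
    refine ⟨b'⁻¹, inv_mem hb', a'⁻¹, inv_mem ha', ?_⟩
    rw [← inv_inj, hφi hab]
    group
  · rintro ⟨a, ha, b, hb, rfl⟩
    refine ⟨φ b⁻¹, map_mem cs (fun k hk => ?_) hφ hφs (inv_mem hb), φ a⁻¹, map_mem cs (fun j hj => ?_) hφ hφs
      (inv_mem ha), ?_⟩
    · rw [← hKJ]; exact ⟨k, hk, rfl⟩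
    · rw [← hJK]; exact ⟨j, hj, rfl⟩
    · rw [← hφ, ← hφ]
      congr 1
      group

/-! ### Words -/

/-- the walk of a word -/
def walk (m : Model A l Ω) (ω : List I) (x : Ω) : Ω := ω.foldl (fun y j => m.a j y) x

theorem pos_wordProd (ω : List I) : ∀ w : W, m.pos cs h (w * cs.wordProd ω) = walk m ω (m.pos cs h w) := by
  induction ω with
  | nil =>
    intro w
    rw [cs.wordProd_nil, mul_one]
    rfl
  | cons i ω ih =>
    intro w
    rw [cs.wordProd_cons, ← mul_assoc, ih, Model.pos_mul_simple]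
    rfl

include h in
theorem pos_word (ω : List I) : m.pos cs h (cs.wordProd ω) = walk m ω m.o := by
  have := pos_wordProd cs h (m := m) ω 1
  rwa [one_mul, Model.pos_one] at this

include h in
theorem pos_word_inv (ω : List I) : m.pos cs h (cs.wordProd ω)⁻¹ = walk m ω.reverse m.o := by
  rw [← cs.wordProd_reverse, pos_word]

include h in
/-- the criterion with words -/
theorem ColK.hR1_words {C : ColK m {i | l i = 0} κ} (h0 : ∀ i, 0 ≤ l i) (k0 : κ) (ws : κ → List I)
    (hws : ∀ k, k ≠ k0 → C.c (walk m (ws k) m.o) = k ∧ C.c (walk m (ws k).reverse m.o) = k) (w : W) :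
    ∃ a ∈ WJ cs {i | l i = 0}, ∃ b ∈ WJ cs {i | l i = 0}, w⁻¹ = a * w * b := by
  refine ColK.hR1 cs h (C := C) h0 k0 (fun k hk => ⟨cs.wordProd (ws k), ?_, ?_⟩) w
  · rw [pos_word]
    exact (hws k hk).1
  · rw [pos_word_inv]
    exact (hws k hk).2

end Cfsg.Agent.H685.R4.WInv
end

-- part: H685/R4/RowsTwo
section
prune_inst 0x20020004000000000001800000000004400000000006004001c6200000002534800000100008008001800000000040000000000400000000000000000000001000000000410008008600000011003000000000000000000000000000000041000000000000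
set_option linter.all false
open scoped Cfsg.Agent.FastGrp

-- part: H685/R4/Frame
section
/-!
# Almost simple groups with a split (B,N)-pair on the socle (helper685, S4554)

`N` a normal subgroup of `G` with a split (B,N)-pair of type `M`; `stb K` is the normaliser in `G` of the subgroup `K`
of `N`.

* `exists_mul_B` : `G = N · stb B`;
* `fW_w0` : the automorphisms of `W` induced by `stb B` fix `w₀`;
* `index_stb` : `|G : stb P_J| = |N : P_J|` if `P_J` is invariant under `stb B`;
* `dc_inv` : double cosets of `stb P_J` closed under inversion;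
* `not_dvd_relIndex` : the subdegree of `w₀` is a power of the characteristic.
-/

set_option autoImplicit false
set_option linter.unusedSectionVars false

namespace Cfsg.Agent.H685.R4

open Cfsg Cfsg.Agent.LieExceptional.BNPairCore Cfsg.Agent.Tits.Core Cfsg.Agent.Tits.OfBN
open Cfsg.Agent.H612.BNCosets Cfsg.Agent.FixBN

universe u

section Stb

variable {G : Type u} [Group G] {N : Subgroup G} [N.Normal]

/-- conjugation by an element of `G` as an automorphism of `N` -/
def cn (x : G) : N ≃* N := (MulAut.conjNormal x : MulAut N)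

theorem cn_coe (x : G) (n : N) : ((cn x n : N) : G) = x * n * x⁻¹ := MulAut.conjNormal_apply x n

theorem cn_mul (x y : G) (n : N) : cn (x * y) n = cn x (cn y n) := by
  apply Subtype.ext
  rw [cn_coe, cn_coe, cn_coe]
  group

theorem cn_one (n : N) : cn (1 : G) n = n := by
  apply Subtype.ext
  rw [cn_coe]
  simp

theorem cn_of (m n : N) : cn (m : G) n = m * n * m⁻¹ := by
  apply Subtype.ext
  rw [cn_coe]
  rfl

/-- the normaliser in `G` of a subgroup of `N` -/
def stb (K : Subgroup N) : Subgroup G where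
  carrier := {x | ∀ n : N, cn x n ∈ K ↔ n ∈ K}
  one_mem' n := by rw [cn_one]
  mul_mem' {x y} hx hy n := by rw [cn_mul, hx, hy]
  inv_mem' {x} hx n := by
    have h1 := hx (cn x⁻¹ n)
    rw [← cn_mul, mul_inv_cancel, cn_one] at h1
    exact h1.symm

theorem mem_stb {K : Subgroup N} {x : G} : x ∈ stb K ↔ ∀ n : N, cn x n ∈ K ↔ n ∈ K := Iff.rfl

theorem coe_mem_stb {K : Subgroup N} {m : N} : (m : G) ∈ stb K ↔ m ∈ Subgroup.normalizer (K : Set N) := by
  rw [Subgroup.mem_normalizer_iff, mem_stb]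
  constructor
  · intro h n
    rw [← cn_of, h]
  · intro h n
    rw [cn_of]
    exact (h n).symm

end Stb

section BN

variable {G : Type u} [Group G] [Finite G] {N : Subgroup G} [N.Normal]
  (P : Cfsg.BNPair N) {I : Type*} {M : CoxeterMatrix I} (e : I ≃ P.S)

theorem coe_mem_stb_PJ {J : Set I} {m : N} : (m : G) ∈ stb (PJ P e J) ↔ m ∈ PJ P e J := by
  rw [coe_mem_stb]
  have h1 : Subgroup.normalizer ((PJ P e J : Subgroup N) : Set N) = PJ P e J :=
    Cfsg.Agent.S0312.result P (gens_subset P e J)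
  rw [h1]

variable {P} {p : ℕ} {U : Subgroup N}

/-- **`G = N · stb B`.** -/
theorem exists_mul_B [Fact p.Prime] (hs : Split P p U) (x : G) : ∃ m : N, (m : G)⁻¹ * x ∈ stb P.B := by
  obtain ⟨g, hg⟩ := TwOfBN.exists_conj hs (cn x)
  refine ⟨g, fun n => ?_⟩
  rw [cn_mul]
  have h1 : cn ((g : G)⁻¹) (cn x n) = g⁻¹ * cn x n * g := by
    rw [← Subgroup.coe_inv, cn_of, inv_inv]
  rw [h1]
  exact hg n

variable [hN : ((P.B ⊓ P.N).subgroupOf P.N).Normal] (cs : CoxeterSystem M (WP P))
  (hcs : ∀ i, cs.simple i = QuotientGroup.mk (⟨(e i : N), P.subset (e i).2⟩ : P.N))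

include hcs

/-- the permutation of the nodes induced by an element of `stb B` -/
noncomputable def sig {x : G} (hx : x ∈ stb P.B) (i : I) : I := TwOfBN.sigma (cn x) hx e cs hcs i

theorem fW_simple {x : G} (hx : x ∈ stb P.B) (i : I) :
    TwOfBN.fW P (cn x) (cs.simple i) = cs.simple (sig e cs hcs hx i) := TwOfBN.fW_simple (cn x) hx e cs hcs i

theorem fW_mul {x : G} (hx : x ∈ stb P.B) (v w : WP P) :
    TwOfBN.fW P (cn x) (v * w) = TwOfBN.fW P (cn x) v * TwOfBN.fW P (cn x) w := TwOfBN.fW_mul (cn x) hx e cs hcs v w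

omit hcs hN in
theorem fW_inj {x : G} (hx : x ∈ stb P.B) : Function.Injective (TwOfBN.fW P (cn x)) := TwOfBN.fW_injective (cn x) hx

theorem fW_wordProd {x : G} (hx : x ∈ stb P.B) (ω : List I) :
    TwOfBN.fW P (cn x) (cs.wordProd ω) = cs.wordProd (ω.map (sig e cs hcs hx)) := by
  induction ω with
  | nil =>
    rw [cs.wordProd_nil, List.map_nil, cs.wordProd_nil]
    exact TwOfBN.fW_one (cn x) hx
  | cons i ω ih =>
    rw [cs.wordProd_cons, List.map_cons, cs.wordProd_cons, fW_mul e cs hcs hx, ih, fW_simple e cs hcs hx]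

theorem length_fW_le {x : G} (hx : x ∈ stb P.B) (w : WP P) :
    cs.length (TwOfBN.fW P (cn x) w) ≤ cs.length w := by
  obtain ⟨ω, hω, rfl⟩ := cs.exists_isReduced w
  rw [fW_wordProd e cs hcs hx, hω.eq]
  refine (cs.length_wordProd_le _).trans ?_
  rw [List.length_map]

/-- **`w₀` is fixed.** -/
theorem fW_w0 {x : G} (hx : x ∈ stb P.B) : TwOfBN.fW P (cn x) (w0 cs) = w0 cs := by
  have : Finite (WP P) := inferInstance
  obtain ⟨v, hv⟩ := (Finite.injective_iff_surjective.1 (fW_inj (P := P) hx)) (w0 cs)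
  have h1 := length_fW_le e cs hcs hx v
  rw [hv] at h1
  have h2 := Tits.Exchange.eq_w0_of_length cs h1
  rw [h2] at hv
  exact hv

theorem simple_inj : Function.Injective cs.simple := by
  intro i j hij
  by_contra hne
  have h1 : cs.simple i ∈ WJ cs {j} := by
    rw [hij]
    exact Subgroup.subset_closure ⟨j, rfl, rfl⟩
  have h2 : ((e i : P.S) : N) ∈ PJ P e {j} := by
    rw [mem_PJ P e cs hcs, TwOfBN.wt_e e cs hcs]
    exact h1
  have h3 : PJ P e {i} ≤ PJ P e {j} := by
    unfold PJ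
    rw [H612.BNAut.gens_singleton]
    refine sup_le (B_le_PJ P e {j}) ?_
    rw [Subgroup.closure_le, Set.singleton_subset_iff]
    exact h2
  rw [H612.BNAut.PJ_le_iff, Set.singleton_subset_iff, Set.mem_singleton_iff] at h3
  exact hne h3

theorem mem_of_simple_mem {J : Set I} {i : I} (h : cs.simple i ∈ WJ cs J) : i ∈ J := by
  have h2 : ((e i : P.S) : N) ∈ PJ P e J := by
    rw [mem_PJ P e cs hcs, TwOfBN.wt_e e cs hcs]
    exact h
  have h3 : PJ P e {i} ≤ PJ P e J := by
    unfold PJ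
    rw [H612.BNAut.gens_singleton]
    refine sup_le (B_le_PJ P e J) ?_
    rw [Subgroup.closure_le, Set.singleton_subset_iff]
    exact h2
  rwa [H612.BNAut.PJ_le_iff, Set.singleton_subset_iff] at h3

theorem sig_inj {x : G} (hx : x ∈ stb P.B) : Function.Injective (sig e cs hcs hx) := by
  intro i j hij
  have h1 : TwOfBN.fW P (cn x) (cs.simple i) = TwOfBN.fW P (cn x) (cs.simple j) := by
    rw [fW_simple e cs hcs hx, fW_simple e cs hcs hx, hij]
  exact simple_inj e cs hcs (fW_inj (P := P) hx h1)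

/-- the induced permutation of the nodes is a symmetry of the Coxeter matrix -/
theorem label_sig {x : G} (hx : x ∈ stb P.B) (i j : I) : M (sig e cs hcs hx i) (sig e cs hcs hx j) = M i j := by
  classical
  have hfin : Finite I := OfBN.finite_I e
  have := Fintype.ofFinite I
  let f : WP P →* WP P := ⟨⟨TwOfBN.fW P (cn x), TwOfBN.fW_one (cn x) hx⟩, fW_mul e cs hcs hx⟩
  have h1 : orderOf (f (cs.simple i * cs.simple j)) = orderOf (cs.simple i * cs.simple j) :=
    orderOf_injective f (fW_inj (P := P) hx) _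
  have h2 : f (cs.simple i * cs.simple j) = cs.simple (sig e cs hcs hx i) * cs.simple (sig e cs hcs hx j) := by
    rw [map_mul]
    show TwOfBN.fW P (cn x) _ * TwOfBN.fW P (cn x) _ = _
    rw [fW_simple e cs hcs hx, fW_simple e cs hcs hx]
  rw [h2, Cfsg.Agent.LieRecognition.CoxForm.orderOf_eq, Cfsg.Agent.LieRecognition.CoxForm.orderOf_eq] at h1
  exact h1

theorem fW_mem_WJ {x : G} (hx : x ∈ stb P.B) {J : Set I} (hJ : ∀ j ∈ J, sig e cs hcs hx j ∈ J) {w : WP P}
    (hw : w ∈ WJ cs J) : TwOfBN.fW P (cn x) w ∈ WJ cs J := by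
  obtain ⟨ω, hω, rfl⟩ := Tits.Exchange.exists_word_of_mem_WJ cs hw
  rw [fW_wordProd e cs hcs hx]
  refine Tits.Exchange.wordProd_mem_WJ cs fun i hi => ?_
  obtain ⟨j, hj, rfl⟩ := List.mem_map.1 hi
  exact hJ j (hω j hj)

theorem fW_mem_WJ_iff {x : G} (hx : x ∈ stb P.B) {J : Set I} (hJ : ∀ j ∈ J, sig e cs hcs hx j ∈ J) {w : WP P} :
    TwOfBN.fW P (cn x) w ∈ WJ cs J ↔ w ∈ WJ cs J := by
  refine ⟨fun h => ?_, fW_mem_WJ e cs hcs hx hJ⟩
  have : Finite (WP P) := inferInstance
  have h1 : Function.Injective (fun v : WJ cs J => (⟨TwOfBN.fW P (cn x) v, fW_mem_WJ e cs hcs hx hJ v.2⟩ : WJ cs J)) := by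
    intro v v' h
    exact Subtype.ext (fW_inj (P := P) hx (congrArg Subtype.val h))
  obtain ⟨v, hv⟩ := (Finite.injective_iff_surjective.1 h1) ⟨_, h⟩
  have h2 : w = v := (fW_inj (P := P) hx (congrArg Subtype.val hv)).symm
  rw [h2]
  exact v.2

/-- an element of `stb B` whose permutation preserves `J` normalises `P_J` -/
theorem mem_stb_PJ {x : G} (hx : x ∈ stb P.B) {J : Set I} (hJ : ∀ j ∈ J, sig e cs hcs hx j ∈ J) :
    x ∈ stb (PJ P e J) := by
  intro n
  rw [mem_PJ P e cs hcs, mem_PJ P e cs hcs, ← TwOfBN.fW_wt (cn x) hx, fW_mem_WJ_iff e cs hcs hx hJ]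

/-- `J` is invariant if it is invariant under the symmetries of the Coxeter matrix -/
theorem stable_of_symm {J : Set I} (hJ : ∀ σ : Equiv.Perm I, (∀ i j, M (σ i) (σ j) = M i j) → σ '' J = J)
    {x : G} (hx : x ∈ stb P.B) (j : I) (hj : j ∈ J) : sig e cs hcs hx j ∈ J := by
  have hfin : Finite I := OfBN.finite_I e
  let σ : Equiv.Perm I := Equiv.ofBijective _ (Finite.injective_iff_bijective.1 (sig_inj e cs hcs hx))
  have h1 := hJ σ (fun i j => label_sig e cs hcs hx i j)
  rw [← h1]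
  exact ⟨j, hj, rfl⟩

/-- `J` is invariant under the opposition involution if it is invariant under the symmetries -/
theorem op_of_symm {J : Set I} (hJ : ∀ σ : Equiv.Perm I, (∀ i j, M (σ i) (σ j) = M i j) → σ '' J = J) :
    op cs '' J = J := by
  classical
  have hfin : Finite I := OfBN.finite_I e
  have := Fintype.ofFinite I
  have hinj := simple_inj e cs hcs
  have h0 : Function.Injective (op cs) := by
    intro i j hij
    rw [← Tits.Exchange.op_op cs hinj i, ← Tits.Exchange.op_op cs hinj j, hij]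
  refine hJ (Equiv.ofBijective _ (Finite.injective_iff_bijective.1 h0)) (fun i j => ?_)
  show M (op cs i) (op cs j) = M i j
  rw [← Cfsg.Agent.LieRecognition.CoxForm.orderOf_eq cs, ← Cfsg.Agent.LieRecognition.CoxForm.orderOf_eq cs]
  have h1 : cs.simple (op cs i) * cs.simple (op cs j) = w0 cs * (cs.simple i * cs.simple j) * (w0 cs)⁻¹ := by
    rw [Tits.Exchange.simple_op, Tits.Exchange.simple_op, Tits.Exchange.w0_inv]
    have h2 := Tits.Exchange.w0_mul_self cs
    calc w0 cs * cs.simple i * w0 cs * (w0 cs * cs.simple j * w0 cs)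
        = w0 cs * cs.simple i * (w0 cs * w0 cs) * cs.simple j * w0 cs := by group
      _ = w0 cs * (cs.simple i * cs.simple j) * w0 cs := by rw [h2]; group
  rw [h1]
  have h3 := orderOf_injective (MulAut.conj (w0 cs)).toMonoidHom (MulAut.conj (w0 cs)).injective
    (cs.simple i * cs.simple j)
  exact h3

variable {J : Set I} (hJ : ∀ x (hx : x ∈ stb P.B), ∀ j ∈ J, sig e cs hcs (x := x) hx j ∈ J)

/-- `w₀` is in no proper parabolic subgroup -/
theorem w0_notMem (hne : J ≠ Set.univ) : w0 cs ∉ WJ cs J := by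
  intro h
  apply hne
  have : Finite (WP P) := inferInstance
  ext i
  refine ⟨fun _ => trivial, fun _ => ?_⟩
  exact mem_of_simple_mem e cs hcs (Tits.Exchange.mem_WJ_of_nn cs h
    (Tits.Chart.nn_w0 cs (cs.isReflection_simple i)))

end BN

end Cfsg.Agent.H685.R4
end

-- part: H685/R4/Cons
section
/-!
# Constituents of the permutation characters of parabolic subgroups (helper685, S4554)

* `Cst H χ` : `χ` is a constituent of `1_H^G`;
* `nontriv` : a constituent `χ ≠ 1` of `1_H^G`, `G = N H`, is not trivial on `N`;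
* `not_pow` : a character of `G`, not trivial on the socle of Lie type of characteristic `p`, with `P_J`-fixed points,
  `J ≠ ∅`, has degree not a power of `p`.
-/

set_option autoImplicit false
set_option linter.unusedSectionVars false

namespace Cfsg.Agent.H685.R4

open Cfsg Cfsg.Agent.LieExceptional.BNPairCore Cfsg.Agent.Tits.Core Cfsg.Agent.Tits.OfBN
open Cfsg.Agent.H612.BNCosets Cfsg.Agent.FixBN
open scoped ComplexConjugate

universe u

section Cst

variable {G : Type u} [Group G] [Finite G]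

/-- `χ` is a constituent of `1_H^G` -/
def Cst (H : Subgroup G) (χ : G → ℂ) : Prop := (∑ᶠ h : H, χ h) ≠ 0

theorem cst_iff (H : Subgroup G) [Fintype H] (χ : G → ℂ) : Cst H χ ↔ ∑ h : H, χ h ≠ 0 := by
  rw [Cst, finsum_eq_sum_of_fintype]

theorem Cst.mono {χ : G → ℂ} (hχ : IsCharacter G χ) {K H : Subgroup G} (hKH : K ≤ H) (h : Cst H χ) : Cst K χ := by
  classical
  have := Fintype.ofFinite H
  have := Fintype.ofFinite K
  rw [cst_iff] at h ⊢
  obtain ⟨a, b, ha, hb, hab⟩ := H687.inner_mono (Subgroup.inclusion hKH)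
    (Characters.Clifford.isCharacter_restrict H hχ) (Characters.Core.isCharacter_one (G := H))
  rw [Characters.Core.classInner_def] at ha hb
  simp only [Pi.one_apply, map_one, mul_one, Function.comp_apply] at ha hb
  intro h0
  have h1 : (b : ℂ) = 0 := by
    rw [← hb]
    have h2 : ∑ x : K, χ ((Subgroup.inclusion hKH x : H) : G) = ∑ x : K, χ x := rfl
    rw [h2, h0, mul_zero]
  have h2 : b = 0 := by exact_mod_cast h1
  have h3 : a = 0 := by omega
  rw [h3, Nat.cast_zero] at ha
  rcases mul_eq_zero.1 ha with h4 | h4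
  · exact absurd (inv_eq_zero.1 h4) (by exact_mod_cast Nat.card_pos.ne')
  · exact h h4

end Cst

section BN

variable {G : Type u} [Group G] [Finite G] {N : Subgroup G} [N.Normal]
  (P : Cfsg.BNPair N) {I : Type*} (e : I ≃ P.S) {p : ℕ} {U : Subgroup N}

/-- the image of `P_J` in `G` -/
def PG (J : Set I) : Subgroup G := (PJ P e J).map N.subtype

theorem PG_le (J : Set I) : PG P e J ≤ (stb (PJ P e J) : Subgroup G) := by
  rintro _ ⟨m, hm, rfl⟩
  exact (coe_mem_stb_PJ P e).2 hm

theorem dvd_card_inf_J [Fact p.Prime] {P : Cfsg.BNPair N} {e : I ≃ P.S} (hs : Split P p U) {J : Set I} {j : I}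
    (hj : j ∈ J) (x : N) :
    p ∣ Nat.card ↥(PJ P e J ⊓ (PJ P e J).map (MulAut.conj x).toMonoidHom) := by
  have h1 := H687.dvd_card_inf hs (e j).2 x
  have h2 : P.parabolic {((e j : P.S) : N)} ≤ PJ P e J := by
    have h3 : PJ P e {j} ≤ PJ P e J := (H612.BNAut.PJ_le_iff P e).2 (Set.singleton_subset_iff.2 hj)
    unfold PJ at h3
    rw [H612.BNAut.gens_singleton] at h3
    exact h3
  exact h1.trans (Subgroup.card_dvd_of_le (inf_le_inf h2 (Subgroup.map_mono h2)))

/-- **Degrees not a power of the characteristic.** -/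
theorem not_pow [hp : Fact p.Prime] [IsSimpleGroup N] (hna : ∃ a b : N, a * b ≠ b * a) (hL : IsLieTypeChar p N)
    {P : Cfsg.BNPair N} {e : I ≃ P.S} (hs : Split P p U) {J : Set I} {j : I} (hj : j ∈ J) {χ : IrrCharacter G}
    (hχ : ∃ n ∈ N, (χ : G → ℂ) n ≠ (χ : G → ℂ) 1) (hc : Cst (PG P e J) (χ : G → ℂ)) (k : ℕ) :
    charDegree (χ : G → ℂ) ≠ p ^ k := by
  classical
  intro hk
  have := Fintype.ofFinite G
  have := Fintype.ofFinite N
  have hfi : Finite (IrrCharacter N) := Characters.Core.finite_irr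
  have := Fintype.ofFinite (IrrCharacter N)
  have := Fintype.ofFinite (PJ P e J)
  have := Fintype.ofFinite (PG P e J)
  rw [cst_iff] at hc
  have hres := Characters.Clifford.isCharacter_restrict N (Characters.Core.isIrr_isCharacter χ.2)
  obtain ⟨a, ha⟩ := Characters.Core.exists_nat_comb hres
  -- a constituent with fixed points
  obtain ⟨θ, hθa, hθ⟩ : ∃ θ : IrrCharacter N, a θ ≠ 0 ∧ ∑ x : PJ P e J, (θ : N → ℂ) x ≠ 0 := by
    by_contra hcon
    push Not at hcon
    apply hc
    have h1 : ∑ x : PG P e J, (χ : G → ℂ) x = ∑ x : PJ P e J, (χ : G → ℂ) ((x : N) : G) := by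
      symm
      let E : PJ P e J ≃ PG P e J := ((PJ P e J).equivMapOfInjective N.subtype N.subtype_injective).toEquiv
      exact Fintype.sum_equiv E
        (fun x : PJ P e J => (χ : G → ℂ) ((x : N) : G)) (fun x : PG P e J => (χ : G → ℂ) x) (fun x => rfl)
    have h2 : ∀ x : N, (χ : G → ℂ) x = ∑ θ : IrrCharacter N, (a θ : ℂ) * (θ : N → ℂ) x := by
      intro x
      have h3 := congrFun ha x
      rw [H687.comb_apply] at h3
      exact h3
    have h4 : ∀ x : PJ P e J, (χ : G → ℂ) ((x : N) : G) = ∑ θ : IrrCharacter N, (a θ : ℂ) * (θ : N → ℂ) x :=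
      fun x => h2 x
    rw [h1, Finset.sum_congr rfl fun x _ => h4 x, Finset.sum_comm]
    refine Finset.sum_eq_zero fun θ _ => ?_
    rw [← Finset.mul_sum]
    by_cases h3 : a θ = 0
    · rw [h3, Nat.cast_zero, zero_mul]
    · rw [hcon θ h3, mul_zero]
  have hin : classInner (fun n : N => (χ : G → ℂ) n) (θ : N → ℂ) ≠ 0 := by
    rw [ha, Characters.Core.classInner_sum_nsmul_irr]
    exact_mod_cast hθa
  have hθ1 : (θ : N → ℂ) ≠ 1 := by
    intro h1
    have h2 := H612.Heredity.sum_coset_eq_zero N χ hχ 1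
    simp only [mul_one] at h2
    apply hin
    rw [h1, Characters.Core.classInner_def]
    simp only [Pi.one_apply, map_one, mul_one]
    rw [h2, mul_zero]
  have hdvd := H612.Heredity.degree_dvd N χ θ hin
  rw [hk] at hdvd
  obtain ⟨i, -, hi⟩ := (Nat.dvd_prime_pow hp.1).1 hdvd
  have h1 := H949.LieDZ.defect_zero_of_pow hna hp.1 hL θ.2 hθ1 hi
  exact hθ (H949.SubInv.sum_eq_zero hp.1 (PJ P e J) (fun x => dvd_card_inf_J hs hj x) θ.2 h1)

end BN

end Cfsg.Agent.H685.R4
end

-- part: H685/R4/SubdegN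
section
/-!
# Subdegrees and constituents not trivial on a normal subgroup (helper685, S4554)

* `subdeg_N` : `g ∈ N \ H`, `q` a prime dividing neither `|H : H ∩ gHg⁻¹|` nor `|G : NH|`: there is a constituent `χ` of
  `1_H^G`, not trivial on `N`, of degree prime to `q`.
-/

set_option autoImplicit false
set_option linter.unusedSectionVars false

namespace Cfsg.Agent.H685.R4

open Cfsg Cfsg.Agent.H949.SubDeg
open scoped ComplexConjugate

universe u

variable {G : Type u} [Group G] [Finite G]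

/-- the value of the orbital of `g ∈ N` on a character trivial on `N` -/
theorem sum_dc [Fintype G] (N H : Subgroup G) [Fintype H] {g : G} (hgN : g ∈ N) {χ : G → ℂ} (hχ : IsCharacter G χ)
    (hN : ∀ n ∈ N, χ n = χ 1) [DecidablePred (Dc H g)] :
    (∑ d : G, (if Dc H g d then (1 : ℂ) else 0) * χ d) * (Nat.card H : ℂ) =
      (Nat.card {d : G // Dc H g d} : ℂ) * ∑ h : H, χ h := by
  classical
  have hH : (Nat.card H : ℂ) ≠ 0 := by exact_mod_cast Nat.card_pos.ne'
  have hcl := Characters.Core.isCharacter_isClassFunction hχ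
  -- double average
  have h1 : ∀ a b : H, ∑ d : G, (if Dc H g d then (1 : ℂ) else 0) * χ ((a : G) * d * b) =
      ∑ d : G, (if Dc H g d then (1 : ℂ) else 0) * χ d := by
    intro a b
    rw [← Equiv.sum_comp ((Equiv.mulLeft (a : G)).trans (Equiv.mulRight (b : G)))
      (fun d => (if Dc H g d then (1 : ℂ) else 0) * χ d)]
    refine Finset.sum_congr rfl fun d _ => ?_
    show (if Dc H g d then (1 : ℂ) else 0) * χ (a * d * b) = (if Dc H g (a * d * b) then (1 : ℂ) else 0) * χ (a * d * b)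
    simp only [dc_mul_right H g b.2, dc_mul_left H g a.2]
  have h2 : ∀ d : G, Dc H g d → ∑ a : H, ∑ b : H, χ ((a : G) * d * b) = (Nat.card H : ℂ) * ∑ h : H, χ h := by
    rintro d ⟨x, hx, y, hy, rfl⟩
    have h3 : ∀ a b : H, χ ((a : G) * (x * g * y) * b) = χ ((a : G) * x * y * b) := by
      intro a b
      have e1 : (a : G) * (x * g * y) * b = (((a : G) * x) * g * ((a : G) * x)⁻¹) * ((a : G) * x * y * b) := by group
      have e2 : χ (((a : G) * x) * g * ((a : G) * x)⁻¹) = χ 1 := by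
        rw [hcl g ((a : G) * x)]
        exact hN g hgN
      rw [e1, H686.CharKit.apply_mul_of_eq hχ e2]
    have h4 : ∀ a : H, ∑ b : H, χ ((a : G) * x * y * b) = ∑ h : H, χ h := by
      intro a
      rw [← Equiv.sum_comp (Equiv.mulLeft (a * ⟨x, hx⟩ * ⟨y, hy⟩ : H)) (fun h : H => χ h)]
      rfl
    rw [Finset.sum_congr rfl fun a _ => Finset.sum_congr rfl fun b _ => h3 a b, Finset.sum_congr rfl fun a _ => h4 a,
      Finset.sum_const, Finset.card_univ, nsmul_eq_mul, Nat.card_eq_fintype_card]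
  have h3 : ∑ a : H, ∑ b : H, ∑ d : G, (if Dc H g d then (1 : ℂ) else 0) * χ ((a : G) * d * b) =
      (Nat.card H : ℂ) * ((Nat.card H : ℂ) * ∑ d : G, (if Dc H g d then (1 : ℂ) else 0) * χ d) := by
    rw [Finset.sum_congr rfl fun a _ => Finset.sum_congr rfl fun b _ => h1 a b, Finset.sum_const, Finset.sum_const,
      Finset.card_univ, nsmul_eq_mul, nsmul_eq_mul, Nat.card_eq_fintype_card]
  have h4 : ∑ a : H, ∑ b : H, ∑ d : G, (if Dc H g d then (1 : ℂ) else 0) * χ ((a : G) * d * b) =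
      ∑ d : G, (if Dc H g d then (1 : ℂ) else 0) * ∑ a : H, ∑ b : H, χ ((a : G) * d * b) := by
    have h5 : ∀ a : H, ∑ b : H, ∑ d : G, (if Dc H g d then (1 : ℂ) else 0) * χ ((a : G) * d * b) =
        ∑ d : G, (if Dc H g d then (1 : ℂ) else 0) * ∑ b : H, χ ((a : G) * d * b) := by
      intro a
      rw [Finset.sum_comm]
      exact Finset.sum_congr rfl fun d _ => (Finset.mul_sum _ _ _).symm
    rw [Finset.sum_congr rfl fun a _ => h5 a, Finset.sum_comm]
    exact Finset.sum_congr rfl fun d _ => (Finset.mul_sum _ _ _).symm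
  have h5 : ∑ d : G, (if Dc H g d then (1 : ℂ) else 0) * ∑ a : H, ∑ b : H, χ ((a : G) * d * b) =
      (Nat.card {d : G // Dc H g d} : ℂ) * ((Nat.card H : ℂ) * ∑ h : H, χ h) := by
    have h6 : ∀ d : G, (if Dc H g d then (1 : ℂ) else 0) * ∑ a : H, ∑ b : H, χ ((a : G) * d * b) =
        (if Dc H g d then (1 : ℂ) else 0) * ((Nat.card H : ℂ) * ∑ h : H, χ h) := by
      intro d
      by_cases hd : Dc H g d
      · rw [h2 d hd]
      · rw [if_neg hd, zero_mul, zero_mul]
    rw [Finset.sum_congr rfl fun d _ => h6 d, ← Finset.sum_mul, Finset.sum_boole]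
    congr 2
    rw [Nat.card_eq_fintype_card, Fintype.card_subtype]
  have h6 := h3.symm.trans (h4.trans h5)
  apply mul_left_cancel₀ hH
  linear_combination h6

/-- the multiplicity of a character trivial on `N` -/
theorem mult_sup (N H : Subgroup G) [N.Normal] [Fintype H] [Fintype ↥(N ⊔ H)] {χ : IrrCharacter G}
    (hN : ∀ n ∈ N, (χ : G → ℂ) n = (χ : G → ℂ) 1) : mult (N ⊔ H) χ = mult H χ := by
  classical
  have hH : (Nat.card H : ℂ) ≠ 0 := by exact_mod_cast Nat.card_pos.ne'
  have hK : (Nat.card ↥(N ⊔ H) : ℂ) ≠ 0 := by exact_mod_cast Nat.card_pos.ne'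
  have h3 : ∑ k : ↥(N ⊔ H), ∑ h : H, (χ : G → ℂ) (k * h) = (Nat.card H : ℂ) * ∑ k : ↥(N ⊔ H), (χ : G → ℂ) k := by
    rw [Finset.sum_comm]
    have h4 : ∀ h : H, ∑ k : ↥(N ⊔ H), (χ : G → ℂ) (k * h) = ∑ k : ↥(N ⊔ H), (χ : G → ℂ) k := by
      intro h
      exact Equiv.sum_comp (Equiv.mulRight (⟨(h : G), (le_sup_right : H ≤ N ⊔ H) h.2⟩ : ↥(N ⊔ H)))
        (fun k : ↥(N ⊔ H) => (χ : G → ℂ) k)
    rw [Finset.sum_congr rfl fun h _ => h4 h, Finset.sum_const, Finset.card_univ, nsmul_eq_mul,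
      Nat.card_eq_fintype_card]
  have h4 : ∀ k : ↥(N ⊔ H), ∑ h : H, (χ : G → ℂ) (k * h) = ∑ h : H, (χ : G → ℂ) h := by
    intro k
    obtain ⟨m, hm, x, hx, hk⟩ := Subgroup.mem_sup_of_normal_left.1 k.2
    rw [← Equiv.sum_comp (Equiv.mulLeft (⟨x, hx⟩ : H)) (fun h : H => (χ : G → ℂ) h)]
    refine Finset.sum_congr rfl fun h _ => ?_
    rw [← hk, mul_assoc]
    exact H686.CharKit.apply_mul_of_eq (Characters.Core.isIrr_isCharacter χ.2) (hN m hm) _
  rw [Finset.sum_congr rfl fun k _ => h4 k, Finset.sum_const, Finset.card_univ, nsmul_eq_mul,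
    ← Nat.card_eq_fintype_card, mult_spec, mult_spec] at h3
  have h5 : (Nat.card H : ℂ) * (Nat.card ↥(N ⊔ H) : ℂ) * (mult (N ⊔ H) χ : ℂ) =
      (Nat.card H : ℂ) * (Nat.card ↥(N ⊔ H) : ℂ) * (mult H χ : ℂ) := by
    linear_combination -h3
  exact_mod_cast mul_left_cancel₀ (mul_ne_zero hH hK) h5

theorem mult_sup_zero (N H : Subgroup G) [N.Normal] [Fintype ↥(N ⊔ H)] {χ : IrrCharacter G}
    (hN : ∃ n ∈ N, (χ : G → ℂ) n ≠ (χ : G → ℂ) 1) : mult (N ⊔ H) χ = 0 := by
  classical
  have := Fintype.ofFinite N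
  by_contra h
  have h1 : Cst (N ⊔ H) (χ : G → ℂ) := by
    rw [cst_iff]
    intro h2
    exact h ((mult_eq_zero_iff _ χ).2 h2)
  have h2 := h1.mono (Characters.Core.isIrr_isCharacter χ.2) (le_sup_left : N ≤ N ⊔ H)
  rw [cst_iff] at h2
  apply h2
  have h3 := H612.Heredity.sum_coset_eq_zero N χ hN 1
  simpa only [_root_.mul_one] using h3

open Classical in
/-- **Constituents not trivial on `N` of degree prime to `q`.** -/
theorem subdeg_N (N H : Subgroup G) [N.Normal] {g : G} (hgN : g ∈ N) (hgH : g ∉ H) {q : ℕ} (hq : q.Prime)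
    (hq1 : ¬ q ∣ (H.map (MulAut.conj g).toMonoidHom).relIndex H) (hq2 : ¬ q ∣ (N ⊔ H).index) :
    ∃ χ : IrrCharacter G, (∃ n ∈ N, (χ : G → ℂ) n ≠ (χ : G → ℂ) 1) ∧ Cst H (χ : G → ℂ) ∧
      ¬ q ∣ charDegree (χ : G → ℂ) := by
  have := Fintype.ofFinite G
  have := Fintype.ofFinite H
  have := Fintype.ofFinite ↥(N ⊔ H)
  have hfin : Finite (IrrCharacter G) := Characters.Core.finite_irr
  have : Fintype (IrrCharacter G) := Fintype.ofFinite _
  have hH : (Nat.card H : ℂ) ≠ 0 := by exact_mod_cast Nat.card_pos.ne'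
  obtain ⟨n, hn⟩ : ∃ n, n = (H.map (MulAut.conj g).toMonoidHom).relIndex H := ⟨_, rfl⟩
  have hcard : Nat.card {d : G // Dc H g d} = n * Nat.card H := by
    rw [hn]
    exact card_dc H g
  rw [← hn] at hq1
  by_contra hno
  push Not at hno
  have hsum : ∑ χ : IrrCharacter G, (χ : G → ℂ) 1 * hval H g χ = 0 := by
    unfold hval
    have h1 : ∀ χ : IrrCharacter G, (χ : G → ℂ) 1 * ((Nat.card H : ℂ)⁻¹ * ∑ d : G, (if Dc H g d then (1 : ℂ) else 0) * (χ : G → ℂ) d) =
        (Nat.card H : ℂ)⁻¹ * ∑ d : G, (if Dc H g d then (1 : ℂ) else 0) * ((χ : G → ℂ) 1 * (χ : G → ℂ) d) := by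
      intro χ
      rw [mul_left_comm, Finset.mul_sum]
      congr 1
      exact Finset.sum_congr rfl fun d _ => by ring
    rw [Finset.sum_congr rfl fun χ _ => h1 χ, ← Finset.mul_sum, Finset.sum_comm]
    have h2 : ∀ d : G, ∑ χ : IrrCharacter G, (if Dc H g d then (1 : ℂ) else 0) * ((χ : G → ℂ) 1 * (χ : G → ℂ) d) = 0 := by
      intro d
      rw [← Finset.mul_sum, Characters.Counting.sum_irr_one_mul]
      by_cases hd : d = 1
      · rw [hd, if_neg (not_dc_one H g hgH), zero_mul]
      · rw [if_neg hd, mul_zero]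
    rw [Finset.sum_congr rfl fun d _ => h2 d, Finset.sum_const_zero, mul_zero]
  -- each term
  have hterm : ∀ χ : IrrCharacter G, ∃ z : ℂ, IsIntegral ℤ z ∧ (χ : G → ℂ) 1 * hval H g χ =
      (n : ℂ) * ((charDegree (χ : G → ℂ) * mult (N ⊔ H) χ : ℕ) : ℂ) + (q : ℂ) * z := by
    intro χ
    by_cases h1 : ∃ x ∈ N, (χ : G → ℂ) x ≠ (χ : G → ℂ) 1
    · rw [mult_sup_zero N H h1]
      by_cases h2 : ∑ h : H, (χ : G → ℂ) h = 0
      · refine ⟨0, isIntegral_zero, ?_⟩
        rw [hval_eq_zero H g (Characters.Core.isIrr_isCharacter χ.2) h2]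
        simp
      · obtain ⟨k, hk⟩ := hno χ h1 ((cst_iff H _).2 h2)
        refine ⟨(k : ℂ) * hval H g χ, ?_, ?_⟩
        · have h3 : IsIntegral ℤ (k : ℂ) := by
            simpa using isIntegral_algebraMap (R := ℤ) (A := ℂ) (x := (k : ℤ))
          exact h3.mul (isIntegral_hval H g (Characters.Core.isIrr_isCharacter χ.2))
        · rw [H687.Irr.one_eq, hk]
          push_cast
          ring
    · push Not at h1
      refine ⟨0, isIntegral_zero, ?_⟩
      rw [mult_sup N H h1, mul_zero, add_zero]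
      have h2 := sum_dc N H hgN (Characters.Core.isIrr_isCharacter χ.2) h1
      rw [hcard, mult_spec] at h2
      unfold hval
      have h3 : ∑ d : G, (if Dc H g d then (1 : ℂ) else 0) * (χ : G → ℂ) d = (n : ℂ) * ((Nat.card H : ℂ) * mult H χ) := by
        apply mul_right_cancel₀ hH
        rw [h2]
        push_cast
        ring
      rw [h3, H687.Irr.one_eq]
      push_cast
      field_simp
  choose z hz1 hz2 using hterm
  have h5 : (n : ℂ) * ((N ⊔ H).index : ℂ) + (q : ℂ) * ∑ χ, z χ = 0 := by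
    rw [← hsum, Finset.sum_congr rfl fun χ _ => hz2 χ, Finset.sum_add_distrib, ← Finset.mul_sum, ← Finset.mul_sum,
      ← Nat.cast_sum, sum_deg_mult]
  have hnq : ¬ q ∣ n * (N ⊔ H).index := fun h => (hq.dvd_mul.1 h).elim hq1 hq2
  have h6 : IsCoprime ((n * (N ⊔ H).index : ℕ) : ℤ) (q : ℤ) := by
    rw [Int.isCoprime_iff_gcd_eq_one, Int.gcd_natCast_natCast]
    exact Nat.Coprime.symm ((Nat.Prime.coprime_iff_not_dvd hq).2 hnq)
  obtain ⟨a, b, hab⟩ := h6
  have h7 : (a : ℂ) * ((n : ℂ) * ((N ⊔ H).index : ℂ)) + b * q = 1 := by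
    have h8 : ((a * ((n * (N ⊔ H).index : ℕ) : ℤ) + b * (q : ℤ) : ℤ) : ℂ) = 1 := by rw [hab]; simp
    push_cast at h8
    exact h8
  have hai : IsIntegral ℤ (a : ℂ) := by simpa using isIntegral_algebraMap (R := ℤ) (A := ℂ) (x := a)
  have hbi : IsIntegral ℤ (b : ℂ) := by simpa using isIntegral_algebraMap (R := ℤ) (A := ℂ) (x := b)
  refine H687.not_isIntegral_inv hq.two_le (z := (a : ℂ) * (∑ χ, z χ) - b)
    ((hai.mul (IsIntegral.sum _ fun χ _ => hz1 χ)).sub hbi) ?_
  linear_combination (a : ℂ) * h5 - h7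

end Cfsg.Agent.H685.R4
end

-- part: H685/R4/Two
section
/-!
# General position of a parabolic subgroup (helper685, S4554)

`J` is not supposed to be invariant under the diagram symmetries induced by `G`.

* `exists_mul_stb'` : `stb P_J = P_J (stb P_J ∩ stb B)`;
* `Dg` : every element of `stb B` preserves `J` or interchanges `J` and `K`;
* `dc_inv'` : double cosets of `stb P_J` closed under inversion;
* `exists_subdeg'` : the subdegree of `w₀`;
* `index_sup` : `|G : N stb P_J|` divides `2`;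
* `exists_theta` : constituents of the restriction to `N`;
* `deg_of_two` : the degree of the constituent for a 2-transitive action.
-/

set_option autoImplicit false
set_option linter.unusedSectionVars false

namespace Cfsg.Agent.H685.R4

open Cfsg Cfsg.Agent.LieExceptional.BNPairCore Cfsg.Agent.Tits.Core Cfsg.Agent.Tits.OfBN
open Cfsg.Agent.H612.BNCosets Cfsg.Agent.FixBN
open scoped ComplexConjugate

universe u

section BN

variable {G : Type u} [Group G] [Finite G] {N : Subgroup G} [N.Normal]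
  {P : Cfsg.BNPair N} {I : Type*} {M : CoxeterMatrix I} (e : I ≃ P.S) {p : ℕ} {U : Subgroup N}

/-- elements of `stb P_J` -/
theorem exists_mul_stb' [Fact p.Prime] (hs : Split P p U) {J : Set I} {x : G} (hx : x ∈ stb (PJ P e J)) :
    ∃ m ∈ PJ P e J, ∃ h ∈ stb P.B, h ∈ (stb (PJ P e J) : Subgroup G) ∧ x = (m : N) * h := by
  obtain ⟨m, hm⟩ := exists_mul_B hs x
  have hmJ : m ∈ PJ P e J := by
    have h1 : m⁻¹ ∈ PJ P e J := by
      refine Cfsg.Agent.S0313.mem_of_conj_borel_le P (PJ P e J) (B_le_PJ P e J) m⁻¹ fun b hb => ?_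
      rw [inv_inv]
      -- `m b m⁻¹ = x (h⁻¹ b h) x⁻¹`
      have h2 : cn ((m : G)⁻¹ * x)⁻¹ b ∈ P.B := (inv_mem hm b).2 hb
      have h3 := (hx (cn ((m : G)⁻¹ * x)⁻¹ b)).2 (B_le_PJ P e J h2)
      rw [← cn_mul] at h3
      have h4 : x * ((m : G)⁻¹ * x)⁻¹ = m := by group
      rw [h4, cn_of] at h3
      exact h3
    simpa using inv_mem h1
  have hmG : (m : G) ∈ (stb (PJ P e J) : Subgroup G) := (coe_mem_stb_PJ P e).2 hmJ
  exact ⟨m, hmJ, _, hm, mul_mem (inv_mem hmG) hx, by group⟩

variable [hN : ((P.B ⊓ P.N).subgroupOf P.N).Normal] (cs : CoxeterSystem M (WP P))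
  (hcs : ∀ i, cs.simple i = QuotientGroup.mk (⟨(e i : N), P.subset (e i).2⟩ : P.N))

include hcs

theorem sig_mul {x y : G} (hx : x ∈ stb P.B) (hy : y ∈ stb P.B) (i : I) :
    sig e cs hcs (mul_mem hx hy) i = sig e cs hcs hx (sig e cs hcs hy i) := by
  apply simple_inj e cs hcs
  rw [← fW_simple, ← fW_simple, ← fW_simple]
  obtain ⟨g, hg⟩ := TwOfBN.exists_wt (P := P) (cs.simple i)
  rw [← hg, TwOfBN.fW_wt (cn (x * y)) (mul_mem hx hy), TwOfBN.fW_wt (cn y) hy, TwOfBN.fW_wt (cn x) hx, cn_mul]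

/-- an element of `stb B` mapping `J` into `K` maps `P_J` into `P_K` -/
theorem cn_mem_PJ {x : G} (hx : x ∈ stb P.B) {J K : Set I} (h : ∀ j ∈ J, sig e cs hcs hx j ∈ K) {n : N}
    (hn : n ∈ PJ P e J) : cn x n ∈ PJ P e K := by
  rw [mem_PJ P e cs hcs] at hn ⊢
  rw [← TwOfBN.fW_wt (cn x) hx]
  obtain ⟨ω, hω, hw⟩ := Tits.Exchange.exists_word_of_mem_WJ cs hn
  rw [← hw, fW_wordProd e cs hcs hx]
  refine Tits.Exchange.wordProd_mem_WJ cs fun i hi => ?_
  obtain ⟨j, hj, rfl⟩ := List.mem_map.1 hi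
  exact h j (hω j hj)

/-- every element of `stb B` preserves `J` or interchanges `J` and `K` -/
def Dg (J K : Set I) : Prop := ∀ x (hx : x ∈ stb P.B), (∀ j ∈ J, sig e cs hcs (x := x) hx j ∈ J) ∨
  ((∀ j ∈ J, sig e cs hcs (x := x) hx j ∈ K) ∧ ∀ k ∈ K, sig e cs hcs (x := x) hx k ∈ J)

variable {J K : Set I} (hD : Dg (G := G) e cs hcs J K)

include hD in
/-- the product of two elements interchanging `J` and `K` -/
theorem sq_mem {x y : G} (hx : x ∈ stb P.B) (hy : y ∈ stb P.B) (h1 : ∀ j ∈ J, sig e cs hcs hy j ∈ K)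
    (h2 : ∀ k ∈ K, sig e cs hcs hx k ∈ J) : x * y ∈ (stb (PJ P e J) : Subgroup G) := by
  refine mem_stb_PJ e cs hcs (mul_mem hx hy) fun j hj => ?_
  rw [sig_mul e cs hcs hx hy]
  exact h2 _ (h1 j hj)

include hD in
/-- **Double cosets of `stb P_J` closed under inversion.** -/
theorem dc_inv' [Fact p.Prime] (hs : Split P p U)
    (hR1 : ∀ w : WP P, ∃ a ∈ WJ cs J, ∃ b ∈ WJ cs J, w⁻¹ = a * w * b)
    (hR2 : ∀ x (hx : x ∈ stb P.B), (∀ j ∈ J, sig e cs hcs (x := x) hx j ∈ K) →
      (∀ k ∈ K, sig e cs hcs (x := x) hx k ∈ J) →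
      ∀ w : WP P, ∃ a ∈ WJ cs J, ∃ b ∈ WJ cs K, TwOfBN.fW P (cn x) w⁻¹ = a * w * b)
    (g : G) : ∃ a ∈ (stb (PJ P e J) : Subgroup G), ∃ b ∈ (stb (PJ P e J) : Subgroup G), g⁻¹ = a * g * b := by
  obtain ⟨n, hy⟩ := exists_mul_B hs g
  obtain ⟨y, hyd⟩ : ∃ y, y = (n : G)⁻¹ * g := ⟨_, rfl⟩
  rw [← hyd] at hy
  have hg : g = n * y := by rw [hyd]; group
  have hinv : wt P n⁻¹ = (wt P n)⁻¹ := by
    obtain ⟨k, hk⟩ := exists_mem_C P n
    rw [wt_of_mem P hk, ← QuotientGroup.mk_inv]
    exact wt_of_mem P (inv_mem_C hk)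
  rcases hD y hy with hJ | ⟨hJK, hKJ⟩
  · have hyJ := mem_stb_PJ e cs hcs hy hJ
    obtain ⟨a, ha, b, hb, hab⟩ := hR1 (wt P n)
    rw [← hinv] at hab
    have h2 : DoubleCoset.setoid (PJ P e J : Set N) (PJ P e J : Set N) n n⁻¹ := by
      rw [setoid_iff P e cs hcs, DoubleCoset.rel_iff]
      exact ⟨a, ha, b, hb, hab⟩
    obtain ⟨c, hc, d, hd, hcd⟩ := DoubleCoset.rel_iff.1 h2
    have hc' : (c : G) ∈ (stb (PJ P e J) : Subgroup G) := (coe_mem_stb_PJ P e).2 hc
    have hd' : (d : G) ∈ (stb (PJ P e J) : Subgroup G) := (coe_mem_stb_PJ P e).2 hd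
    have h3 : (n : G)⁻¹ = c * n * d := by
      have h4 := congrArg (fun z : N => (z : G)) hcd
      simpa only [_root_.InvMemClass.coe_inv, _root_.Subgroup.coe_mul] using h4
    refine ⟨y⁻¹ * c, mul_mem (inv_mem hyJ) hc', y⁻¹ * d, mul_mem (inv_mem hyJ) hd', ?_⟩
    rw [hg, mul_inv_rev, h3]
    group
  · obtain ⟨a, ha, b, hb, hab⟩ := hR2 y hy hJK hKJ (wt P n)
    rw [← hinv, TwOfBN.fW_wt (cn y) hy] at hab
    have h2 : DoubleCoset.setoid (PJ P e J : Set N) (PJ P e K : Set N) n (cn y n⁻¹) := by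
      rw [setoid_iff P e cs hcs, DoubleCoset.rel_iff]
      exact ⟨a, ha, b, hb, hab⟩
    obtain ⟨c, hc, d, hd, hcd⟩ := DoubleCoset.rel_iff.1 h2
    have hc' : (c : G) ∈ (stb (PJ P e J) : Subgroup G) := (coe_mem_stb_PJ P e).2 hc
    have hyy : y * y ∈ (stb (PJ P e J) : Subgroup G) := sq_mem e cs hcs hD hy hy hJK hKJ
    have hd1 : (cn y d : N) ∈ PJ P e J := cn_mem_PJ e cs hcs hy hKJ hd
    have hd2 : ((cn y d : N) : G) ∈ (stb (PJ P e J) : Subgroup G) := (coe_mem_stb_PJ P e).2 hd1
    rw [cn_coe] at hd2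
    have h3 : y * (n : G)⁻¹ * y⁻¹ = c * n * d := by
      have h4 := congrArg (fun z : N => (z : G)) hcd
      simpa only [cn_coe, mul_assoc, _root_.map_inv, _root_.InvMemClass.coe_inv, _root_.mul_inv_rev, _root_.inv_inv, _root_.Subgroup.coe_mul] using h4
    refine ⟨(y * y)⁻¹ * c, mul_mem (inv_mem hyy) hc', (y * y)⁻¹ * (y * d * y⁻¹) * (y * y),
      mul_mem (mul_mem (inv_mem hyy) hd2) hyy, ?_⟩
    have h4 : (n : G)⁻¹ = y⁻¹ * (c * n * d) * y := by rw [← h3]; group
    rw [hg, mul_inv_rev, h4]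
    group

/-- **The subdegree of `w₀`.** -/
theorem exists_subdeg' [Fact p.Prime] (hs : Split P p U) (hne : J ≠ Set.univ)
    (hop : ∀ a ∈ WJ cs J, w0 cs * a * w0 cs ∈ WJ cs J) :
    ∃ g ∈ N, g ∉ (stb (PJ P e J) : Subgroup G) ∧ ∀ q : ℕ, q.Prime → q ≠ p →
      ¬ q ∣ ((stb (PJ P e J) : Subgroup G).map (MulAut.conj g).toMonoidHom).relIndex (stb (PJ P e J)) := by
  classical
  have hfin : Finite (WP P) := inferInstance
  have hw2 := Tits.Exchange.w0_mul_self cs
  obtain ⟨n, hn⟩ := QuotientGroup.mk_surjective (w0 cs)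
  have hwn : wt P ((n : P.N) : N) = w0 cs := by rw [wt_of_mem P (self_mem_C _), hn]
  refine ⟨(((n : P.N) : N) : G), ((n : P.N) : N).2, ?_, ?_⟩
  · rw [coe_mem_stb_PJ, mem_PJ P e cs hcs, hwn]
    exact w0_notMem e cs hcs hne
  · intro q hq hqp hdvd
    set C : Subgroup G := (stb (PJ P e J) : Subgroup G).map (MulAut.conj (((n : P.N) : N) : G)).toMonoidHom with hC
    have hUle : U.map N.subtype ≤ (stb (PJ P e J) : Subgroup G) := by
      rintro _ ⟨u, hu, rfl⟩
      exact (coe_mem_stb_PJ P e).2 (B_le_PJ P e J (hs.le hu))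
    have key : ∀ h ∈ (stb (PJ P e J) : Subgroup G), ∃ u ∈ U, ∃ k ∈ (stb (PJ P e J) : Subgroup G),
        h * (((n : P.N) : N) : G) = (u : N) * (((n : P.N) : N) : G) * k := by
      intro h hh
      obtain ⟨m, hm, x, hx, -, rfl⟩ := exists_mul_stb' e hs hh
      -- the weight of the conjugate
      have h1 : wt P (cn x (n : P.N)) = w0 cs := by
        rw [← TwOfBN.fW_wt (cn x) hx, hwn, fW_w0 e cs hcs hx]
      obtain ⟨a, ha, h2⟩ := wt_mul_PJ_left P e cs hcs hm (cn x (n : P.N))
      obtain ⟨b, hb, h4⟩ := wt_mul_PJ_right P e cs hcs (inv_mem hm) (m * cn x (n : P.N))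
      rw [h2, h1] at h4
      have h5 : a * w0 cs * b = w0 cs * ((w0 cs * a * w0 cs) * b) := by
        calc a * w0 cs * b = (w0 cs * w0 cs) * a * w0 cs * b := by rw [hw2, one_mul]
          _ = w0 cs * ((w0 cs * a * w0 cs) * b) := by group
      rw [h5] at h4
      obtain ⟨y, hyN, hy, hyb⟩ := (mem_WJ_iff P e cs hcs).1 (mul_mem (hop a ha) hb)
      have h6 : wt P (((n : P.N) : N) * y) = w0 cs * (w0 cs * a * w0 cs * b) := by
        rw [hyb, ← hn, ← QuotientGroup.mk_mul]
        exact (wt_of_mem P (n := (n * ⟨y, hyN⟩ :)) (self_mem_C _) :)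
      obtain ⟨u, hu, c, hc, h7⟩ := exists_mul hs (h6.trans h4.symm)
      have hyJ : y ∈ PJ P e J := (le_sup_right : Subgroup.closure _ ≤ PJ P e J) hy
      refine ⟨u, hu, (y * c : N) * (m * x), ?_, ?_⟩
      · exact mul_mem ((coe_mem_stb_PJ P e).2 (mul_mem hyJ (B_le_PJ P e J hc))) hh
      · have h8 := congrArg (fun z : N => (z : G)) h7
        have h9 : (m : G) * (x * n * x⁻¹) * (m : G)⁻¹ = (u : G) * (n * y) * c := by
          simpa only [cn_coe, mul_assoc, _root_.Subgroup.coe_mul, _root_.InvMemClass.coe_inv] using h8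
        calc (m : G) * x * n = ((m : G) * (x * n * x⁻¹) * (m : G)⁻¹) * (m * x) := by group
          _ = (u : G) * (n * y) * c * (m * x) := by rw [h9]
          _ = u * n * ((y * c : N) * (m * x)) := by
            rw [Subgroup.coe_mul]
            group
    have h1 := H687.relIndex_of_mul (A := (stb (PJ P e J) : Subgroup G)) (B := U.map N.subtype) (C := C) hUle
      (fun h hh => by
        obtain ⟨u, hu, k, hk, h1⟩ := key h⁻¹ (inv_mem hh)
        refine ⟨(((n : P.N) : N) : G) * k⁻¹ * (((n : P.N) : N) : G)⁻¹, ⟨k⁻¹, inv_mem hk, rfl⟩, ((u⁻¹ : N) : G),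
          ⟨u⁻¹, inv_mem hu, rfl⟩, ?_⟩
        have h2 : h⁻¹ = u * n * k * (((n : P.N) : N) : G)⁻¹ := by rw [← h1]; group
        rw [← inv_inv h, h2, Subgroup.coe_inv]
        group)
    rw [h1] at hdvd
    have hUp : IsPGroup p (U.map N.subtype) := hs.isP.map _
    obtain ⟨k, hk⟩ := hUp.index (C.subgroupOf (U.map N.subtype))
    rw [Subgroup.relIndex, hk] at hdvd
    exact hqp ((Nat.prime_dvd_prime_iff_eq hq Fact.out).1 (hq.dvd_of_dvd_pow hdvd))

include hD in
/-- **The index of `N · stb P_J`.** -/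
theorem index_sup [Fact p.Prime] (hs : Split P p U) : (N ⊔ (stb (PJ P e J) : Subgroup G)).index ∣ 2 := by
  classical
  obtain ⟨L, hL⟩ : ∃ L, L = N ⊔ (stb (PJ P e J) : Subgroup G) := ⟨_, rfl⟩
  have hNL : ∀ n : N, (n : G) ∈ L := fun n => by rw [hL]; exact (le_sup_left : N ≤ _) n.2
  have hSL : ∀ x ∈ (stb (PJ P e J) : Subgroup G), x ∈ L := fun x hx => by
    rw [hL]; exact (le_sup_right : (stb (PJ P e J) : Subgroup G) ≤ _) hx
  rw [← hL]
  have hdec : ∀ x : G, x ∈ L ∨ ∃ (m : N) (y : G) (hy : y ∈ stb P.B), x = m * y ∧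
      (∀ j ∈ J, sig e cs hcs hy j ∈ K) ∧ ∀ k ∈ K, sig e cs hcs hy k ∈ J := by
    intro x
    obtain ⟨m, hm⟩ := exists_mul_B hs x
    rcases hD _ hm with h | ⟨h1, h2⟩
    · left
      have h3 := mul_mem (hNL m) (hSL _ (mem_stb_PJ e cs hcs hm h))
      rwa [mul_inv_cancel_left] at h3
    · exact Or.inr ⟨m, _, hm, by group, h1, h2⟩
  have hprod : ∀ x y : G, x ∉ L → y ∉ L → x * y ∈ L := by
    intro x y hx hy
    rcases hdec x with h | ⟨m1, y1, hy1, rfl, h1, h2⟩
    · exact absurd h hx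
    rcases hdec y with h | ⟨m2, y2, hy2, rfl, h3, h4⟩
    · exact absurd h hy
    have h5 := mul_mem (mul_mem (hNL m1) (hNL (cn y1 m2))) (hSL _ (sq_mem e cs hcs hD hy1 hy2 h3 h2))
    rw [cn_coe] at h5
    have h6 : (m1 : G) * y1 * (m2 * y2) = m1 * (y1 * m2 * y1⁻¹) * (y1 * y2) := by group
    rwa [h6]
  by_cases htop : L = ⊤
  · rw [htop, Subgroup.index_top]
    exact one_dvd 2
  · obtain ⟨a, ha⟩ : ∃ a, a ∉ L := by
      by_contra h
      push Not at h
      exact htop (Subgroup.eq_top_iff' L |>.2 h)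
    have h1 : L.index = 2 := by
      rw [Subgroup.index_eq_two_iff]
      refine ⟨a, fun b => ?_⟩
      by_cases hb : b ∈ L
      · right
        refine ⟨hb, fun h => ha ?_⟩
        have := mul_mem (inv_mem hb) h
        rwa [inv_mul_cancel_left] at this
      · exact Or.inl ⟨hprod b a hb ha, hb⟩
    rw [h1]

end BN

section Theta

variable {G : Type u} [Group G] [Finite G] {N : Subgroup G} [N.Normal]
  {P : Cfsg.BNPair N} {I : Type*} {e : I ≃ P.S}

/-- a constituent of the restriction to `N` -/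
theorem exists_theta {J : Set I} {χ : IrrCharacter G} (hχ : ∃ n ∈ N, (χ : G → ℂ) n ≠ (χ : G → ℂ) 1)
    (hc : Cst (PG P e J) (χ : G → ℂ)) :
    ∃ θ : IrrCharacter N, θ ≠ triv N ∧ Cst (PJ P e J) (θ : N → ℂ) ∧
      charDegree (θ : N → ℂ) ∣ charDegree (χ : G → ℂ) := by
  classical
  have := Fintype.ofFinite G
  have := Fintype.ofFinite N
  have hfi : Finite (IrrCharacter N) := Characters.Core.finite_irr
  have := Fintype.ofFinite (IrrCharacter N)
  have := Fintype.ofFinite (PJ P e J)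
  have := Fintype.ofFinite (PG P e J)
  rw [cst_iff] at hc
  have hres := Characters.Clifford.isCharacter_restrict N (Characters.Core.isIrr_isCharacter χ.2)
  obtain ⟨a, ha⟩ := Characters.Core.exists_nat_comb hres
  obtain ⟨θ, hθa, hθ⟩ : ∃ θ : IrrCharacter N, a θ ≠ 0 ∧ ∑ x : PJ P e J, (θ : N → ℂ) x ≠ 0 := by
    by_contra hcon
    push Not at hcon
    apply hc
    have h1 : ∑ x : PG P e J, (χ : G → ℂ) x = ∑ x : PJ P e J, (χ : G → ℂ) ((x : N) : G) := by
      symm
      let E : PJ P e J ≃ PG P e J := ((PJ P e J).equivMapOfInjective N.subtype N.subtype_injective).toEquiv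
      exact Fintype.sum_equiv E
        (fun x : PJ P e J => (χ : G → ℂ) ((x : N) : G)) (fun x : PG P e J => (χ : G → ℂ) x) (fun x => rfl)
    have h2 : ∀ x : N, (χ : G → ℂ) x = ∑ θ : IrrCharacter N, (a θ : ℂ) * (θ : N → ℂ) x := by
      intro x
      have h3 := congrFun ha x
      rw [H687.comb_apply] at h3
      exact h3
    have h4 : ∀ x : PJ P e J, (χ : G → ℂ) ((x : N) : G) = ∑ θ : IrrCharacter N, (a θ : ℂ) * (θ : N → ℂ) x :=
      fun x => h2 x
    rw [h1, Finset.sum_congr rfl fun x _ => h4 x, Finset.sum_comm]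
    refine Finset.sum_eq_zero fun θ _ => ?_
    rw [← Finset.mul_sum]
    by_cases h3 : a θ = 0
    · rw [h3, Nat.cast_zero, zero_mul]
    · rw [hcon θ h3, mul_zero]
  have hin : classInner (fun n : N => (χ : G → ℂ) n) (θ : N → ℂ) ≠ 0 := by
    rw [ha, Characters.Core.classInner_sum_nsmul_irr]
    exact_mod_cast hθa
  refine ⟨θ, ?_, (cst_iff _ _).2 hθ, H612.Heredity.degree_dvd N χ θ hin⟩
  intro h1
  have h2 := H612.Heredity.sum_coset_eq_zero N χ hχ 1
  simp only [mul_one] at h2
  apply hin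
  rw [h1, Characters.Core.classInner_def]
  have h3 : ∀ n : N, (χ : G → ℂ) n * conj (((triv N : IrrCharacter N) : N → ℂ) n) = (χ : G → ℂ) n := by
    intro n
    show (χ : G → ℂ) n * conj ((1 : N → ℂ) n) = _
    simp
  rw [Finset.sum_congr rfl fun n _ => h3 n, h2, mul_zero]

end Theta

section TwoTrans

variable {N : Type u} [Group N] [Finite N]

/-- **The degree for a 2-transitive action.** -/
theorem deg_of_two (H : Subgroup N) (g : N) (h2 : ∀ y, y ∈ H ∨ ∃ a ∈ H, ∃ b ∈ H, y = a * g * b) {θ : IrrCharacter N}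
    (hθ : θ ≠ triv N) (hc : Cst H (θ : N → ℂ)) : charDegree (θ : N → ℂ) + 1 = H.index := by
  classical
  have := Fintype.ofFinite N
  have hfi : Finite (IrrCharacter N) := Characters.Core.finite_irr
  have := Fintype.ofFinite (IrrCharacter N)
  have := Fintype.ofFinite H
  have hH : (Nat.card H : ℂ) ≠ 0 := by exact_mod_cast Nat.card_pos.ne'
  have hch := CharactersDeep.IndFun.isCharacter_indFun H (Characters.Core.isCharacter_one (G := H))
  -- the multiplicities
  have hm : ∀ χ : IrrCharacter N, classInner (indFun H (1 : H → ℂ)) (χ : N → ℂ) = (mult H χ : ℂ) := by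
    intro χ
    rw [CharactersDeep.IndFun.classInner_indFun H 1 (χ : N → ℂ) (Characters.Core.isIrr_isClassFunction χ.2),
      Characters.Core.classInner_def]
    simp only [Pi.one_apply, one_mul]
    rw [← map_sum, mult_spec, map_mul, map_natCast, map_natCast, inv_mul_cancel_left₀ hH]
  obtain ⟨a, ha⟩ := Characters.Core.exists_nat_comb hch
  have ham : ∀ χ, a χ = mult H χ := by
    intro χ
    have h1 := hm χ
    rw [ha, Characters.Core.classInner_sum_nsmul_irr] at h1
    exact_mod_cast h1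
  have hnorm : classInner (indFun H (1 : H → ℂ)) (indFun H (1 : H → ℂ)) = ((∑ χ : IrrCharacter N, mult H χ * mult H χ : ℕ) : ℂ) := by
    have h1 := Characters.Core.classInner_sum_smul_sum_smul (G := N) (fun ψ => (a ψ : ℂ)) (fun ψ => (a ψ : ℂ))
    simp only [Nat.cast_smul_eq_nsmul] at h1
    rw [← ha] at h1
    rw [h1]
    push_cast
    refine Finset.sum_congr rfl fun χ _ => ?_
    rw [ham]
    simp
  have hle : (∑ χ : IrrCharacter N, mult H χ * mult H χ : ℕ) ≤ Fintype.card (Fin 2) := by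
    refine H687.norm_le H (1 : H →* ℂˣ) (![1, g] : Fin 2 → N) (fun y _ => ?_) ?_
    · rcases h2 y with h | ⟨a, ha, b, hb, h⟩
      · exact ⟨0, y, h, 1, one_mem _, by simp⟩
      · exact ⟨1, a, ha, b, hb, by simpa using h⟩
    · have h1 : (fun t : H => ((1 : H →* ℂˣ) t : ℂ)) = (1 : H → ℂ) := by
        funext t
        simp
      rw [h1, hnorm]
  rw [Fintype.card_fin] at hle
  have hθm : mult H θ ≠ 0 := by
    intro h
    rw [cst_iff] at hc
    exact hc ((mult_eq_zero_iff H θ).1 h)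
  have h1 : ∀ χ, χ ≠ triv N → χ ≠ θ → mult H χ = 0 := by
    intro χ h3 h4
    by_contra h5
    have h6 : mult H (triv N) * mult H (triv N) + (mult H θ * mult H θ + mult H χ * mult H χ) ≤
        ∑ χ : IrrCharacter N, mult H χ * mult H χ := by
      rw [← Finset.add_sum_erase _ _ (Finset.mem_univ (triv N)),
        ← Finset.add_sum_erase _ _ (Finset.mem_erase.2 ⟨hθ, Finset.mem_univ θ⟩)]
      have h7 := Finset.single_le_sum (f := fun χ => mult H χ * mult H χ)
        (s := (Finset.univ.erase (triv N)).erase θ) (fun _ _ => Nat.zero_le _)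
        (Finset.mem_erase.2 ⟨h4, Finset.mem_erase.2 ⟨h3, Finset.mem_univ χ⟩⟩)
      omega
    rw [mult_triv] at h6
    have h7 : 1 ≤ mult H θ * mult H θ := Nat.mul_pos (Nat.pos_of_ne_zero hθm) (Nat.pos_of_ne_zero hθm)
    have h8 : 1 ≤ mult H χ * mult H χ := Nat.mul_pos (Nat.pos_of_ne_zero h5) (Nat.pos_of_ne_zero h5)
    omega
  have h3 : mult H θ = 1 := by
    have h6 : mult H (triv N) * mult H (triv N) + mult H θ * mult H θ ≤
        ∑ χ : IrrCharacter N, mult H χ * mult H χ := by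
      rw [← Finset.add_sum_erase _ _ (Finset.mem_univ (triv N)),
        ← Finset.add_sum_erase _ _ (Finset.mem_erase.2 ⟨hθ, Finset.mem_univ θ⟩)]
      omega
    rw [mult_triv] at h6
    have h7 : mult H θ * mult H θ ≤ 1 := by omega
    rcases Nat.lt_or_ge (mult H θ) 2 with h8 | h8
    · omega
    · have := Nat.mul_le_mul h8 h8
      omega
  have h4 := sum_deg_mult H
  rw [← Finset.add_sum_erase _ _ (Finset.mem_univ (triv N)),
    ← Finset.add_sum_erase _ _ (Finset.mem_erase.2 ⟨hθ, Finset.mem_univ θ⟩),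
    Finset.sum_eq_zero (s := (Finset.univ.erase (triv N)).erase θ) (fun χ hχ => by
      rw [h1 χ (Finset.ne_of_mem_erase (Finset.mem_of_mem_erase hχ)) (Finset.ne_of_mem_erase hχ), mul_zero]),
    mult_triv, h3, deg_triv] at h4
  omega

end TwoTrans

end Cfsg.Agent.H685.R4
end

-- part: H685/R4/CharTwo
section
/-!
# S4554, groups of Lie type of characteristic two: the criterion (helper685)

`r3_of_two` : three different degrees of real irreducible characters of `G`, not trivial on `N`.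
-/

set_option autoImplicit false
set_option linter.unusedSectionVars false

namespace Cfsg.Agent.H685.R4

open Cfsg Cfsg.Agent.LieExceptional.BNPairCore Cfsg.Agent.Tits.Core Cfsg.Agent.Tits.OfBN
open Cfsg.Agent.H612.BNCosets Cfsg.Agent.FixBN
open Cfsg.Agent.H619.R4 (RD R3)

universe u

variable {G : Type u} [Group G] [Finite G] {N : Subgroup G} [N.Normal]
  {P : Cfsg.BNPair N} {I : Type*} {M : CoxeterMatrix I} (e : I ≃ P.S) {U : Subgroup N}

/-- three degrees: the even case -/
theorem r3_even {d₁ a d₂ : ℕ} (h1 : Odd d₁) (hd1 : RD G N d₁) (ha : 0 < a) (hst : RD G N (2 ^ a)) (h2 : Even d₂)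
    (hd2 : RD G N d₂) (hne : ∀ k, d₂ ≠ 2 ^ k) : R3 G N := by
  refine ⟨d₁, 2 ^ a, d₂, ?_, ?_, fun h => hne a h.symm, hd1, hst, hd2⟩
  · intro h
    rw [h] at h1
    exact (Nat.not_odd_iff_even.2 ((even_two).pow_of_ne_zero ha.ne')) h1
  · intro h
    rw [h] at h1
    exact (Nat.not_odd_iff_even.2 h2) h1

/-- three degrees: the odd case -/
theorem r3_odd {d₁ a d₂ : ℕ} (h1 : Odd d₁) (hd1 : RD G N d₁) (ha : 0 < a) (hst : RD G N (2 ^ a)) (h2 : Odd d₂)
    (hd2 : RD G N d₂) (hne : d₁ ≠ d₂) : R3 G N := by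
  have h3 : ¬ Odd (2 ^ a) := Nat.not_odd_iff_even.2 ((even_two).pow_of_ne_zero ha.ne')
  refine ⟨d₁, 2 ^ a, d₂, ?_, hne, ?_, hd1, hst, hd2⟩
  · intro h
    rw [h] at h1
    exact h3 h1
  · intro h
    rw [← h] at h2
    exact h3 h2

/-- the index of a parabolic subgroup is odd -/
theorem odd_index [Fact (Nat.Prime 2)] (hs : Split P 2 U) (J : Set I) : Odd (PJ P e J).index := by
  obtain ⟨Q, hQ⟩ := H612.CharTwo.exists_sylow hs
  rw [← Nat.not_even_iff_odd, even_iff_two_dvd]
  intro h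
  have h1 : (PJ P e J).index ∣ U.index := Subgroup.index_dvd_of_le (hs.le.trans (B_le_PJ P e J))
  have h2 := Q.not_dvd_index
  rw [hQ] at h2
  exact h2 (h.trans h1)

variable [hN : ((P.B ⊓ P.N).subgroupOf P.N).Normal] (cs : CoxeterSystem M (WP P))
  (hcs : ∀ i, cs.simple i = QuotientGroup.mk (⟨(e i : N), P.subset (e i).2⟩ : P.N))

include hcs

/-- **The criterion in characteristic two.** -/
theorem r3_of_two [IsSimpleGroup N] (hna : ∃ a b : N, a * b ≠ b * a) (hL : IsLieTypeChar 2 N) (hs : Split P 2 U)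
    {J K : Set I} {j : I} (hj : j ∈ J) (hne : J ≠ Set.univ) (hD : Dg (G := G) e cs hcs J K)
    (hR1 : ∀ w : WP P, ∃ a ∈ WJ cs J, ∃ b ∈ WJ cs J, w⁻¹ = a * w * b)
    (hR2 : ∀ x (hx : x ∈ (stb P.B : Subgroup G)), (∀ j ∈ J, sig e cs hcs (x := x) hx j ∈ K) →
      (∀ k ∈ K, sig e cs hcs (x := x) hx k ∈ J) →
      ∀ w : WP P, ∃ a ∈ WJ cs J, ∃ b ∈ WJ cs K, TwOfBN.fW P (cn x) w⁻¹ = a * w * b)
    (hcase : (∀ a ∈ WJ cs J, w0 cs * a * w0 cs ∈ WJ cs J) ∨
      ∃ g : N, ∀ y : N, y ∈ PJ P e J ∨ ∃ a ∈ PJ P e J, ∃ b ∈ PJ P e J, y = a * g * b) : R3 G N := by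
  classical
  have hp2 : Fact (Nat.Prime 2) := ⟨Nat.prime_two⟩
  have hna' : ¬ IsMulCommutative N := by
    intro h
    obtain ⟨a, b, hab⟩ := hna
    exact hab (mul_comm' a b)
  -- the order is even
  have hU : 2 ∣ Nat.card N := by
    obtain ⟨V, hV⟩ := hs.node (e j) (e j).2
    obtain ⟨u, hu, huV⟩ := hV.ne
    obtain ⟨k, hk⟩ := hs.isP ⟨u, hu⟩
    have hu1 : u ≠ 1 := fun e => huV (by rw [e]; exact one_mem _)
    have hk' : u ^ 2 ^ k = 1 := by
      have := congrArg Subtype.val hk
      simpa only [_root_.SubmonoidClass.mk_pow, _root_.OneMemClass.coe_one] using this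
    obtain ⟨i, -, hi⟩ := (Nat.dvd_prime_pow Nat.prime_two).1 (orderOf_dvd_of_pow_eq_one hk')
    have hi0 : i ≠ 0 := by
      rintro rfl
      rw [pow_zero, orderOf_eq_one_iff] at hi
      exact hu1 hi
    refine dvd_trans ?_ (orderOf_dvd_natCard u)
    rw [hi]
    exact dvd_pow_self 2 hi0
  have hSt := rd_steinberg N (⟨P, U, ⟨_, (e j).2⟩, hs⟩ : HasSplit 2 N) hU
  have ha : 0 < (Nat.card N).factorization 2 := Nat.prime_two.factorization_pos_of_dvd Nat.card_pos.ne' hU
  obtain ⟨d₁, hd1, hrd1⟩ := H619.R4.real_odd N hna' hU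
  -- reality
  obtain ⟨H, hH⟩ : ∃ H, H = (stb (PJ P e J) : Subgroup G) := ⟨_, rfl⟩
  have hreal : ∀ χ : IrrCharacter G, Cst H (χ : G → ℂ) → ∀ g, ((χ : G → ℂ) g).im = 0 := by
    intro χ hχ
    have := Fintype.ofFinite H
    rw [cst_iff] at hχ
    refine im_eq_zero χ.2 (real_of_dc H χ.2 hχ fun g => ?_)
    rw [hH]
    exact dc_inv' e cs hcs hD hs hR1 hR2 g
  have hnp : ∀ χ : IrrCharacter G, (∃ n ∈ N, (χ : G → ℂ) n ≠ (χ : G → ℂ) 1) → Cst H (χ : G → ℂ) →
      ∀ k, charDegree (χ : G → ℂ) ≠ 2 ^ k := by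
    intro χ h1 h2 k
    refine not_pow (e := e) hna hL hs hj h1 ?_ k
    rw [hH] at h2
    exact h2.mono (Characters.Core.isIrr_isCharacter χ.2) (PG_le P e J)
  have heven : ∀ χ : IrrCharacter G, (∃ n ∈ N, (χ : G → ℂ) n ≠ (χ : G → ℂ) 1) → Cst H (χ : G → ℂ) →
      Even (charDegree (χ : G → ℂ)) → R3 G N := fun χ h1 h2 h3 =>
    r3_even hd1 hrd1 ha hSt h3 ⟨χ, hreal χ h2, h1, rfl⟩ (hnp χ h1 h2)
  have hidx := index_sup e cs hcs hD hs (K := K)
  rw [← hH] at hidx
  have hidx' : ∀ q : ℕ, q.Prime → q ≠ 2 → ¬ q ∣ (N ⊔ H).index := by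
    intro q hq hq2 h
    exact hq2 ((Nat.prime_dvd_prime_iff_eq hq Nat.prime_two).1 (h.trans hidx))
  rcases hcase with hop | ⟨g, hg⟩
  · obtain ⟨g, hgN, hgH, hsub⟩ := exists_subdeg' (G := G) e cs hcs hs hne hop
    rw [← hH] at hgH hsub
    obtain ⟨χ, h1, h2, -⟩ := subdeg_N N H hgN hgH Nat.prime_three (hsub 3 Nat.prime_three (by norm_num))
      (hidx' 3 Nat.prime_three (by norm_num))
    rcases Nat.even_or_odd (charDegree (χ : G → ℂ)) with h3 | h3
    · exact heven χ h1 h2 h3
    · -- an odd prime divisor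
      have h4 : charDegree (χ : G → ℂ) ≠ 1 := by
        have := hnp χ h1 h2 0
        rwa [pow_zero] at this
      obtain ⟨q, hq, hqd⟩ := Nat.exists_prime_and_dvd h4
      have hq2 : q ≠ 2 := by
        rintro rfl
        exact (Nat.not_even_iff_odd.2 h3) (even_iff_two_dvd.2 hqd)
      obtain ⟨ψ, h5, h6, h7⟩ := subdeg_N N H hgN hgH hq (hsub q hq hq2) (hidx' q hq hq2)
      rcases Nat.even_or_odd (charDegree (ψ : G → ℂ)) with h8 | h8
      · exact heven ψ h5 h6 h8
      · refine r3_odd h3 ⟨χ, hreal χ h2, h1, rfl⟩ ha hSt h8 ⟨ψ, hreal ψ h6, h5, rfl⟩ ?_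
        intro h9
        rw [h9] at hqd
        exact h7 hqd
  · -- 2-transitive
    have hgH : (g : G) ∉ H := by
      intro h
      rw [hH, coe_mem_stb_PJ] at h
      apply w0_notMem e cs hcs hne
      obtain ⟨n, hn⟩ := wt_surjective P (w0 cs)
      rw [← hn, ← mem_PJ P e cs hcs]
      rcases hg n with h1 | ⟨a, ha, b, hb, h1⟩
      · exact h1
      · rw [h1]
        exact mul_mem (mul_mem ha h) hb
    obtain ⟨q, hqle, hq⟩ := Nat.exists_infinite_primes ((H.map (MulAut.conj (g : G)).toMonoidHom).relIndex H + 3)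
    have hpos : 0 < (H.map (MulAut.conj (g : G)).toMonoidHom).relIndex H :=
      Nat.pos_of_ne_zero Subgroup.FiniteIndex.index_ne_zero
    obtain ⟨χ, h1, h2, -⟩ := subdeg_N N H g.2 hgH hq (fun h => by
      have := Nat.le_of_dvd hpos h
      omega) (hidx' q hq (by omega))
    have h3 : Cst (PG P e J) (χ : G → ℂ) := by
      rw [hH] at h2
      exact h2.mono (Characters.Core.isIrr_isCharacter χ.2) (PG_le P e J)
    obtain ⟨θ, hθ, hθc, hθd⟩ := exists_theta h1 h3
    have h4 := deg_of_two (PJ P e J) g hg hθ hθc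
    have h5 := odd_index e hs J
    rw [← h4] at h5
    have h6 : Even (charDegree (θ : N → ℂ)) := by
      rw [Nat.odd_add_one, Nat.not_odd_iff_even] at h5
      exact h5
    exact heven χ h1 h2 (even_iff_two_dvd.2 ((even_iff_two_dvd.1 h6).trans hθd))

end Cfsg.Agent.H685.R4
end

-- part: H685/R4/Crit
section
/-!
# S4554, groups of Lie type of characteristic two: the criteria for types (helper685)

* `r3_stable` : `J` invariant under the symmetries of the Coxeter matrix;
* `r3_swap` : every symmetry preserves `J` or interchanges `J` and `K`.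
-/

set_option autoImplicit false
set_option linter.unusedSectionVars false

namespace Cfsg.Agent.H685.R4

open Cfsg Cfsg.Agent.LieExceptional.BNPairCore Cfsg.Agent.Tits.Core Cfsg.Agent.Tits.OfBN
open Cfsg.Agent.H612.BNCosets Cfsg.Agent.FixBN
open Cfsg.Agent.H619.R4 (RD R3 Row)
open Cfsg.Agent.Omega.ML.Ex.Typ (HasSplitT)

universe u

variable {G : Type u} [Group G] [Finite G] {N : Subgroup G} [N.Normal] {I : Type*} {M : CoxeterMatrix I}

/-- **The criterion with an invariant `J`.** -/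
theorem r3_stable [IsSimpleGroup N] (hna : ∃ a b : N, a * b ≠ b * a) (hL : IsLieTypeChar 2 N) (h : HasSplitT 2 M N)
    {J : Set I} {j : I} (hj : j ∈ J) (hne : J ≠ Set.univ)
    (hJ : ∀ σ : Equiv.Perm I, (∀ i j, M (σ i) (σ j) = M i j) → σ '' J = J)
    (hR : ∀ {W : Type u} [Group W] [Finite W] (cs : CoxeterSystem M W) (w : W),
      ∃ a ∈ WJ cs J, ∃ b ∈ WJ cs J, w⁻¹ = a * w * b) : R3 G N := by
  obtain ⟨P, U, e, hs, hN, cs, hcs⟩ := h
  refine r3_of_two (K := ∅) e cs hcs hna hL hs hj hne ?_ (fun w => hR cs w) ?_ (Or.inl ?_)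
  · intro x hx
    exact Or.inl (fun j hj => stable_of_symm e cs hcs hJ hx j hj)
  · intro x hx h1
    exact absurd (h1 j hj) (Set.notMem_empty _)
  · intro a ha
    have h1 := Tits.Exchange.w0_conj_mem_WJ cs ha
    rwa [op_of_symm e cs hcs hJ] at h1

/-- `w₀` and the parabolic subgroup -/
theorem hop_of_op {W : Type*} [Group W] [Finite W] [Finite I] (cs : CoxeterSystem M W) {J : Set I}
    (hop : ∀ i ∈ J, op cs i ∈ J) {a : W} (ha : a ∈ WJ cs J) : w0 cs * a * w0 cs ∈ WJ cs J := by
  have h1 := Tits.Exchange.w0_conj_mem_WJ cs ha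
  refine Tits.Exchange.WJ_mono cs ?_ h1
  rintro _ ⟨i, hi, rfl⟩
  exact hop i hi

/-- **The criterion with `J` and `K` interchanged.** -/
theorem r3_swap [IsSimpleGroup N] (hna : ∃ a b : N, a * b ≠ b * a) (hL : IsLieTypeChar 2 N) (h : HasSplitT 2 M N)
    {J K : Set I} {j : I} (hj : j ∈ J) (hne : J ≠ Set.univ)
    (hJ : ∀ σ : Equiv.Perm I, (∀ i j, M (σ i) (σ j) = M i j) → σ '' J = J ∨ σ '' J = K ∧ σ '' K = J)
    (hR1 : ∀ {W : Type u} [Group W] [Finite W] (cs : CoxeterSystem M W) (w : W),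
      ∃ a ∈ WJ cs J, ∃ b ∈ WJ cs J, w⁻¹ = a * w * b)
    (hR2 : ∀ {W : Type u} [Group W] [Finite W] (cs : CoxeterSystem M W) (σ : Equiv.Perm I)
      (_ : ∀ i j, M (σ i) (σ j) = M i j) (_ : σ '' J = K) (_ : σ '' K = J) (φ : W → W)
      (_ : ∀ v w, φ (v * w) = φ v * φ w) (_ : Function.Injective φ)
      (_ : ∀ i, φ (cs.simple i) = cs.simple (σ i)) (w : W),
      ∃ a ∈ WJ cs J, ∃ b ∈ WJ cs K, φ w⁻¹ = a * w * b)
    (hcase : (∀ {W : Type u} [Group W] [Finite W] (cs : CoxeterSystem M W) (_ : Function.Injective cs.simple),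
        ∀ i ∈ J, op cs i ∈ J) ∨
      ∀ {W : Type u} [Group W] [Finite W] (cs : CoxeterSystem M W), ∃ v : W, ∀ w : W, w ∈ WJ cs J ∨
        ∃ a ∈ WJ cs J, ∃ b ∈ WJ cs J, w = a * v * b) : R3 G N := by
  obtain ⟨P, U, e, hs, hN, cs, hcs⟩ := h
  have hfin : Finite I := OfBN.finite_I e
  have hsym : ∀ x (hx : x ∈ (stb P.B : Subgroup G)), ∃ σ : Equiv.Perm I, (∀ i, σ i = sig e cs hcs hx i) ∧
      ∀ i j, M (σ i) (σ j) = M i j := fun x hx =>
    ⟨Equiv.ofBijective _ (Finite.injective_iff_bijective.1 (sig_inj e cs hcs hx)), fun i => rfl,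
      fun i j => label_sig e cs hcs hx i j⟩
  refine r3_of_two (K := K) e cs hcs hna hL hs hj hne ?_ (fun w => hR1 cs w) ?_ ?_
  · intro x hx
    obtain ⟨σ, hσ, hM⟩ := hsym x hx
    rcases hJ σ hM with h1 | ⟨h1, h2⟩
    · left
      intro j hj
      rw [← hσ, ← h1]
      exact ⟨j, hj, rfl⟩
    · right
      refine ⟨fun j hj => ?_, fun k hk => ?_⟩
      · rw [← hσ, ← h1]
        exact ⟨j, hj, rfl⟩
      · rw [← hσ, ← h2]
        exact ⟨k, hk, rfl⟩
  · intro x hx h1 h2 w
    obtain ⟨σ, hσ, hM⟩ := hsym x hx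
    have h3 : σ '' J ⊆ K := by
      rintro _ ⟨j, hj, rfl⟩
      rw [hσ]
      exact h1 j hj
    have h4 : σ '' K ⊆ J := by
      rintro _ ⟨j, hj, rfl⟩
      rw [hσ]
      exact h2 j hj
    have h5 : J.ncard ≤ K.ncard := by
      have := Set.ncard_le_ncard h3 (Set.toFinite K)
      rwa [Set.ncard_image_of_injective J σ.injective] at this
    have h6 : K.ncard ≤ J.ncard := by
      have := Set.ncard_le_ncard h4 (Set.toFinite J)
      rwa [Set.ncard_image_of_injective K σ.injective] at this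
    refine hR2 cs σ hM ?_ ?_ _ (fW_mul e cs hcs hx) (fW_inj (P := P) hx) (fun i => ?_) w
    · exact Set.eq_of_subset_of_ncard_le h3 (by rwa [Set.ncard_image_of_injective J σ.injective]) (Set.toFinite K)
    · exact Set.eq_of_subset_of_ncard_le h4 (by rwa [Set.ncard_image_of_injective K σ.injective]) (Set.toFinite J)
    · rw [fW_simple e cs hcs hx, hσ]
  · rcases hcase with h1 | h1
    · exact Or.inl (fun a ha => hop_of_op cs (h1 cs (simple_inj e cs hcs)) ha)
    · right
      obtain ⟨v, hv⟩ := h1 cs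
      obtain ⟨g, hg⟩ := wt_surjective P v
      refine ⟨g, fun y => ?_⟩
      rcases hv (wt P y) with h2 | ⟨a, ha, b, hb, h2⟩
      · exact Or.inl ((mem_PJ P e cs hcs).2 h2)
      · right
        have h3 : DoubleCoset.setoid (PJ P e J : Set N) (PJ P e J : Set N) g y := by
          rw [setoid_iff P e cs hcs, DoubleCoset.rel_iff]
          exact ⟨a, ha, b, hb, by rw [h2, hg]⟩
        exact DoubleCoset.rel_iff.1 h3

/-- rows from the criterion -/
theorem row_of_type {S : Type u} [Group S] [Finite S] [IsSimpleGroup S] (hna : ¬ IsMulCommutative S)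
    (hL : IsLieTypeChar 2 S)
    (h : ∀ (G : Type u) [Group G] [Finite G] (N : Subgroup G) [N.Normal] [IsSimpleGroup N] (_ : S ≃* N),
      (∃ a b : N, a * b ≠ b * a) → IsLieTypeChar 2 N → R3 G N) : Row S := by
  rintro G _ _ N _ ⟨f⟩ - -
  have : IsSimpleGroup N := MulEquiv.isSimpleGroup f.symm
  have hna' : ∃ a b : S, a * b ≠ b * a := by
    by_contra hcon
    push Not at hcon
    exact hna ⟨⟨hcon⟩⟩
  obtain ⟨a, b, hab⟩ := hna'
  refine h G N f ⟨f a, f b, fun h1 => hab (f.injective ?_)⟩ (OddHalf.Known.isLieTypeChar_congr f hL)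
  rw [map_mul, map_mul, h1]

end Cfsg.Agent.H685.R4
end

-- part: H685/R4/WBD
section
/-!
# Self-paired double cosets: types `B_n`, `D_n`, `E_7` (helper685, S4554)
-/

set_option autoImplicit false
set_option linter.unusedSectionVars false

namespace Cfsg.Agent.H685.R4.WInv

open CoxeterSystem Cfsg.Agent.ChevalleyStructure.CoxeterGeom Cfsg.Agent.Tits.Roots
  Cfsg.Agent.Tits.Core Cfsg.Agent.H905.DC Cfsg.Agent.H612.WModel Cfsg.Agent.H612
open Cfsg.Agent.Nodes

theorem hR_B {n : ℕ} (hn : 1 < n) {W : Type*} [Group W] (cs : CoxeterSystem (CoxeterMatrix.B n) W) (w : W) :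
    ∃ a ∈ WJ cs {i | (i : ℕ) ≠ 0}, ∃ b ∈ WJ cs {i | (i : ℕ) ≠ 0}, w⁻¹ = a * w * b := by
  have hJ : {i : Fin n | (i : ℕ) ≠ 0} = {i | ModB.l n (by omega) i = 0} := by
    ext i
    show (i : ℕ) ≠ 0 ↔ ModB.l n _ i = 0
    rw [ModB.l_apply hn]
    split_ifs <;> simp_all
  rw [hJ]
  refine ColK.hR1_words cs (TypeC.isCartan n) (C := ofCol (ModB.col hn)) ?_ (1 : Fin 3)
    (fun k => if k = 2 then [⟨0, by omega⟩] else []) ?_ w
  · intro i
    rw [ModB.l_apply hn]
    split_ifs <;> norm_num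
  · intro k hk
    have h1 : TypeC.sg (⟨0, by omega⟩ : Fin n) (⟨0, by omega⟩, true) = (⟨1, hn⟩, true) :=
      TypeC.sg_up (i := (⟨0, by omega⟩ : Fin n)) (by simpa using hn) true
    have h2 : k = 0 ∨ k = 2 := by
      fin_cases k
      · exact Or.inl rfl
      · exact absurd rfl hk
      · exact Or.inr rfl
    rcases h2 with rfl | rfl
    · exact ⟨rfl, rfl⟩
    · have h3 : (ofCol (ModB.col hn)).c (walk (ModB.model (n := n) (by omega)) [⟨0, by omega⟩] (ModB.model (n := n) (by omega)).o) = 2 := by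
        show (ModB.col hn).c (TypeC.sg (⟨0, by omega⟩ : Fin n) (⟨0, by omega⟩, true)) = 2
        rw [h1]
        rfl
      exact ⟨h3, h3⟩

theorem hR_D {n : ℕ} (hn : 1 ≤ n) {W : Type*} [Group W] (cs : CoxeterSystem (TypeD.M n) W) (w : W) :
    ∃ a ∈ WJ cs {i | (i : ℕ) ≠ 0}, ∃ b ∈ WJ cs {i | (i : ℕ) ≠ 0}, w⁻¹ = a * w * b := by
  have hJ : {i : Fin (n + 2) | (i : ℕ) ≠ 0} = {i | ModD.l n i = 0} := by
    ext i
    show (i : ℕ) ≠ 0 ↔ ModD.l n i = 0
    rw [ModD.l_apply hn]
    split_ifs <;> simp_all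
  rw [hJ]
  refine ColK.hR1_words cs (TypeD.isCartan n) (C := ofCol (ModD.col hn)) ?_ (1 : Fin 3)
    (fun k => if k = 2 then [⟨0, by omega⟩] else []) ?_ w
  · intro i
    rw [ModD.l_apply hn]
    split_ifs <;> norm_num
  · intro k hk
    have h1 : TypeD.sg (⟨0, by omega⟩ : Fin (n + 2)) (⟨0, by omega⟩, true) = (⟨1, by omega⟩, true) :=
      ModD.sg_up (i := (⟨0, by omega⟩ : Fin (n + 2))) (by simp) true
    have h2 : k = 0 ∨ k = 2 := by
      fin_cases k
      · exact Or.inl rfl
      · exact absurd rfl hk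
      · exact Or.inr rfl
    rcases h2 with rfl | rfl
    · exact ⟨rfl, rfl⟩
    · have h3 : (ofCol (ModD.col hn)).c (walk (ModD.model n) [⟨0, by omega⟩] (ModD.model n).o) = 2 := by
        show (ModD.col hn).c (TypeD.sg (⟨0, by omega⟩ : Fin (n + 2)) (⟨0, by omega⟩, true)) = 2
        rw [h1]
        rfl
      exact ⟨h3, h3⟩

/-- the criterion for a table -/
theorem hR_dat {l : ℕ} {A : Fin l → Fin l → ℤ} {lam : Fin l → ℤ} {N r : ℕ} (D : ModFin.Dat A lam N r)
    {M : CoxeterMatrix (Fin l)} (h : IsCartan M A) (h0 : ∀ i, 0 ≤ lam i) (k0 : Fin r) (ws : Fin r → List (Fin l))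
    (hws : ∀ k, k ≠ k0 → D.c ((ws k).foldl (fun y j => D.t j y) D.o) = k ∧
      D.c ((ws k).reverse.foldl (fun y j => D.t j y) D.o) = k)
    {J : Set (Fin l)} (hJ : J = {i | lam i = 0}) {W : Type*} [Group W] (cs : CoxeterSystem M W) (w : W) :
    ∃ a ∈ WJ cs J, ∃ b ∈ WJ cs J, w⁻¹ = a * w * b := by
  subst hJ
  exact ColK.hR1_words cs h (C := ofCol (D.col h.diag)) h0 k0 ws hws w

end Cfsg.Agent.H685.R4.WInv
end

-- part: H685/R4/WTab
section
/-!
# Finite models for the types `E_6`, `E_8`, `F_4`; self-paired double cosets (helper685, S4554)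

* `E_6`, node 1 removed: 72 cosets, 5 double cosets;
* `E_8`, node 7 removed: 240 cosets, 5 double cosets;
* `F_4`, node 0 removed: 24 cosets, 5 double cosets; 3 double cosets `W_J w W_K`, node 3 removed from `K`.

Generated tables; all conditions are checked by the kernel.
-/

set_option autoImplicit false
set_option linter.style.longLine false

namespace Cfsg.Agent.H685.R4.WTab

open Cfsg.Agent.H905.DC Cfsg.Agent.H612.ModFin Cfsg.Agent.H612.ModTab
open Cfsg.Agent.ChevalleyStructure.CoxeterGeom Cfsg.Agent.Tits.Roots Cfsg.Agent.Tits.Core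
open Cfsg.Agent.H685.R4.WInv

/-! ### type E6 -/

/-- the functionals -/
def VE6 : ℕ := 45054006018268934537936902059447562494271701949440911762754700669051940370224312206165939422692306246297508973000193033815953738407397806959886782864948973535753238102002980383461105498598983120604657543029322094896969209138268954131326495691739730068434790893280509789426029434834291788248190309492192

/-- the moves -/
def TE6 : List ℕ := [29276844571388020061626029868735293947722116558457923921427416273456565930289739330747661846423789099757529566498091264467888550744392944858520686198912,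
  28870868001244101452722074028000468837690379823529832265297550099446838377840522160380256859097639398316115012233179906426332546642224631756346229817345,
  29276820373227880244814427300792816588379811671123314246151613883980638381931943605922607165052214555336571912521113123951384859663769932322921928245376,
  29273673460188472358872071110072396412312176410378080125461581856802877534370615645828318528760064249872266111659173311291723732305252583725607499612416,
  29276794431349959345641884783542146700897540719267955351403709335706465764591632860876348175913075245945226645552522134353600736255409684563997090709632,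
  29276845155203212130504996558861512307621240038885618622668312038990302770767091621498042925624235095472542917423827478745017793633272260211863789273216]

/-- the colours -/
def CE6 : ℕ := 58297875745070164168832954679000820922034720671646624972118725192

/-- the dominant functional -/
def lE6 : Fin 6 → ℤ := ![0, 1, 0, 0, 0, 0]

theorem ltE6 (j : Fin 6) (k : Fin 72) : dg 128 (TE6.getD j 0) k < 72 := by
  revert j k
  decide +kernel

theorem ltCE6 (k : Fin 72) : dg 8 CE6 k < 5 := by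
  revert k
  decide +kernel

private noncomputable def _root_.Cfsg.Agent.KO2ff7f15.k0 : type_of% @Decidable.decide := @(fun x0 x1 => @Decidable.rec.{1} _ @(fun x2 => @Bool) @(fun x2 => @Bool.false) @(fun x2 => @Bool.true) @x1)
private theorem _root_.Cfsg.Agent.KO2ff7f15.e0 : @Decidable.decide = @_root_.Cfsg.Agent.KO2ff7f15.k0 := by delta _root_.Cfsg.Agent.KO2ff7f15.k0; rfl'
private noncomputable def _root_.Cfsg.Agent.KO2ff7f15.k1l (n : Nat) (P : ∀ k, k < n → Prop) (H : ∀ k h, Decidable (P k h)) (m : Nat) : m ≤ n → Bool := @Nat.rec (fun m => m ≤ n → Bool) (fun _ => true) (fun k ih h => @Decidable.rec (P k h) (fun _ => Bool) (fun _ => false) (fun _ => ih (Nat.le_of_succ_le h)) (H k h)) m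
private theorem _root_.Cfsg.Agent.KO2ff7f15.k1ls (n : Nat) (P : ∀ k, k < n → Prop) (H : ∀ k h, Decidable (P k h)) (m : Nat) : ∀ h : m ≤ n, _root_.Cfsg.Agent.KO2ff7f15.k1l n P H m h = true ↔ ∀ k (g : k < m), P k (Nat.lt_of_lt_of_le g h) := by induction m with | zero => exact fun _ => ⟨fun _ _ g => absurd g (Nat.not_lt_zero _), fun _ => rfl⟩ | succ m ih => intro h; show @Decidable.rec (P m h) (fun _ => Bool) (fun _ => false) (fun _ => _root_.Cfsg.Agent.KO2ff7f15.k1l n P H m (Nat.le_of_succ_le h)) (H m h) = true ↔ _; cases H m h with | isFalse q => exact ⟨fun g => absurd g Bool.false_ne_true, fun g => absurd (g m (Nat.lt_succ_self m)) q⟩ | isTrue q => exact ⟨fun g k hk => (Nat.lt_succ_iff_lt_or_eq.1 hk).elim ((ih _).1 g k) fun e => by subst e; exact q, fun g => (ih _).2 fun k hk => g k (Nat.lt_succ_of_lt hk)⟩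
private noncomputable def _root_.Cfsg.Agent.KO2ff7f15.k1 (n : Nat) (P : ∀ k, k < n → Prop) (H : ∀ k h, Decidable (P k h)) : Decidable (∀ k h, P k h) := @Bool.rec (fun b => _root_.Cfsg.Agent.KO2ff7f15.k1l n P H n (Nat.le_refl n) = b → Decidable (∀ k h, P k h)) (fun g => isFalse fun q => Bool.false_ne_true (g.symm.trans ((_root_.Cfsg.Agent.KO2ff7f15.k1ls n P H n _).2 fun k h => q k h))) (fun g => isTrue fun k h => (_root_.Cfsg.Agent.KO2ff7f15.k1ls n P H n _).1 g k h) (_root_.Cfsg.Agent.KO2ff7f15.k1l n P H n (Nat.le_refl n)) rfl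
private theorem _root_.Cfsg.Agent.KO2ff7f15.e1 : @Nat.decidableBallLT = @_root_.Cfsg.Agent.KO2ff7f15.k1 := funext fun _ => funext fun _ => funext fun _ => Subsingleton.elim _ _
private noncomputable def _root_.Cfsg.Agent.KO2ff7f15.k2 : type_of% @Nat.decidableForallFin := @(fun x0 x1 x2 => @Decidable.rec.{1} _ @(fun x3 => @Decidable ((x4 : @Fin @x0) → @x1 @x4)) @(fun x3 => @Decidable.isFalse _ (@decidable_of_decidable_of_iff._proof_1 _ _ (@Nat.decidableForallFin._proof_1 _ @x1) @x3)) @(fun x3 => @Decidable.isTrue _ (@Iff.mp _ _ (@Nat.decidableForallFin._proof_1 _ @x1) @x3)) (@Cfsg.Agent.KO2ff7f15.k1 @x0 @(fun x3 x4 => @x1 (@Fin.mk _ @x3 @x4)) @(fun x3 x4 => @x2 (@Fin.mk _ @x3 @x4))))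
private theorem _root_.Cfsg.Agent.KO2ff7f15.e2 : @Nat.decidableForallFin = @_root_.Cfsg.Agent.KO2ff7f15.k2 := by delta _root_.Cfsg.Agent.KO2ff7f15.k2; rewrite [← Cfsg.Agent.KO2ff7f15.e1]; rfl'
private noncomputable def _root_.Cfsg.Agent.KO2ff7f15.k3 : type_of% @Nat.decEq := @(fun x0 x1 => @Bool.rec.{1} @(fun x2 => (@Eq.{1} _ (@Nat.beq @x0 @x1) @x2) → @Decidable (@Eq.{1} _ @x0 @x1)) @(fun x2 => @Decidable.isFalse _ (@Nat.ne_of_beq_eq_false _ _ @x2)) @(fun x2 => @Decidable.isTrue _ (@Nat.eq_of_beq_eq_true _ _ @x2)) (@Nat.beq @x0 @x1) (@Eq.refl.{1} _ (@Nat.beq @x0 @x1)))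
private theorem _root_.Cfsg.Agent.KO2ff7f15.e3 : @Nat.decEq = @_root_.Cfsg.Agent.KO2ff7f15.k3 := by delta _root_.Cfsg.Agent.KO2ff7f15.k3; rfl'
private noncomputable def _root_.Cfsg.Agent.KO2ff7f15.k4 : type_of% @Int.decEq := @(fun x0 x1 => @Int.rec.{1} @(fun x2 => @Decidable (@Eq.{1} _ @x2 @x1)) @(fun x2 => @Int.rec.{1} @(fun x3 => @Decidable (@Eq.{1} _ (@Int.ofNat @x2) @x3)) @(fun x3 => @Decidable.rec.{1} _ @(fun x4 => @Decidable (@Eq.{1} _ (@Int.ofNat @x2) (@Int.ofNat @x3))) @(fun x4 => @Decidable.isFalse _ (@Int.decEq._proof_2 @x2 @x3 @x4)) @(fun x4 => @Decidable.isTrue _ (@Int.decEq._proof_1 @x2 @x3 @x4)) (@Cfsg.Agent.KO2ff7f15.k3 @x2 @x3)) @(fun x3 => @Decidable.isFalse _ (@Int.decEq._proof_3 @x2 @x3)) @x1) @(fun x2 => @Int.rec.{1} @(fun x3 => @Decidable (@Eq.{1} _ (@Int.negSucc @x2) @x3)) @(fun x3 => @Decidable.isFalse _ (@Int.decEq._proof_4 @x2 @x3)) @(fun x3 => @Decidable.rec.{1} _ @(fun x4 => @Decidable (@Eq.{1} _ (@Int.negSucc @x2) (@Int.negSucc @x3)))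 @(fun x4 => @Decidable.isFalse _ (@Int.decEq._proof_6 @x2 @x3 @x4)) @(fun x4 => @Decidable.isTrue _ (@Int.decEq._proof_5 @x2 @x3 @x4)) (@Cfsg.Agent.KO2ff7f15.k3 @x2 @x3)) @x1) @x0)
private theorem _root_.Cfsg.Agent.KO2ff7f15.e4 : @Int.decEq = @_root_.Cfsg.Agent.KO2ff7f15.k4 := by delta _root_.Cfsg.Agent.KO2ff7f15.k4; rewrite [← Cfsg.Agent.KO2ff7f15.e3]; rfl'
private noncomputable def _root_.Cfsg.Agent.KO2ff7f15.k5 : type_of% @Int.instDecidableEq := @Cfsg.Agent.KO2ff7f15.k4
private theorem _root_.Cfsg.Agent.KO2ff7f15.e5 : @Int.instDecidableEq = @_root_.Cfsg.Agent.KO2ff7f15.k5 := by delta _root_.Cfsg.Agent.KO2ff7f15.k5; rewrite [← Cfsg.Agent.KO2ff7f15.e4]; rfl'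
private noncomputable def _root_.Cfsg.Agent.KO2ff7f15.k6 : (by first | exact type_of% @Cfsg.Agent.H612.ModTab.dg | exact Unit : Sort _) := by first | (refine @Subtype.val _ (fun g => @Cfsg.Agent.H612.ModTab.dg = @g) (@Subtype.mk _ _ (@(fun x0 x1 x2 => @Nat.mod (@Nat.div @x1 (@Nat.pow @x0 @x2)) @x0)) ?_); rfl') | exact @Cfsg.Agent.H612.ModTab.dg | exact ()
private theorem _root_.Cfsg.Agent.KO2ff7f15.e6 : (by first | exact @Cfsg.Agent.H612.ModTab.dg = @_root_.Cfsg.Agent.KO2ff7f15.k6 | exact True : Prop) := by first | (delta _root_.Cfsg.Agent.KO2ff7f15.k6; exact @Subtype.property _ (fun g => @Cfsg.Agent.H612.ModTab.dg = @g) _) | rfl | trivial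
private noncomputable def _root_.Cfsg.Agent.KO2ff7f15.k18 : type_of% @forall_prop_decidable := @(fun x0 x1 x2 x3 => @Decidable.rec.{1} _ @(fun x4 => @Decidable ((x5 : @x0) → @x1 @x5)) @(fun x4 => @Decidable.isTrue _ (@forall_prop_decidable._proof_2 _ @x1 @x4)) @(fun x4 => @Decidable.rec.{1} _ @(fun x5 => @Decidable ((x6 : @x0) → @x1 @x6)) @(fun x5 => @Decidable.isFalse _ (@decidable_of_decidable_of_iff._proof_1 _ _ (@forall_prop_decidable._proof_1 _ @x1 @x4) @x5)) @(fun x5 => @Decidable.isTrue _ (@Iff.mp _ _ (@forall_prop_decidable._proof_1 _ @x1 @x4) @x5)) (@x3 @x4)) @x2)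
private theorem _root_.Cfsg.Agent.KO2ff7f15.e18 : @forall_prop_decidable = @_root_.Cfsg.Agent.KO2ff7f15.k18 := by delta _root_.Cfsg.Agent.KO2ff7f15.k18; rfl'
private noncomputable def _root_.Cfsg.Agent.KO2ff7f15.k19 : type_of% @instDecidableEqFin := @(fun x0 x1 x2 => @Decidable.rec.{1} _ @(fun x3 => @Decidable (@Eq.{1} _ @x1 @x2)) @(fun x3 => @Decidable.isFalse _ (@instDecidableEqFin._proof_1 @x0 @x1 @x2 @x3)) @(fun x3 => @Decidable.isTrue _ (@Fin.eq_of_val_eq _ _ _ @x3)) (@Cfsg.Agent.KO2ff7f15.k3 (@Fin.val _ @x1) (@Fin.val _ @x2)))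
private theorem _root_.Cfsg.Agent.KO2ff7f15.e19 : @instDecidableEqFin = @_root_.Cfsg.Agent.KO2ff7f15.k19 := by delta _root_.Cfsg.Agent.KO2ff7f15.k19; rewrite [← Cfsg.Agent.KO2ff7f15.e3]; rfl'

private noncomputable def _root_.Cfsg.Agent.LsF.f9c5ecb_1 : {f // @Cfsg.Agent.H905.DC.cE6 = f} := ⟨_, by first | (delta Cfsg.Agent.H905.DC.cE6; rewrite [Cfsg.Agent.LsF.ineg_pat, Cfsg.Agent.LsF.vecCons_eq]; exact rfl) | exact rfl⟩
/-- the data -/
def datE6 : Dat cE6 lE6 72 5 where
  v k m := (dg 5 VE6 (6 * k + m) : ℤ) - 2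
  t j k := ⟨dg 128 (TE6.getD j 0) k, ltE6 j k⟩
  c k := ⟨dg 8 CE6 k, ltCE6 k⟩
  b := ![0, 1, 13, 40, 71]
  o := 0
  step := by (refine of_decide_eq_true ?_; (try (rewrite [Cfsg.Agent.LsF.f9c5ecb_1.2, Cfsg.Agent.LsF.nadd_pat, Cfsg.Agent.LsF.nmul_pat, Cfsg.Agent.LsF.imul_pat, Cfsg.Agent.LsF.isub_pat, Cfsg.Agent.LsF.icast_pat, Cfsg.Agent.LsF.instIDecEq_eq, Cfsg.Agent.LsF.dForallFin_eq, Cfsg.Agent.LsF.decide_eq])); decide +kernel)
  inj := by (first | (refine of_decide_eq_true ?_; rewrite [Cfsg.Agent.KO2ff7f15.e0, Cfsg.Agent.KO2ff7f15.e2, Cfsg.Agent.KO2ff7f15.e18, Cfsg.Agent.KO2ff7f15.e5, Cfsg.Agent.KO2ff7f15.e6, Cfsg.Agent.KO2ff7f15.e19]; ((try (rewrite [Cfsg.Agent.LsF.nadd_pat, Cfsg.Agent.LsF.nmul_pat, Cfsg.Agent.LsF.isub_pat, Cfsg.Agent.LsF.icast_pat])); decide +kernel)) | decide +kernel)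
  down := by decide +kernel
  base := by decide +kernel
  inv := by decide +kernel
  cb := by decide +kernel
  downJ := by decide +kernel

/-! ### type E8 -/

/-- the functionals -/
def VE8 : ℕ := 31588585041185130338948885651628899489568611176195161936764612957194839681083722144403773788811131439699407815271211187101675642259685706131016716205619942280105037618536965422474513300238737088611727225734010638151372480234196558552693323194699100179761051027818484936880938925324339792921639633981791759658263154204428543264319068799742341944333339318454266251913171383510615605057873393682834582825041170828573594238482222761931793380699333133962202094833757334212754608569611757826322353590065385204125099005902971060701776393781508472746975282189649192561552961039731172376111625307233814540567877696018450138402634000816080874806378193765703917388012725191748313739226262570881850437826791012438529185443837297471027852829281931428731850084239724525759344390349099798202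69119065730723460922672789985327309930939819829165140255492646484368147550674230441081318461776125695886579876559659487228523535192370343417678158433182656129229768771858123738575312259339438602478951774099841593617442776172053776222898464988095021028618799185120538156618706232242819294447657481175170721636940415444549710405136673676099067165078448935051565387440588482266634971044504586115763504817088558792335455199868160397103689744140482248296803760669562547996990158682890832653696730338249501803404650428199046675295400682452750220352026950566053366088945312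

/-- the moves -/
def TE8 : List ℕ := [89010710832726081253079331660979927910738139348250157015067863088717757154310675761140542669472743466480479445232145984916397180312137125086278194576990777010225176562798877952564394841370768717077430002616577803182473157871405501418403216316646113033621335412408918647741328208830231309749687695145693479216804940987171889492608935744626218074809108212854393974940056278651068056524262837493532140916271246367766135725981457272311498170396228816391478719580541791010684269227076953191659608079716015082453032750201259386088963480829474875328986997461247292300729895429060296960,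
  89010710832725745160573664327011865655001534195172156572029841823658207043231101043802628421921106830820596304422421317916365731339148311099118156091552032768052749800936893722238863459242903602066052674649311454638870308919610737695631439850121415556421755401047893425885406630231936187911698949312903457021608009322224789828904352407647578748832712751322788583890075032190668581173632455960337638476507605507091754517361869844024683750491297439236307071527961790087919949776068437252672927273739175231361404614268020690124539330156985917535811968215798081600529533688539644160,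
  89010710832725402503963370627364295535526243015298607720203138388088637365769298447309234922099636652628348390238353580383200998594676370555720707503927908793706236790573201821053711182041563541460687449652229342570526387967529471056195326576030969474378205385490726534178970814684624007031138469673240435877308467731969823307603428626509971949246185419030926345789057091119817046957404686416414072966610646446665143868118977979809090438877435855977447406062237351592367730610043421384504111996747352804511589093607623756986762479872381024853535629217352854616913376959090786560,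
  89010710832640042910130877206708003749349610260806860228615476707521639412999621624136243410890099550295999371546899742044953127578143394138412304511063266077750055471037771434985094932733828567853417974424534737440391081970025492170683333504004647549303129551017993181816534318053234969632442459471171472322958958151580610157650206769295376867532388729443024778298343187551267650437572991721555535106833475772311902737852580937802243341788334158493689947287813248816311912124689756212793079699244884313142787429127544085793965507334345058105239667088144767415794074021729009920,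
  89010710810700264150582695879341347570602379639193712775311131494705267005467256417672972516130707027641272670499857506364556314413365910106844130183277556654555157157589973286414576495382358348751340812622970834430037622382482898841242477459535875755081285688992938906838564085580194674000720177745601772980687998638192790563005220109659726726096972908414256933601375281297676028713014200539248185622909514389545026221822017710258168673419390244577778195333212451218536174944495415726537171977727659927722687435799347653039636826786080386538862230650927073065225153698198585600,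
  89010705194116901706207898348262833316819273222936357638137612170049419181808009805050148501756882014052811331868236070135401196245721363126294025469182652191077678989204395424166771381287815872375665624230612170707887155723865931688857599765374110372060327379378632921180469949338753556681027974751023340537017912577617346810884890083431405196500266192333241786478468938406008034669488873095504086529266017540266949264646554445209593797113997554972443126216674526925600934368198225887169356792230052083239119209669790118298797121935275144589933084693701284667506412769201291520,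
  89009267348776115946259729774853842860623865006537613671896692136821199477515671748239901582709068039123905188079288616485677621204664182690799205419704713969298316402361291377463631387307842123824816506314272786097356710457216781231765426096882799816157991450823156657925662942594748014929599516353403847839256678298476699410071340026712495865272731902373716457151706519977115725415149880507933000779461637045803973724935878245619137459719909472973709217714650128263931385754393887714013311822530463451046604827324751380106489031479666528040008012852142582034974872094430528000,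
  88641178941534961399528574982138238545009766446908023463409241110158317936682356471617633603174630474096410721676928762109057451723967480760488752786115614103825220803087670216954915848673154407946683689811272789384193844601854938040247186807725488887106964406024991535107448763231100192255586321037215524907197107539801416774221345695381422475744379110681344642604809461168923280172265326295488071939935737768634204425527249392605223905464488185283470819312050649868202355840080816383269232997040547004719210216720483947879020412282081345680059604537367862608213191634035277825]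

/-- the colours -/
def CE8 : ℕ := 3053307502788600111198106007299457974668138329703883970244937351931306608878263443611057143942554873697366935177748515520539172900194317633186670177948564886019597530438676483839253595473064345384313259049640192676424

/-- the dominant functional -/
def lE8 : Fin 8 → ℤ := ![0, 0, 0, 0, 0, 0, 0, 1]

private theorem _root_.Cfsg.Agent.KO2ff7f15.e7.{ku, kv} {α : Type kv} {M : List α → Sort ku} (φ : ∀ l, M l) {z : M List.nil} {s : ∀ a l, M l → M (List.cons a l)} (h0 : φ List.nil = z) (hs : ∀ a l, φ (List.cons a l) = s a l (φ l)) (l : List α) : φ l = @List.rec α M z s l := List.rec h0 (fun a l ih => (hs a l).trans (congrArg (s a l) ih)) l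
private noncomputable def _root_.Cfsg.Agent.KO2ff7f15.k9.{ku0} : type_of% @List.get?Internal.{ku0} := @(fun x0 x1 x2 => @List.rec.{(ku0+1), ku0} @x0 @(fun x3 => ℕ → @Option.{ku0} @x0) @(fun x3 => @Option.none.{ku0} _) @(fun x3 x4 x5 x6 => @Nat.rec.{(ku0+1)} @(fun x7 => @Option.{ku0} @x0) (@Option.some.{ku0} _ @x3) @(fun x7 x8 => @x5 @x7) @x6) @x1 @x2)
private theorem _root_.Cfsg.Agent.KO2ff7f15.e9.{ku0} : @List.get?Internal.{ku0} = @_root_.Cfsg.Agent.KO2ff7f15.k9.{ku0} := by delta _root_.Cfsg.Agent.KO2ff7f15.k9; funext a0 a1 a2; refine (congrFun (_root_.Cfsg.Agent.KO2ff7f15.e7 (fun a1 a2 => @List.get?Internal.{ku0} a0 a1 a2) ?_ (fun c0 c1 => ?_) a1) a2 :) <;> [(funext b0; (rfl')); (funext b0; (cases b0 with | @zero  => (rfl') | @succ b0_0 => (rfl')))]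
private noncomputable def _root_.Cfsg.Agent.KO2ff7f15.k10.{ku0} : type_of% @List.getD.{ku0} := @(fun x0 x1 x2 x3 => @Option.rec.{(ku0+1), ku0} @x0 @(fun x4 => @x0) @x3 @(fun x4 => @x4) (@Cfsg.Agent.KO2ff7f15.k9.{ku0} _ @x1 @x2))
private theorem _root_.Cfsg.Agent.KO2ff7f15.e10.{ku0} : @List.getD.{ku0} = @_root_.Cfsg.Agent.KO2ff7f15.k10.{ku0} := by delta _root_.Cfsg.Agent.KO2ff7f15.k10; rewrite [← Cfsg.Agent.KO2ff7f15.e9.{ku0}]; rfl'
private noncomputable def _root_.Cfsg.Agent.KO2ff7f15.k20 : type_of% @Bool.decEq := @(fun x0 x1 => @Bool.rec.{1} @(fun x2 => @Decidable (@Eq.{1} _ @x2 @x1)) (@Bool.rec.{1} @(fun x2 => @Decidable (@Eq.{1} _ @Bool.false @x2)) (@Decidable.isTrue _ (@rfl.{1} _ _)) (@Decidable.isFalse _ @(fun x2 => @Bool.noConfusion.{0} _ _ _ @x2)) @x1) (@Bool.rec.{1} @(fun x2 => @Decidable (@Eq.{1} _ @Bool.true @x2)) (@Decidable.isFalse _ @(fun x2 => @Bool.noConfusion.{0} _ _ _ @x2)) (@Decidable.isTrue _ (@rfl.{1} _ _)) @x1) @x0)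
private theorem _root_.Cfsg.Agent.KO2ff7f15.e20 : @Bool.decEq = @_root_.Cfsg.Agent.KO2ff7f15.k20 := by delta _root_.Cfsg.Agent.KO2ff7f15.k20; rfl'
private noncomputable def _root_.Cfsg.Agent.KO2ff7f15.k21 : type_of% @Nat.decLe := @(fun x0 x1 => @Decidable.rec.{1} _ @(fun x2 => @Decidable (@LE.le.{0} _ _ @x0 @x1)) @(fun x2 => @Decidable.isFalse _ (@Nat.not_le_of_not_ble_eq_true _ _ @x2)) @(fun x2 => @Decidable.isTrue _ (@Nat.le_of_ble_eq_true _ _ @x2)) (@Cfsg.Agent.KO2ff7f15.k20 (@Nat.ble @x0 @x1) @Bool.true))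
private theorem _root_.Cfsg.Agent.KO2ff7f15.e21 : @Nat.decLe = @_root_.Cfsg.Agent.KO2ff7f15.k21 := by delta _root_.Cfsg.Agent.KO2ff7f15.k21; rewrite [← Cfsg.Agent.KO2ff7f15.e20]; rfl'
private noncomputable def _root_.Cfsg.Agent.KO2ff7f15.k22 : type_of% @Nat.decLt := @(fun x0 x1 => @Cfsg.Agent.KO2ff7f15.k21 (@Nat.succ @x0) @x1)
private theorem _root_.Cfsg.Agent.KO2ff7f15.e22 : @Nat.decLt = @_root_.Cfsg.Agent.KO2ff7f15.k22 := by delta _root_.Cfsg.Agent.KO2ff7f15.k22; rewrite [← Cfsg.Agent.KO2ff7f15.e21]; rfl'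

theorem ltE8 (j : Fin 8) (k : Fin 240) : dg 256 (TE8.getD j 0) k < 240 := by
  revert j k
  (first | (refine of_decide_eq_true ?_; rewrite [Cfsg.Agent.KO2ff7f15.e0, Cfsg.Agent.KO2ff7f15.e2, Cfsg.Agent.KO2ff7f15.e22, Cfsg.Agent.KO2ff7f15.e6, Cfsg.Agent.KO2ff7f15.e10.{0}]; decide +kernel) | decide +kernel)

theorem ltCE8 (k : Fin 240) : dg 8 CE8 k < 5 := by
  revert k
  decide +kernel

/-- a hash function that separates the 240 functionals -/
def hE8 (v : Fin 8 → ℤ) : ℕ :=
  ((435 * v 0 + 74 * v 1 + 546 * v 2 + 183 * v 3 + 410 * v 4 + 354 * v 5 + 235 * v 6 +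
    129 * v 7) % 587).toNat

/-- the table of the hash function -/
def HE8 : ℕ := 325080996047441364963575213539113816526536253868677643779848540170942881725697433974065693991466297506188437436287104102817686776607902532546640075208751068173837845169139832206152644372945471237406247347075483101025988041754977216850881096604857920237691809554891993599021946551023359384273288927353735387879296156943718630557863233445095665869499127393902231401158223679086368238312634358776323241461599580980785817745591952087811612471741819060589555304280347362176052560216911691220841758244137688857548064613449467089313597951021980679589073561579082868632632670561414620215675382815907639264328169756194858792210754964396688932184912371467542835115662412921044848978274554086831364888629979828282633063391411431509477128054508658853575265641183272061380175192192804400182269251073529477843770392512836384881863277916884050645990640854193212990822031965181221677000202698433977139083684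2597906528779708291639470217171109930329065201497212242065894638948221703412828306656201227074438736103249255406271622242740760866803222435284530589783772602926131562501619031810179857487057937235412371428875625643090467710599402377476521068913952044966302751412207663732953206422963768424900913933363277096329161015109483831714681204528568808182711311460569873286692768732572932106815726252778209267348568507643206073111873675814587694133061041267876530639297945470402494387040974903403699345932428100519139368358589640960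

private noncomputable def _root_.Cfsg.Agent.KO2ff7f15.k23 : type_of% @instDecidableEqNat := @Cfsg.Agent.KO2ff7f15.k3
private theorem _root_.Cfsg.Agent.KO2ff7f15.e23 : @instDecidableEqNat = @_root_.Cfsg.Agent.KO2ff7f15.k23 := by delta _root_.Cfsg.Agent.KO2ff7f15.k23; rewrite [← Cfsg.Agent.KO2ff7f15.e3]; rfl'

theorem hashE8 (k : Fin 240) :
    dg 256 HE8 (hE8 fun m : Fin 8 => (dg 5 VE8 (8 * k + m) : ℤ) - 2) = k := by
  revert k
  (first | (refine of_decide_eq_true ?_; rewrite [Cfsg.Agent.KO2ff7f15.e0, Cfsg.Agent.KO2ff7f15.e2, Cfsg.Agent.KO2ff7f15.e23, Cfsg.Agent.KO2ff7f15.e6]; decide +kernel) | decide +kernel)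

/-- the functionals are distinct (the plain check of all pairs takes 80 s and 6.5 GB) -/
theorem injE8 (k k' : Fin 240)
    (h : ∀ m : Fin 8, (dg 5 VE8 (8 * k + m) : ℤ) - 2 = (dg 5 VE8 (8 * k' + m) : ℤ) - 2) : k = k' :=
  Fin.ext ((hashE8 k).symm.trans
    ((congrArg (fun v => dg 256 HE8 (hE8 v)) (funext h)).trans (hashE8 k')))

private noncomputable def _root_.Cfsg.Agent.LsF.f9c5ecb_2 : {f // @Cfsg.Agent.H905.DC.cE8 = f} := ⟨_, by first | (delta Cfsg.Agent.H905.DC.cE8; rewrite [Cfsg.Agent.LsF.ineg_pat, Cfsg.Agent.LsF.vecCons_eq]; exact rfl) | exact rfl⟩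
private noncomputable def _root_.Cfsg.Agent.LsF.f9c5ecb_3 : {f // @Cfsg.Agent.H685.R4.WTab.lE8 = f} := ⟨_, by first | (delta Cfsg.Agent.H685.R4.WTab.lE8; rewrite [Cfsg.Agent.LsF.vecCons_eq]; exact rfl) | exact rfl⟩
/-- the data -/
def datE8 : Dat cE8 lE8 240 5 where
  v k m := (dg 5 VE8 (8 * k + m) : ℤ) - 2
  t j k := ⟨dg 256 (TE8.getD j 0) k, ltE8 j k⟩
  c k := ⟨dg 8 CE8 k, ltCE8 k⟩
  b := ![0, 1, 23, 120, 239]
  o := 0
  step := by (first | (refine of_decide_eq_true ?_; rewrite [Cfsg.Agent.KO2ff7f15.e0, Cfsg.Agent.KO2ff7f15.e2, Cfsg.Agent.KO2ff7f15.e5]; ((try (rewrite [Cfsg.Agent.LsF.f9c5ecb_2.2, Cfsg.Agent.LsF.nadd_pat, Cfsg.Agent.LsF.nmul_pat, Cfsg.Agent.LsF.imul_pat, Cfsg.Agent.LsF.isub_pat, Cfsg.Agent.LsF.icast_pat])); decide +kernel)) | decide +kernel)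
  inj := fun k k' h => injE8 k k' h
  down := by decide +kernel
  base := by decide +kernel
  inv := by (refine of_decide_eq_true ?_; (try (rewrite [Cfsg.Agent.LsF.f9c5ecb_3.2, Cfsg.Agent.LsF.instIDecEq_eq, Cfsg.Agent.LsF.dFinEq_eq, Cfsg.Agent.LsF.dForallFin_eq, Cfsg.Agent.LsF.dAllP_eq, Cfsg.Agent.LsF.decide_eq])); decide +kernel)
  cb := by decide +kernel
  downJ := by (refine of_decide_eq_true ?_; (try (rewrite [Cfsg.Agent.LsF.f9c5ecb_3.2, Cfsg.Agent.LsF.vecCons_eq, Cfsg.Agent.LsF.instIDecEq_eq, Cfsg.Agent.LsF.dAnd_eq, Cfsg.Agent.LsF.dOr_eq, Cfsg.Agent.LsF.dFinEq_eq, Cfsg.Agent.LsF.dFinLt_eq, Cfsg.Agent.LsF.dForallFin_eq, Cfsg.Agent.LsF.dExistsFin_eq, Cfsg.Agent.LsF.decide_eq])); decide +kernel)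

/-! ### type F4 -/

/-- the functionals -/
def VF4 : ℕ := 6290560812188543735377900335138535919181132017966276921665666994688

/-- the moves -/
def TF4 : List ℕ := [64835073781257957404573435302468037029983454003201,
  67712582174413838211211982816829397417807671476480,
  67735064102448191447723449234126686007947734073472,
  67735238294521785862945839689781241894594074935424]

/-- the colours -/
def CF4 : ℕ := 2614164873088533566024

/-- the dominant functional -/
def lF4 : Fin 4 → ℤ := ![1, 0, 0, 0]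

theorem ltF4 (j : Fin 4) (k : Fin 24) : dg 128 (TF4.getD j 0) k < 24 := by
  revert j k
  decide +kernel

theorem ltCF4 (k : Fin 24) : dg 8 CF4 k < 5 := by
  revert k
  decide +kernel

/-- the data -/
def datF4 : Dat cF4 lF4 24 5 where
  v k m := (dg 5 VF4 (4 * k + m) : ℤ) - 2
  t j k := ⟨dg 128 (TF4.getD j 0) k, ltF4 j k⟩
  c k := ⟨dg 8 CF4 k, ltCF4 k⟩
  b := ![0, 1, 6, 13, 23]
  o := 0
  step := by decide +kernel
  inj := by (first | (refine of_decide_eq_true ?_; rewrite [Cfsg.Agent.KO2ff7f15.e0, Cfsg.Agent.KO2ff7f15.e2, Cfsg.Agent.KO2ff7f15.e18, Cfsg.Agent.KO2ff7f15.e5, Cfsg.Agent.KO2ff7f15.e6, Cfsg.Agent.KO2ff7f15.e19]; decide +kernel) | decide +kernel)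
  down := by decide +kernel
  base := by decide +kernel
  inv := by decide +kernel
  cb := by decide +kernel
  downJ := by decide +kernel

/-- the colours for `W_J w W_K` -/
def CF4' : ℕ := 1349229230449986928640

theorem ltCF4' (k : Fin 24) : dg 8 CF4' k < 3 := by
  revert k
  decide +kernel

end Cfsg.Agent.H685.R4.WTab
end

-- part: H685/R4/WExc
section
/-!
# Self-paired double cosets: exceptional types (helper685, S4554)
-/

set_option autoImplicit false
set_option linter.style.longLine false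
set_option linter.unusedSectionVars false

namespace Cfsg.Agent.H685.R4.WExc

open Cfsg.Agent.H905.DC Cfsg.Agent.H612.ModFin Cfsg.Agent.H612.ModTab Cfsg.Agent.H612.WModel
open Cfsg.Agent.ChevalleyStructure.CoxeterGeom Cfsg.Agent.Tits.Roots Cfsg.Agent.Tits.Core
open Cfsg.Agent.H685.R4.WInv Cfsg.Agent.H685.R4.WTab

theorem hR_D4 {W : Type*} [Group W] (cs : CoxeterSystem (Nodes.TypeD.M 2) W) (w : W) :
    ∃ a ∈ WJ cs {i | i ≠ 1}, ∃ b ∈ WJ cs {i | i ≠ 1}, w⁻¹ = a * w * b :=
  hR_dat datD4 isCartan_cD4 (by decide +kernel) 0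
    (fun k => ([[], [1], [1, 0, 2, 1], [1, 0, 3, 1], [1, 2, 3, 1], [1, 0, 2, 3, 1], [1, 0, 2, 1, 3, 1, 2, 0, 1]] : List (List (Fin 4))).getD k [])
    (by decide +kernel) (by
      ext i
      show i ≠ 1 ↔ lD4 i = 0
      revert i
      decide +kernel) cs w

theorem hR_E7 {W : Type*} [Group W] (cs : CoxeterSystem CoxeterMatrix.E₇ W) (w : W) :
    ∃ a ∈ WJ cs {i | i ≠ 0}, ∃ b ∈ WJ cs {i | i ≠ 0}, w⁻¹ = a * w * b :=
  hR_dat datE7 isCartan_cE7 (by decide +kernel) 0
    (fun k => ([[], [0], [0, 2, 3, 1, 4, 3, 2, 0], [0, 2, 3, 1, 4, 3, 2, 5, 4, 3, 1, 6, 5, 4, 3, 2, 0], [0, 2, 3, 1, 4, 3, 2, 0, 5, 4, 3, 1, 2, 3, 4, 5, 6, 5, 4, 3, 2, 1, 3, 4, 5, 0, 2, 3, 4, 1, 3, 2, 0]] : List (List (Fin 7))).getD k [])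
    (by decide +kernel) (by
      ext i
      show i ≠ 0 ↔ lE7 i = 0
      revert i
      decide +kernel) cs w

theorem hR_E6 {W : Type*} [Group W] (cs : CoxeterSystem CoxeterMatrix.E₆ W) (w : W) :
    ∃ a ∈ WJ cs {i | i ≠ 1}, ∃ b ∈ WJ cs {i | i ≠ 1}, w⁻¹ = a * w * b :=
  hR_dat datE6 isCartan_cE6 (by decide +kernel) 0
    (fun k => ([[], [1], [1, 3, 2, 4, 3, 1], [1, 3, 2, 0, 4, 3, 2, 5, 4, 3, 1], [1, 3, 2, 0, 4, 3, 1, 2, 3, 4, 5, 4, 3, 2, 1, 3, 4, 0, 2, 3, 1]] : List (List (Fin 6))).getD k [])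
    (by decide +kernel) (by
      ext i
      show i ≠ 1 ↔ lE6 i = 0
      revert i
      decide +kernel) cs w

theorem hR_E8 {W : Type*} [Group W] (cs : CoxeterSystem CoxeterMatrix.E₈ W) (w : W) :
    ∃ a ∈ WJ cs {i | i ≠ 7}, ∃ b ∈ WJ cs {i | i ≠ 7}, w⁻¹ = a * w * b :=
  hR_dat datE8 isCartan_cE8 (by decide +kernel) 0
    (fun k => ([[], [7], [7, 6, 5, 4, 3, 1, 2, 3, 4, 5, 6, 7], [7, 6, 5, 4, 3, 1, 2, 0, 3, 2, 4, 3, 1, 5, 4, 3, 2, 0, 6, 5, 4, 3, 1, 2, 3, 4, 5, 6, 7], [7, 6, 5, 4, 3, 1, 2, 0, 3, 2, 4, 3, 1, 5, 4, 3, 2, 0, 6, 5, 4, 3, 1, 2, 3, 4, 5, 6, 7, 6, 5, 4, 3, 2, 1, 3, 4, 5, 6, 0, 2, 3, 4, 5, 1, 3, 4, 2, 3, 0, 2, 1, 3, 4, 5, 6, 7]] : List (List (Fin 8))).getD k [])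
    (by decide +kernel) (by
      ext i
      show i ≠ 7 ↔ lE8 i = 0
      revert i
      decide +kernel) cs w

theorem hR_F4 {W : Type*} [Group W] (cs : CoxeterSystem CoxeterMatrix.F₄ W) (w : W) :
    ∃ a ∈ WJ cs {i | i ≠ 0}, ∃ b ∈ WJ cs {i | i ≠ 0}, w⁻¹ = a * w * b :=
  hR_dat datF4 isCartan_cF4 (by decide +kernel) 0
    (fun k => ([[], [0], [0, 1, 2, 1, 0], [0, 1, 2, 1, 3, 2, 1, 0], [0, 1, 2, 1, 0, 3, 2, 1, 2, 3, 0, 1, 2, 1, 0]] : List (List (Fin 4))).getD k [])
    (by decide +kernel) (by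
      ext i
      show i ≠ 0 ↔ lF4 i = 0
      revert i
      decide +kernel) cs w

/-- the colouring for `W_J w W_K` in type `F_4` -/
def colF4 : ColK (datF4.model isCartan_cF4.diag) {i : Fin 4 | i ≠ 3} (Fin 3) where
  c k := ⟨dg 8 CF4' k, ltCF4' k⟩
  inv := by
    intro j hj k
    have key : ∀ j : Fin 4, j ≠ 3 → ∀ k : Fin 24,
        (⟨dg 8 CF4' (datF4.t j k), ltCF4' _⟩ : Fin 3) = ⟨dg 8 CF4' k, ltCF4' k⟩ := by decide +kernel
    exact key j hj k
  b := ![0, 5, 17]
  conn := by
    have h1 : ∀ k : Fin 24, k = (![0, 5, 17] : Fin 3 → Fin 24) ⟨dg 8 CF4' k, ltCF4' k⟩ ∨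
        ∃ j : Fin 4, j ≠ 3 ∧ datF4.t j k < k := by decide +kernel
    have h2 : ∀ j : Fin 4, j ≠ 3 → ∀ k : Fin 24,
        (⟨dg 8 CF4' (datF4.t j k), ltCF4' _⟩ : Fin 3) = ⟨dg 8 CF4' k, ltCF4' k⟩ := by decide +kernel
    have key : ∀ n : ℕ, ∀ k : Fin 24, (k : ℕ) = n →
        Relation.ReflTransGen (fun x y => ∃ j ∈ {i : Fin 4 | i ≠ 3}, y = datF4.t j x)
          ((![0, 5, 17] : Fin 3 → Fin 24) ⟨dg 8 CF4' k, ltCF4' k⟩) k := by
      intro n
      induction n using Nat.strong_induction_on with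
      | _ n ih =>
        intro k hk
        rcases h1 k with h | ⟨j, hj0, hj⟩
        · rw [← h]
        · have h3 := ih _ (hk ▸ hj) (datF4.t j k) rfl
          rw [h2 j hj0] at h3
          refine h3.tail ⟨j, hj0, ?_⟩
          rw [datF4.t_t isCartan_cF4.diag]
    exact fun k => key k k rfl

/-! ### Symmetries -/

set_option backward.isDefEq.respectTransparency false in
theorem sym_E6 (σ : Equiv.Perm (Fin 6))
    (hσ : ∀ i j, CoxeterMatrix.E₆ (σ i) (σ j) = CoxeterMatrix.E₆ i j) :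
    σ '' {i : Fin 6 | i ≠ 1} = {i : Fin 6 | i ≠ 1} := by
  have key : ∀ x3 x2 x1 x4 : Fin 6, CoxeterMatrix.E₆ x3 x2 = 3 → CoxeterMatrix.E₆ x3 x1 = 3 →
      CoxeterMatrix.E₆ x3 x4 = 3 → x1 ≠ x4 → x2 ≠ x1 → x2 ≠ x4 →
      (∀ y, CoxeterMatrix.E₆ x1 y = 3 → y = x3) → x1 = 1 := by
    decide +kernel
  have h1 : σ 1 = 1 := by
    refine key (σ 3) (σ 2) (σ 1) (σ 4) ?_ ?_ ?_ (σ.injective.ne (by decide))
      (σ.injective.ne (by decide)) (σ.injective.ne (by decide)) ?_
    · rw [hσ]; decide +kernel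
    · rw [hσ]; decide +kernel
    · rw [hσ]; decide +kernel
    · intro y hy
      obtain ⟨k, rfl⟩ := σ.surjective y
      rw [hσ] at hy
      have h2 : ∀ k : Fin 6, CoxeterMatrix.E₆ 1 k = 3 → k = 3 := by decide +kernel
      rw [h2 k hy]
  apply H612.Sym.image_eq
  intro i hi h2
  apply hi
  exact σ.injective (h2.trans h1.symm)

private noncomputable def _root_.Cfsg.Agent.KO2ff7f15.k35 : type_of% @instDecidableForall := @(fun x0 x1 x2 x3 => @Decidable.rec.{1} _ @(fun x4 => @Decidable (@x0 → @x1)) @(fun x4 => @Decidable.isTrue _ @(fun x5 => @absurd.{0} _ _ @x5 @x4)) @(fun x4 => @Decidable.rec.{1} _ @(fun x5 => @Decidable (@x0 → @x1)) @(fun x5 => @Decidable.isFalse _ (@instDecidableForall._proof_1 _ _ @x4 @x5)) @(fun x5 => @Decidable.isTrue _ @(fun x6 => @x5)) @x3) @x2)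
private theorem _root_.Cfsg.Agent.KO2ff7f15.e35 : @instDecidableForall = @_root_.Cfsg.Agent.KO2ff7f15.k35 := by delta _root_.Cfsg.Agent.KO2ff7f15.k35; rfl'
private noncomputable def _root_.Cfsg.Agent.KO2ff7f15.k36 : type_of% @instDecidableNot := @(fun x0 x1 => @Decidable.rec.{1} _ @(fun x2 => @Decidable (¬ @x0)) @(fun x2 => @Decidable.isTrue _ @x2) @(fun x2 => @Decidable.isFalse _ (@absurd.{0} _ _ @x2)) @x1)
private theorem _root_.Cfsg.Agent.KO2ff7f15.e36 : @instDecidableNot = @_root_.Cfsg.Agent.KO2ff7f15.k36 := by delta _root_.Cfsg.Agent.KO2ff7f15.k36; rfl'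

set_option backward.isDefEq.respectTransparency false in
theorem sym_E8 (σ : Equiv.Perm (Fin 8))
    (hσ : ∀ i j, CoxeterMatrix.E₈ (σ i) (σ j) = CoxeterMatrix.E₈ i j) :
    σ '' {i : Fin 8 | i ≠ 7} = {i : Fin 8 | i ≠ 7} := by
  have hb : ∀ x y z t : Fin 8, CoxeterMatrix.E₈ x y = 3 → CoxeterMatrix.E₈ x z = 3 →
      CoxeterMatrix.E₈ x t = 3 → y ≠ z → y ≠ t → z ≠ t → x = 3 := by (first | (refine of_decide_eq_true ?_; rewrite [Cfsg.Agent.KO2ff7f15.e0, Cfsg.Agent.KO2ff7f15.e2, Cfsg.Agent.KO2ff7f15.e35, Cfsg.Agent.KO2ff7f15.e23, Cfsg.Agent.KO2ff7f15.e18, Cfsg.Agent.KO2ff7f15.e36, Cfsg.Agent.KO2ff7f15.e19]; decide +kernel) | decide +kernel)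
  have h3 : σ 3 = 3 := by
    refine hb (σ 3) (σ 1) (σ 2) (σ 4) ?_ ?_ ?_ (σ.injective.ne (by decide))
      (σ.injective.ne (by decide)) (σ.injective.ne (by decide))
    · rw [hσ]; decide +kernel
    · rw [hσ]; decide +kernel
    · rw [hσ]; decide +kernel
  -- the path of length four from the branch node
  have k1 : ∀ x4 x5 : Fin 8, CoxeterMatrix.E₈ 3 x4 = 3 → CoxeterMatrix.E₈ x4 x5 = 3 → x5 ≠ 3 →
      (x4 = 2 ∧ x5 = 0) ∨ (x4 = 4 ∧ x5 = 5) := by decide +kernel
  have k2 : ∀ x6 : Fin 8, CoxeterMatrix.E₈ 0 x6 = 3 → x6 = 2 := by decide +kernel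
  have k3 : ∀ x6 : Fin 8, CoxeterMatrix.E₈ 5 x6 = 3 → x6 ≠ 4 → x6 = 6 := by decide +kernel
  have k4 : ∀ x7 : Fin 8, CoxeterMatrix.E₈ 6 x7 = 3 → x7 ≠ 5 → x7 = 7 := by decide +kernel
  have e34 : CoxeterMatrix.E₈ 3 (σ 4) = 3 := by
    conv_lhs => rw [← h3]
    rw [hσ]
    decide +kernel
  have e45 : CoxeterMatrix.E₈ (σ 4) (σ 5) = 3 := by rw [hσ]; decide +kernel
  have e56 : CoxeterMatrix.E₈ (σ 5) (σ 6) = 3 := by rw [hσ]; decide +kernel
  have e67 : CoxeterMatrix.E₈ (σ 6) (σ 7) = 3 := by rw [hσ]; decide +kernel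
  have n53 : σ 5 ≠ 3 := fun h => absurd (σ.injective (h.trans h3.symm)) (by decide)
  have n64 : σ 6 ≠ σ 4 := σ.injective.ne (by decide)
  have n75 : σ 7 ≠ σ 5 := σ.injective.ne (by decide)
  have h7 : σ 7 = 7 := by
    rcases k1 _ _ e34 e45 n53 with ⟨h4, h5⟩ | ⟨h4, h5⟩
    · rw [h5] at e56
      exact absurd (k2 _ e56) (by rw [← h4]; exact n64)
    · rw [h5] at e56 n75
      rw [h4] at n64
      rw [k3 _ e56 n64] at e67
      exact k4 _ e67 n75
  apply H612.Sym.image_eq
  intro i hi h2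
  apply hi
  exact σ.injective (h2.trans h7.symm)

set_option backward.isDefEq.respectTransparency false in
theorem perm_F4 (σ : Equiv.Perm (Fin 4)) (hσ : ∀ i j, CoxeterMatrix.F₄ (σ i) (σ j) = CoxeterMatrix.F₄ i j) :
    (∀ i, σ i = i) ∨ ∀ i, σ i = i.rev := by
  have key : ∀ x0 x1 x2 x3 : Fin 4, CoxeterMatrix.F₄ x0 x1 = 3 → CoxeterMatrix.F₄ x1 x2 = 4 →
      CoxeterMatrix.F₄ x2 x3 = 3 →
      (x0 = 0 ∧ x1 = 1 ∧ x2 = 2 ∧ x3 = 3) ∨ (x0 = 3 ∧ x1 = 2 ∧ x2 = 1 ∧ x3 = 0) := by decide +kernel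
  have h1 := key (σ 0) (σ 1) (σ 2) (σ 3) (by rw [hσ]; decide +kernel) (by rw [hσ]; decide +kernel)
    (by rw [hσ]; decide +kernel)
  rcases h1 with ⟨a, b, c, d⟩ | ⟨a, b, c, d⟩
  · left
    intro i
    fin_cases i
    · exact a
    · exact b
    · exact c
    · exact d
  · right
    intro i
    fin_cases i
    · exact a
    · exact b
    · exact c
    · exact d

theorem sym_F4 (σ : Equiv.Perm (Fin 4)) (hσ : ∀ i j, CoxeterMatrix.F₄ (σ i) (σ j) = CoxeterMatrix.F₄ i j) :
    σ '' {i : Fin 4 | i ≠ 0} = {i : Fin 4 | i ≠ 0} ∨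
      σ '' {i : Fin 4 | i ≠ 0} = {i : Fin 4 | i ≠ 3} ∧ σ '' {i : Fin 4 | i ≠ 3} = {i : Fin 4 | i ≠ 0} := by
  rcases perm_F4 σ hσ with h | h
  · left
    have h1 : σ = 1 := Equiv.ext h
    rw [h1]
    simp
  · right
    have key : ∀ (a b : Fin 4), b = a.rev → σ '' {i : Fin 4 | i ≠ a} = {i : Fin 4 | i ≠ b} := by
      intro a b hab
      ext i
      constructor
      · rintro ⟨j, hj, rfl⟩
        intro h2
        apply hj
        rw [h, hab] at h2
        exact Fin.rev_injective h2
      · intro hi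
        refine ⟨i.rev, fun h2 => hi ?_, by rw [h, Fin.rev_rev]⟩
        rw [hab, ← h2, Fin.rev_rev]
    exact ⟨key 0 3 (by decide), key 3 0 (by decide)⟩

/-- **Type `F_4`, twisted.** -/
theorem hR2_F4 {W : Type*} [Group W] (cs : CoxeterSystem CoxeterMatrix.F₄ W) (σ : Equiv.Perm (Fin 4))
    (hσ : ∀ i j, CoxeterMatrix.F₄ (σ i) (σ j) = CoxeterMatrix.F₄ i j)
    (h1 : σ '' {i : Fin 4 | i ≠ 0} = {i : Fin 4 | i ≠ 3}) (h2 : σ '' {i : Fin 4 | i ≠ 3} = {i : Fin 4 | i ≠ 0})
    (φ : W → W) (hφ : ∀ v w, φ (v * w) = φ v * φ w) (hφi : Function.Injective φ)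
    (hφs : ∀ i, φ (cs.simple i) = cs.simple (σ i)) (w : W) :
    ∃ a ∈ WJ cs {i : Fin 4 | i ≠ 0}, ∃ b ∈ WJ cs {i : Fin 4 | i ≠ 3}, φ w⁻¹ = a * w * b := by
  have hrev : ∀ i, σ i = i.rev := by
    rcases perm_F4 σ hσ with h | h
    · exfalso
      have h3 : (3 : Fin 4) ∈ {i : Fin 4 | i ≠ 3} := by
        rw [← h1]
        exact ⟨3, by decide, h 3⟩
      exact h3 rfl
    · exact h
  have hJ : {i : Fin 4 | i ≠ 0} = {i | lF4 i = 0} := by
    ext i
    show i ≠ 0 ↔ lF4 i = 0
    revert i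
    decide +kernel
  rw [hJ] at h1 h2 ⊢
  refine ColK.hR2 cs isCartan_cF4 colF4 (by decide +kernel) h1 h2 hφ hφi hφs 2 (fun k hk => ?_) w
  have h3 : φ 1 = 1 := by
    have := hφ 1 1
    rw [mul_one] at this
    exact mul_eq_left.1 this.symm
  have hk' : k = 0 ∨ k = 1 := by
    revert k
    decide
  rcases hk' with rfl | rfl
  · refine ⟨1, ?_, ?_⟩
    · rw [Model.pos_one]
      decide +kernel
    · rw [inv_one, h3, Model.pos_one]
      decide +kernel
  · have h4 : ∀ ω : List (Fin 4), φ (cs.wordProd ω) = cs.wordProd (ω.map σ) := by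
      intro ω
      induction ω with
      | nil => rw [cs.wordProd_nil, List.map_nil, cs.wordProd_nil, h3]
      | cons i ω ih => rw [cs.wordProd_cons, List.map_cons, cs.wordProd_cons, hφ, hφs, ih]
    refine ⟨cs.wordProd [0, 1, 2, 3], ?_, ?_⟩
    · rw [pos_word]
      decide +kernel
    · have h5 : ([0, 1, 2, 3] : List (Fin 4)).reverse.map σ = [0, 1, 2, 3] := by
        simp only [List.reverse_cons, List.reverse_nil, List.nil_append, List.cons_append, List.map_cons,
          List.map_nil, hrev]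
        decide
      rw [← cs.wordProd_reverse, h4, h5, pos_word]
      decide +kernel

end Cfsg.Agent.H685.R4.WExc
end

-- part: H685/R4/WA
section
/-!
# Self-paired double cosets: type `A_n` and rank two; the opposition involution (helper685, S4554)
-/

set_option autoImplicit false
set_option linter.style.longLine false
set_option linter.unusedSectionVars false

namespace Cfsg.Agent.H685.R4.WA

open Cfsg.Agent.H905.DC Cfsg.Agent.H612.WModel Cfsg.Agent.H612
open Cfsg.Agent.ChevalleyStructure.CoxeterGeom Cfsg.Agent.Tits.Roots Cfsg.Agent.Tits.Core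
open Cfsg.Agent.H685.R4.WInv
open Cfsg.Agent.Nodes.RootsA
open Cfsg.Agent.LieRecognition.BNCox (cA cA_apply)

/-! ### type `A` -/

variable {n : ℕ}

theorem E_injective : Function.Injective (ModA.E (n := n)) := by
  intro a b hab
  rcases Nat.eq_zero_or_pos n with h0 | hpos
  · apply Fin.ext
    omega
  · have ha := a.2
    have hb := b.2
    by_cases h : (a : ℕ) < n
    · have h1 := congrFun hab ⟨a, h⟩
      unfold ModA.E at h1
      simp only [if_true] at h1
      apply Fin.ext
      split_ifs at h1 <;> omega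
    · have h1 := congrFun hab ⟨n - 1, by omega⟩
      unfold ModA.E at h1
      simp only at h1
      apply Fin.ext
      split_ifs at h1 <;> omega

/-- moves with index in `[c, d)` -/
def Mv (c d : ℕ) (x y : Fin (n + 1)) : Prop := ∃ j : Fin n, c ≤ j ∧ (j : ℕ) < d ∧ y = ModA.tr j x

theorem reach {c d : ℕ} (hc : c < n + 1) : ∀ k, ∀ h : c + k < n + 1, c + k ≤ d →
    Relation.ReflTransGen (Mv (n := n) c d) ⟨c, hc⟩ ⟨c + k, h⟩
  | 0, h, _ => Relation.ReflTransGen.refl
  | k + 1, h, hd => by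
    refine (reach hc k (by omega) (by omega)).tail ⟨⟨c + k, by omega⟩, by simp, by simp; omega, ?_⟩
    apply Fin.ext
    rw [ModA.tr_val]
    simp
    omega

theorem reach' {c d : ℕ} (hc : c < n + 1) (x : Fin (n + 1)) (h1 : c ≤ x) (h2 : (x : ℕ) ≤ d) :
    Relation.ReflTransGen (Mv (n := n) c d) ⟨c, hc⟩ x := by
  obtain ⟨k, hk⟩ := Nat.exists_eq_add_of_le h1
  have h3 : x = ⟨c + k, by omega⟩ := Fin.ext hk
  rw [h3]
  exact reach hc k _ (by omega)

/-- the functional of the first index -/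
def l (n : ℕ) : Fin n → ℤ := ModA.E 0

theorem l_apply (m : Fin n) : l n m = if (m : ℕ) = 0 then 1 else 0 := by
  show ((if (0 : ℕ) = (m : ℕ) then 1 else 0) - (if (0 : ℕ) = (m : ℕ) + 1 then 1 else 0) : ℤ) = _
  rw [if_neg (by omega : ¬ (0 : ℕ) = (m : ℕ) + 1), sub_zero]
  by_cases h : (m : ℕ) = 0
  · rw [if_pos h, if_pos h.symm]
  · rw [if_neg h, if_neg (fun h' => h h'.symm)]

/-- the model -/
def model (n : ℕ) : Model (AA n) (l n) (Fin (n + 1)) where
  a := fun j x => ModA.tr j x
  f := ModA.E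
  inj := E_injective
  step j x := funext fun m => ModA.E_step j m x
  o := 0
  base := rfl
  conn x := by
    refine Relation.ReflTransGen.mono ?_ _ _ (reach' (c := 0) (d := n) (by omega) x (Nat.zero_le _) (by omega))
    rintro a b ⟨j, _, _, hj⟩
    exact ⟨j, hj⟩

/-- the two components -/
def col (hn : 1 ≤ n) : ColK (model n) {i | l n i = 0} (Fin 2) where
  c x := if (x : ℕ) = 0 then 0 else 1
  inv j hj x := by
    replace hj : l n j = 0 := hj
    rw [l_apply] at hj
    have hj0 : (j : ℕ) ≠ 0 := by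
      intro h0
      rw [if_pos h0] at hj
      exact absurd hj (by norm_num)
    show (if (ModA.tr j x : ℕ) = 0 then (0 : Fin 2) else 1) = if (x : ℕ) = 0 then 0 else 1
    have hiff : (ModA.tr j x : ℕ) = 0 ↔ (x : ℕ) = 0 := by
      rw [ModA.tr_val]
      split_ifs <;> refine ⟨fun h => ?_, fun h => ?_⟩ <;> first | omega | exact h.elim
    simp only [hiff]
  b k := if k = 0 then 0 else ⟨1, by omega⟩
  conn x := by
    have hx := x.2
    by_cases h0 : (x : ℕ) = 0
    · have h1 : x = 0 := Fin.ext h0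
      subst h1
      simp only [Fin.val_zero, if_true]
      exact Relation.ReflTransGen.refl
    · simp only [h0, if_false, one_ne_zero]
      refine Relation.ReflTransGen.mono ?_ _ _ (reach' (c := 1) (d := n) (by omega) x (by omega) (by omega))
      rintro a b ⟨j, hj, _, hab⟩
      refine ⟨j, ?_, hab⟩
      show l n j = 0
      rw [l_apply, if_neg (by omega)]

/-- the two components for the other parabolic subgroup -/
def colK (hn : 1 ≤ n) : ColK (model n) {i : Fin n | (i : ℕ) ≠ n - 1} (Fin 2) where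
  c x := if (x : ℕ) = n then 1 else 0
  inv j hj x := by
    replace hj : (j : ℕ) ≠ n - 1 := hj
    have hjn := j.2
    show (if (ModA.tr j x : ℕ) = n then (1 : Fin 2) else 0) = if (x : ℕ) = n then 1 else 0
    have hiff : (ModA.tr j x : ℕ) = n ↔ (x : ℕ) = n := by
      rw [ModA.tr_val]
      split_ifs <;> refine ⟨fun h => ?_, fun h => ?_⟩ <;> first | omega | exact h.elim
    simp only [hiff]
  b k := if k = 0 then 0 else ⟨n, by omega⟩
  conn x := by
    have hx := x.2
    by_cases h0 : (x : ℕ) = n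
    · have h1 : x = ⟨n, by omega⟩ := Fin.ext h0
      rw [h1]
      simp only [if_true, one_ne_zero, if_false]
      exact Relation.ReflTransGen.refl
    · simp only [h0, if_false, if_true]
      refine Relation.ReflTransGen.mono ?_ _ _ (reach' (c := 0) (d := n - 1) (by omega) x (by omega) (by omega))
      rintro a b ⟨j, hj, hj', hab⟩
      exact ⟨j, show (j : ℕ) ≠ n - 1 by omega, hab⟩

theorem J_eq : {i : Fin n | (i : ℕ) ≠ 0} = {i | l n i = 0} := by
  ext i
  show (i : ℕ) ≠ 0 ↔ l n i = 0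
  rw [l_apply]
  split_ifs <;> simp_all

theorem l_nonneg (i : Fin n) : 0 ≤ l n i := by
  rw [l_apply]
  split_ifs <;> norm_num

theorem hR_A (hn : 1 ≤ n) {W : Type*} [Group W] (cs : CoxeterSystem (cA n) W) (w : W) :
    ∃ a ∈ WJ cs {i | (i : ℕ) ≠ 0}, ∃ b ∈ WJ cs {i | (i : ℕ) ≠ 0}, w⁻¹ = a * w * b := by
  rw [J_eq]
  refine ColK.hR1 cs (isCartan n) (C := col hn) l_nonneg (1 : Fin 2) (fun k hk => ⟨1, ?_, ?_⟩) w
  · have hk' : k = 0 := by
      revert k
      decide
    rw [Model.pos_one, hk']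
    rfl
  · have hk' : k = 0 := by
      revert k
      decide
    rw [inv_one, Model.pos_one, hk']
    rfl

theorem hR2_A (hn : 1 ≤ n) {W : Type*} [Group W] (cs : CoxeterSystem (cA n) W) (σ : Equiv.Perm (Fin n))
    (h1 : σ '' {i : Fin n | (i : ℕ) ≠ 0} = {i : Fin n | (i : ℕ) ≠ n - 1})
    (h2 : σ '' {i : Fin n | (i : ℕ) ≠ n - 1} = {i : Fin n | (i : ℕ) ≠ 0})
    (φ : W → W) (hφ : ∀ v w, φ (v * w) = φ v * φ w) (hφi : Function.Injective φ)
    (hφs : ∀ i, φ (cs.simple i) = cs.simple (σ i)) (w : W) :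
    ∃ a ∈ WJ cs {i : Fin n | (i : ℕ) ≠ 0}, ∃ b ∈ WJ cs {i : Fin n | (i : ℕ) ≠ n - 1}, φ w⁻¹ = a * w * b := by
  rw [J_eq] at h1 h2 ⊢
  refine ColK.hR2 cs (isCartan n) (colK hn) l_nonneg h1 h2 hφ hφi hφs 1 (fun k hk => ?_) w
  have h3 : φ 1 = 1 := by
    have := hφ 1 1
    rw [mul_one] at this
    exact mul_eq_left.1 this.symm
  have hk' : k = 0 := by
    revert k
    decide
  have h4 : (colK hn).c (model n).o = 0 := by
    show (if ((0 : Fin (n + 1)) : ℕ) = n then (1 : Fin 2) else 0) = 0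
    rw [Fin.val_zero, if_neg (by omega)]
  rw [hk']
  refine ⟨1, ?_, ?_⟩
  · rw [Model.pos_one, h4]
  · rw [inv_one, h3, Model.pos_one, h4]

theorem two_A (hn : 1 ≤ n) {W : Type*} [Group W] (cs : CoxeterSystem (cA n) W) :
    ∃ v : W, ∀ w : W, w ∈ WJ cs {i : Fin n | (i : ℕ) ≠ 0} ∨
      ∃ a ∈ WJ cs {i : Fin n | (i : ℕ) ≠ 0}, ∃ b ∈ WJ cs {i : Fin n | (i : ℕ) ≠ 0}, w = a * v * b := by
  rw [J_eq]
  obtain ⟨v, hv⟩ := (model n).pos_surjective cs (isCartan n) ⟨1, by omega⟩
  have hv' : (col hn).c ((model n).pos cs (isCartan n) v) = 1 := by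
    rw [hv]
    rfl
  refine ⟨v, fun w => ?_⟩
  by_cases hw : (col hn).c ((model n).pos cs (isCartan n) w) = 0
  · left
    have h1 : (col hn).c ((model n).pos cs (isCartan n) (1 : W)) = (col hn).c ((model n).pos cs (isCartan n) w) := by
      rw [hw, Model.pos_one]
      rfl
    obtain ⟨a, ha, b, hb, h2⟩ := ((col hn).iff cs (isCartan n) l_nonneg).1 h1
    rw [h2, mul_one]
    exact mul_mem ha hb
  · right
    have hw' : (col hn).c ((model n).pos cs (isCartan n) w) = 1 := by
      generalize (col hn).c ((model n).pos cs (isCartan n) w) = x at hw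
      revert x
      decide
    exact ((col hn).iff cs (isCartan n) l_nonneg).1 (hv'.trans hw'.symm)

theorem sym_A' (hn : 2 ≤ n) (σ : Equiv.Perm (Fin n)) (hσ : ∀ i j, cA n (σ i) (σ j) = cA n i j) :
    σ '' {i : Fin n | (i : ℕ) ≠ 0} = {i : Fin n | (i : ℕ) ≠ 0} ∨
      σ '' {i : Fin n | (i : ℕ) ≠ 0} = {i : Fin n | (i : ℕ) ≠ n - 1} ∧
      σ '' {i : Fin n | (i : ℕ) ≠ n - 1} = {i : Fin n | (i : ℕ) ≠ 0} := by
  have h := Sym.sym_A σ hσ
  let a : Fin n := ⟨0, by omega⟩
  let b : Fin n := ⟨n - 1, by omega⟩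
  have ha : (a : ℕ) = 0 := rfl
  have hb : (b : ℕ) = n - 1 := rfl
  have key : ∀ x : Fin n, ((x : ℕ) = 0 ∨ (x : ℕ) = n - 1) → ((σ x : ℕ) = 0 ∨ (σ x : ℕ) = n - 1) := by
    intro x hx
    by_contra hcon
    have h1 : σ x ∈ {i : Fin n | ¬ ((i : ℕ) = 0 ∨ (i : ℕ) = n - 1)} := hcon
    rw [← h] at h1
    obtain ⟨y, hy, hyx⟩ := h1
    rw [σ.injective hyx] at hy
    exact hy hx
  have hab : (σ a : ℕ) ≠ σ b := by
    intro h1
    have h2 := σ.injective (Fin.ext h1)
    have h3 := congrArg Fin.val h2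
    omega
  have him : ∀ c d : Fin n, σ c = d → σ '' {i : Fin n | (i : ℕ) ≠ c} = {i : Fin n | (i : ℕ) ≠ d} := by
    intro c d hcd
    ext i
    constructor
    · rintro ⟨j, hj, rfl⟩ h1
      apply hj
      rw [σ.injective ((Fin.ext h1).trans hcd.symm)]
    · intro hi
      obtain ⟨j, rfl⟩ := σ.surjective i
      refine ⟨j, fun h1 => hi ?_, rfl⟩
      rw [Fin.ext h1, hcd]
  rcases key a (Or.inl rfl) with h1 | h1
  · exact Or.inl (him a a (Fin.ext (h1.trans ha.symm)))
  · right
    refine ⟨him a b (Fin.ext (h1.trans hb.symm)), him b a (Fin.ext ?_)⟩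
    rcases key b (Or.inr rfl) with h2 | h2
    · exact h2.trans ha.symm
    · exact absurd (h1.trans h2.symm) hab

/-! ### rank two -/

section Two

variable {M : CoxeterMatrix (Fin 2)} {W : Type*} [Group W] (cs : CoxeterSystem M W)

theorem form (w : W) : ∃ k : ℤ, w = (cs.simple 0 * cs.simple 1) ^ k ∨ w = (cs.simple 0 * cs.simple 1) ^ k * cs.simple 0 := by
  induction w using cs.simple_induction_right with
  | one => exact ⟨0, Or.inl (zpow_zero _).symm⟩
  | mul_simple_right w i ih =>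
    obtain ⟨k, rfl | rfl⟩ := ih
    · fin_cases i
      · exact ⟨k, Or.inr rfl⟩
      · refine ⟨k - 1, Or.inr ?_⟩
        rw [zpow_sub_one, mul_inv_rev, cs.inv_simple, cs.inv_simple]
        show _ * cs.simple 1 = _
        rw [mul_assoc, mul_assoc, cs.simple_mul_simple_self, mul_one]
    · fin_cases i
      · refine ⟨k, Or.inl ?_⟩
        show _ * cs.simple 0 = _
        rw [mul_assoc, cs.simple_mul_simple_self, mul_one]
      · refine ⟨k + 1, Or.inl ?_⟩
        show _ * cs.simple 1 = _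
        rw [zpow_add_one, mul_assoc]

theorem conj_zpow (k : ℤ) : cs.simple 0 * (cs.simple 0 * cs.simple 1) ^ k * cs.simple 0 =
    (cs.simple 0 * cs.simple 1) ^ (-k) := by
  have h1 : cs.simple 0 * (cs.simple 0 * cs.simple 1) * (cs.simple 0)⁻¹ = (cs.simple 0 * cs.simple 1)⁻¹ := by
    rw [mul_inv_rev, cs.inv_simple, cs.inv_simple, ← mul_assoc, cs.simple_mul_simple_self, one_mul]
  have h2 : cs.simple 0 * (cs.simple 0 * cs.simple 1) ^ k * (cs.simple 0)⁻¹ = (cs.simple 0 * cs.simple 1)⁻¹ ^ k := by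
    rw [← h1, _root_.conj_zpow]
  rwa [cs.inv_simple, inv_zpow'] at h2

theorem simple_mem {J : Set (Fin 2)} {j : Fin 2} (h : j ∈ J) : cs.simple j ∈ WJ cs J :=
  Subgroup.subset_closure ⟨j, h, rfl⟩

theorem hR_two (w : W) : ∃ a ∈ WJ cs {0}, ∃ b ∈ WJ cs {0}, w⁻¹ = a * w * b := by
  obtain ⟨k, rfl | rfl⟩ := form cs w
  · refine ⟨_, simple_mem cs rfl, _, simple_mem cs rfl, ?_⟩
    rw [conj_zpow, zpow_neg]
  · refine ⟨1, one_mem _, 1, one_mem _, ?_⟩
    rw [one_mul, mul_one, mul_inv_rev, cs.inv_simple, ← zpow_neg, ← conj_zpow cs k, ← mul_assoc, ← mul_assoc,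
      cs.simple_mul_simple_self, one_mul]

theorem hR2_two (σ : Equiv.Perm (Fin 2)) (h1 : σ '' {0} = {1}) (φ : W → W) (hφ : ∀ v w, φ (v * w) = φ v * φ w)
    (hφs : ∀ i, φ (cs.simple i) = cs.simple (σ i)) (w : W) :
    ∃ a ∈ WJ cs {0}, ∃ b ∈ WJ cs {1}, φ w⁻¹ = a * w * b := by
  have e0 : σ 0 = 1 := by
    rw [Set.image_singleton] at h1
    exact Set.singleton_injective h1
  have e1 : σ 1 = 0 := by
    have h2 : σ 1 ≠ 1 := fun h => absurd (σ.injective (h.trans e0.symm)) (by decide)
    generalize σ 1 = x at h2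
    revert x
    decide
  have h3 : φ (cs.simple 0) = cs.simple 1 := by rw [hφs, e0]
  have h4 : φ (cs.simple 1) = cs.simple 0 := by rw [hφs, e1]
  let f : W →* W := MonoidHom.mk' φ hφ
  have h5 : ∀ k : ℤ, φ ((cs.simple 0 * cs.simple 1) ^ k) = (cs.simple 0 * cs.simple 1) ^ (-k) := by
    intro k
    have h6 : f ((cs.simple 0 * cs.simple 1) ^ k) = (f (cs.simple 0 * cs.simple 1)) ^ k := map_zpow f _ k
    have h7 : f (cs.simple 0 * cs.simple 1) = (cs.simple 0 * cs.simple 1)⁻¹ := by
      show φ _ = _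
      rw [hφ, h3, h4, mul_inv_rev, cs.inv_simple, cs.inv_simple]
    rw [h7, inv_zpow'] at h6
    exact h6
  obtain ⟨k, rfl | rfl⟩ := form cs w
  · refine ⟨1, one_mem _, 1, one_mem _, ?_⟩
    rw [one_mul, mul_one, ← zpow_neg, h5, neg_neg]
  · refine ⟨_, simple_mem cs rfl, _, simple_mem cs rfl, ?_⟩
    have h8 : ((cs.simple 0 * cs.simple 1) ^ k * cs.simple 0)⁻¹ = (cs.simple 0 * cs.simple 1) ^ k * cs.simple 0 := by
      rw [mul_inv_rev, cs.inv_simple, ← zpow_neg, ← conj_zpow cs k, ← mul_assoc, ← mul_assoc,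
        cs.simple_mul_simple_self, one_mul]
    rw [h8, hφ, h5, h3, ← mul_assoc, conj_zpow]

end Two

theorem sym_two (σ : Equiv.Perm (Fin 2)) : σ '' {0} = {0} ∨ σ '' {0} = {1} ∧ σ '' {1} = {0} := by
  rw [Set.image_singleton, Set.image_singleton]
  have h : σ 0 ≠ σ 1 := σ.injective.ne (by decide)
  generalize σ 0 = x at h ⊢
  generalize σ 1 = y at h ⊢
  revert x y
  simp only [Set.singleton_eq_singleton_iff]
  decide

/-! ### the opposition involution -/

section Op

variable {I : Type*} {M : CoxeterMatrix I} {W : Type*} [Group W] [Finite W] (cs : CoxeterSystem M W)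

/-- the opposition involution preserves classes of reflections -/
theorem op_of_sign {f : I → ℤˣ} (hf : M.IsLiftable f) (i : I) : f (op cs i) = f i := by
  have h1 := congrArg (cs.lift ⟨f, hf⟩) (Tits.Exchange.simple_op cs i)
  rw [map_mul, map_mul, cs.lift_apply_simple hf, cs.lift_apply_simple hf] at h1
  rw [h1, mul_comm, ← mul_assoc, ← map_mul, Tits.Exchange.w0_mul_self, map_one, one_mul]

theorem op_label [Finite I] (i j : I) : M (op cs i) (op cs j) = M i j := by
  classical
  have := Fintype.ofFinite I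
  rw [← Cfsg.Agent.LieRecognition.CoxForm.orderOf_eq cs, ← Cfsg.Agent.LieRecognition.CoxForm.orderOf_eq cs]
  have h1 : cs.simple (op cs i) * cs.simple (op cs j) = w0 cs * (cs.simple i * cs.simple j) * (w0 cs)⁻¹ := by
    rw [Tits.Exchange.simple_op, Tits.Exchange.simple_op, Tits.Exchange.w0_inv]
    have h2 := Tits.Exchange.w0_mul_self cs
    calc w0 cs * cs.simple i * w0 cs * (w0 cs * cs.simple j * w0 cs)
        = w0 cs * cs.simple i * (w0 cs * w0 cs) * cs.simple j * w0 cs := by group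
      _ = w0 cs * (cs.simple i * cs.simple j) * w0 cs := by rw [h2]; group
  rw [h1]
  exact orderOf_injective (MulAut.conj (w0 cs)).toMonoidHom (MulAut.conj (w0 cs)).injective
    (cs.simple i * cs.simple j)

theorem op_inj (hinj : Function.Injective cs.simple) : Function.Injective (op cs) := by
  intro i j hij
  rw [← Tits.Exchange.op_op cs hinj i, ← Tits.Exchange.op_op cs hinj j, hij]

end Op

theorem op_two {M : CoxeterMatrix (Fin 2)} {W : Type*} [Group W] [Finite W] (cs : CoxeterSystem M W)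
    (hM : Even (M 0 1)) : ∀ i ∈ ({0} : Set (Fin 2)), op cs i ∈ ({0} : Set (Fin 2)) := by
  have hf : M.IsLiftable (![-1, 1] : Fin 2 → ℤˣ) := by
    have h10 : M 1 0 = M 0 1 := M.symmetric 1 0
    intro i j
    fin_cases i <;> fin_cases j
    · simp
    · show ((-1 : ℤˣ) * 1) ^ M 0 1 = 1
      rw [mul_one]
      exact hM.neg_one_pow
    · show ((1 : ℤˣ) * -1) ^ M 1 0 = 1
      rw [h10, one_mul]
      exact hM.neg_one_pow
    · simp
  rintro i rfl
  have h1 := op_of_sign cs hf 0
  show op cs 0 = 0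
  generalize op cs 0 = x at h1
  revert x
  decide

theorem op_F4 {W : Type*} [Group W] [Finite W] (cs : CoxeterSystem CoxeterMatrix.F₄ W)
    (hinj : Function.Injective cs.simple) : ∀ i ∈ {i : Fin 4 | i ≠ 0}, op cs i ∈ {i : Fin 4 | i ≠ 0} := by
  have hf : CoxeterMatrix.F₄.IsLiftable (![-1, -1, 1, 1] : Fin 4 → ℤˣ) := by
    have key : ∀ i j : Fin 4, ((![-1, -1, 1, 1] : Fin 4 → ℤˣ) i * (![-1, -1, 1, 1] : Fin 4 → ℤˣ) j) ^
        CoxeterMatrix.F₄ i j = 1 := by decide +kernel
    exact key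
  have h1 := op_of_sign cs hf 0
  rcases WExc.perm_F4 (Equiv.ofBijective _ (Finite.injective_iff_bijective.1 (op_inj cs hinj)))
    (fun i j => op_label cs i j) with h2 | h2
  · intro i hi
    have h3 : op cs i = i := h2 i
    rw [h3]
    exact hi
  · exfalso
    have h3 : op cs 0 = (0 : Fin 4).rev := h2 0
    rw [h3] at h1
    revert h1
    decide

end Cfsg.Agent.H685.R4.WA
end

-- part: H685/R4/RowsTwo
section
/-!
# S4554, groups of Lie type of characteristic two and rank at least two: the rows (helper685)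

* `row_A`, `row_B`, `row_D`, `row_E6`, `row_E7`, `row_E8`, `row_F4`, `row_G2` : from the type of a root group datum;
* `row_twF4` : the groups `²F₄(q)`;
* `row_lie_two` : every group of Lie type of characteristic two except `PSL₂(q)`, `PSU₃(q)`, `Sz(q)`.
-/

set_option autoImplicit false
set_option linter.unusedSectionVars false

namespace Cfsg.Agent.H685.R4

open Cfsg Cfsg.Agent.Tits.Core Cfsg.Agent.H612
open Cfsg.Agent.H619.R4 (RD R3 Row)
open Cfsg.Agent.Omega.ML.Ex.Typ
open Cfsg.Agent.LieRecognition.BNCox (cA)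

universe u

variable {S : Type u} [Group S] [Finite S] [IsSimpleGroup S]

/-- the type of the (B,N)-pair of a group isomorphic to `S` -/
theorem splitT_of {l : ℕ} {M : CoxeterMatrix (Fin l)} (hl : 0 < l) (h : HasRGDT 2 M S) {L : Type u} [Group L]
    [IsSimpleGroup L] (f : S ≃* L) : HasSplitT 2 M L := (h.of_equiv f).hasSplitT Nat.prime_two hl

/-- **Type `A_n`, `n ≥ 2`.** -/
theorem row_A (hna : ¬ IsMulCommutative S) (hL : IsLieTypeChar 2 S) {n : ℕ} (hn : 2 ≤ n) (h : HasRGDT 2 (cA n) S) :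
    Row S := by
  refine row_of_type hna hL fun G _ _ N _ _ f hna' hL' => ?_
  refine r3_swap hna' hL' (splitT_of (by omega) h f) (J := {i : Fin n | (i : ℕ) ≠ 0})
    (K := {i : Fin n | (i : ℕ) ≠ n - 1}) (j := ⟨n - 1, by omega⟩) (show n - 1 ≠ 0 by omega) ?_
    (fun σ hσ => WA.sym_A' hn σ hσ) (fun cs w => WA.hR_A (by omega) cs w)
    (fun cs σ _ h1 h2 φ hφ hφi hφs w => WA.hR2_A (by omega) cs σ h1 h2 φ hφ hφi hφs w)
    (Or.inr fun cs => WA.two_A (by omega) cs)
  intro hJ
  have h1 : (⟨0, by omega⟩ : Fin n) ∈ {i : Fin n | (i : ℕ) ≠ 0} := by rw [hJ]; trivial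
  exact h1 rfl

/-- rank two -/
theorem r3_two {G : Type u} [Group G] [Finite G] {N : Subgroup G} [N.Normal] [IsSimpleGroup N]
    (hna : ∃ a b : N, a * b ≠ b * a) (hL : IsLieTypeChar 2 N) {M : CoxeterMatrix (Fin 2)} (hM : Even (M 0 1))
    (h : HasSplitT 2 M N) : R3 G N := by
  refine r3_swap hna hL h (J := {0}) (K := {1}) (j := 0) rfl ?_ (fun σ _ => WA.sym_two σ)
    (fun cs w => WA.hR_two cs w) (fun cs σ _ h1 _ φ hφ _ hφs w => WA.hR2_two cs σ h1 φ hφ hφs w)
    (Or.inl fun cs _ => WA.op_two cs hM)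
  intro hJ
  have h1 : (1 : Fin 2) ∈ ({0} : Set (Fin 2)) := by rw [hJ]; trivial
  exact absurd h1 (by simp)

/-- **Type `B_n`, `n ≥ 2`.** -/
theorem row_B (hna : ¬ IsMulCommutative S) (hL : IsLieTypeChar 2 S) {n : ℕ} (hn : 2 ≤ n)
    (h : HasRGDT 2 (CoxeterMatrix.B n) S) : Row S := by
  refine row_of_type hna hL fun G _ _ N _ _ f hna' hL' => ?_
  rcases Nat.lt_or_ge n 3 with h3 | h3
  · obtain rfl : n = 2 := by omega
    refine r3_two hna' hL' (M := CoxeterMatrix.B 2) ?_ (splitT_of (by omega) h f)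
    rw [Sym.B_apply]
    decide
  · refine r3_stable hna' hL' (splitT_of (by omega) h f) (J := {i : Fin n | (i : ℕ) ≠ 0}) (j := ⟨1, by omega⟩)
      (show 1 ≠ 0 by omega) ?_ (fun σ hσ => Sym.sym_B h3 σ hσ) (fun cs w => WInv.hR_B (by omega) cs w)
    intro hJ
    have h1 : (⟨0, by omega⟩ : Fin n) ∈ {i : Fin n | (i : ℕ) ≠ 0} := by rw [hJ]; trivial
    exact h1 rfl

/-- **Type `D_n`, `n ≥ 4`.** -/
theorem row_D (hna : ¬ IsMulCommutative S) (hL : IsLieTypeChar 2 S) {n : ℕ} (hn : 2 ≤ n)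
    (h : HasRGDT 2 (Nodes.TypeD.M n) S) : Row S := by
  refine row_of_type hna hL fun G _ _ N _ _ f hna' hL' => ?_
  rcases Nat.lt_or_ge n 3 with h3 | h3
  · obtain rfl : n = 2 := by omega
    refine r3_stable hna' hL' (splitT_of (by omega) h f) (J := {i : Fin 4 | i ≠ 1}) (j := 0)
      (show (0 : Fin 4) ≠ 1 by decide) ?_ (fun σ hσ => RowsTab.sym_D4 σ hσ) (fun cs w => WExc.hR_D4 cs w)
    intro hJ
    have h1 : (1 : Fin 4) ∈ {i : Fin 4 | i ≠ 1} := by rw [hJ]; trivial
    exact h1 rfl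
  · refine r3_stable hna' hL' (splitT_of (by omega) h f) (J := {i : Fin (n + 2) | (i : ℕ) ≠ 0}) (j := ⟨1, by omega⟩)
      (show 1 ≠ 0 by omega) ?_ (fun σ hσ => Sym.sym_D h3 σ hσ) (fun cs w => WInv.hR_D (by omega) cs w)
    intro hJ
    have h1 : (⟨0, by omega⟩ : Fin (n + 2)) ∈ {i : Fin (n + 2) | (i : ℕ) ≠ 0} := by rw [hJ]; trivial
    exact h1 rfl

/-- **Type `E_6`.** -/
theorem row_E6 (hna : ¬ IsMulCommutative S) (hL : IsLieTypeChar 2 S) (h : HasRGDT 2 CoxeterMatrix.E₆ S) : Row S := by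
  refine row_of_type hna hL fun G _ _ N _ _ f hna' hL' => ?_
  refine r3_stable hna' hL' (splitT_of (by omega) h f) (J := {i : Fin 6 | i ≠ 1}) (j := 0)
    (show (0 : Fin 6) ≠ 1 by decide) ?_ (fun σ hσ => WExc.sym_E6 σ hσ) (fun cs w => WExc.hR_E6 cs w)
  intro hJ
  have h1 : (1 : Fin 6) ∈ {i : Fin 6 | i ≠ 1} := by rw [hJ]; trivial
  exact h1 rfl

/-- **Type `E_7`.** -/
theorem row_E7 (hna : ¬ IsMulCommutative S) (hL : IsLieTypeChar 2 S) (h : HasRGDT 2 CoxeterMatrix.E₇ S) : Row S := by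
  refine row_of_type hna hL fun G _ _ N _ _ f hna' hL' => ?_
  refine r3_stable hna' hL' (splitT_of (by omega) h f) (J := {i : Fin 7 | i ≠ 0}) (j := 1)
    (show (1 : Fin 7) ≠ 0 by decide) ?_ (fun σ hσ => RowsTab.sym_E7 σ hσ) (fun cs w => WExc.hR_E7 cs w)
  intro hJ
  have h1 : (0 : Fin 7) ∈ {i : Fin 7 | i ≠ 0} := by rw [hJ]; trivial
  exact h1 rfl

/-- **Type `E_8`.** -/
theorem row_E8 (hna : ¬ IsMulCommutative S) (hL : IsLieTypeChar 2 S) (h : HasRGDT 2 CoxeterMatrix.E₈ S) : Row S := by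
  refine row_of_type hna hL fun G _ _ N _ _ f hna' hL' => ?_
  refine r3_stable hna' hL' (splitT_of (by omega) h f) (J := {i : Fin 8 | i ≠ 7}) (j := 0)
    (show (0 : Fin 8) ≠ 7 by decide) ?_ (fun σ hσ => WExc.sym_E8 σ hσ) (fun cs w => WExc.hR_E8 cs w)
  intro hJ
  have h1 : (7 : Fin 8) ∈ {i : Fin 8 | i ≠ 7} := by rw [hJ]; trivial
  exact h1 rfl

/-- **Type `F_4`.** -/
theorem row_F4 (hna : ¬ IsMulCommutative S) (hL : IsLieTypeChar 2 S) (h : HasRGDT 2 CoxeterMatrix.F₄ S) : Row S := by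
  refine row_of_type hna hL fun G _ _ N _ _ f hna' hL' => ?_
  refine r3_swap hna' hL' (splitT_of (by omega) h f) (J := {i : Fin 4 | i ≠ 0}) (K := {i : Fin 4 | i ≠ 3}) (j := 1)
    (show (1 : Fin 4) ≠ 0 by decide) ?_ (fun σ hσ => WExc.sym_F4 σ hσ) (fun cs w => WExc.hR_F4 cs w)
    (fun cs σ hσ h1 h2 φ hφ hφi hφs w => WExc.hR2_F4 cs σ hσ h1 h2 φ hφ hφi hφs w)
    (Or.inl fun cs hinj => WA.op_F4 cs hinj)
  intro hJ
  have h1 : (0 : Fin 4) ∈ {i : Fin 4 | i ≠ 0} := by rw [hJ]; trivial
  exact h1 rfl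

/-- **Type `G_2`.** -/
theorem row_G2 (hna : ¬ IsMulCommutative S) (hL : IsLieTypeChar 2 S) (h : HasRGDT 2 CoxeterMatrix.G₂ S) : Row S := by
  refine row_of_type hna hL fun G _ _ N _ _ f hna' hL' => ?_
  exact r3_two hna' hL' (M := CoxeterMatrix.G₂) (by decide) (splitT_of (by omega) h f)

/-- **The groups `²F₄(q)`.** -/
theorem row_twF4 (hna : ¬ IsMulCommutative S) (h : Lie.Iso2F4 S) : Row S := by
  have hL : IsLieTypeChar 2 S := by
    unfold IsLieTypeChar
    simp only [true_and]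
    tauto
  obtain ⟨K, i1, i2, m, hm, hK, ⟨e⟩⟩ := h
  refine row_of_type hna hL fun G _ _ N _ _ f hna' hL' => ?_
  obtain ⟨M, hM, hT⟩ := H60.HerTwF4.hasSplitT hm hK (e.symm.trans f)
  exact r3_two hna' hL' (by rw [hM]; decide) hT

end Cfsg.Agent.H685.R4
end

private theorem dce_84e6403bd924 : _root_.True := by
  try have : _root_.True := by simp only [_root_.Cfsg.Agent.H685.R4.Cst.eq_1]
  try have : _root_.True := by simp only [_root_.Cfsg.Agent.H685.R4.cn.congr_simp]
  exact _root_.True.intro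
end

-- part: H579/RR/OddAt
section
prune_inst 0x430007104242212000000000000001020a000000000088000000002000001840000000000b22000000020000400300028130000000200000000000000011800800000000000000000040018000000010000000000000000000000000000000000004010000
set_option linter.all false
open scoped Cfsg.Agent.FastGrp

-- part: H579/RR/Over
section
/-!
# Real characters over a real character of a normal subgroup (S4554, helper579)

* `exists_real_of_odd_stab` : `φ ∈ Irr(N)` real, `|I_G(φ) : N|` odd: a real `χ ∈ Irr(G)` lies over `φ`.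
-/

set_option autoImplicit false

namespace Cfsg.Agent.H579.RR

open Cfsg Cfsg.Agent.Characters Cfsg.Agent.H619.R4 Cfsg.Agent.H686.CharKit
open Cfsg.Agent.H696.OddIndex (mult stab mult_nat sum_mult_sq)
open scoped ComplexConjugate

universe u

variable {G : Type u} [Group G]

theorem mult_cbar [Finite G] (N : Subgroup G) [Fintype N] {φ : N → ℂ} (hreal : ∀ n, (φ n).im = 0)
    (χ : IrrCharacter G) : mult N (cbar χ : G → ℂ) φ = conj (mult N (χ : G → ℂ) φ) := by
  unfold mult
  rw [Core.classInner_def, Core.classInner_def, map_mul, map_inv₀, Complex.conj_natCast, map_sum]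
  congr 1
  refine Finset.sum_congr rfl fun n _ => ?_
  rw [cbar_apply, map_mul, Complex.conj_eq_iff_im.2 (hreal n), Complex.conj_eq_iff_im.2 (hreal n)]

theorem exists_real_of_odd_stab [Finite G] (N : Subgroup G) [hN : N.Normal] [Fintype N] {φ : N → ℂ}
    (hφ : IsIrrCharacter N φ) (hreal : ∀ n, (φ n).im = 0) (T : Subgroup G)
    (hT : ∀ g, g ∈ T ↔ ∀ n : N, φ ⟨g * n * g⁻¹, hN.conj_mem n n.2 g⟩ = φ n) (hodd : Odd (N.relIndex T)) :
    ∃ χ : IrrCharacter G, (∀ g, ((χ : G → ℂ) g).im = 0) ∧ mult N (χ : G → ℂ) φ ≠ 0 := by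
  classical
  have := Fintype.ofFinite G
  have hfin := Core.finite_irr (G := G)
  have := Fintype.ofFinite (IrrCharacter G)
  choose m hm using fun χ : IrrCharacter G => mult_nat N χ.2 hφ
  have hNT : N ≤ T := by
    intro x hx
    rw [hT]
    intro n
    exact Core.isIrr_isClassFunction hφ n ⟨x, hx⟩
  have h1 : stab N φ = Nat.card T := by
    unfold stab
    exact Nat.card_congr (Equiv.subtypeEquivRight fun g => (hT g).symm)
  have h2 := sum_mult_sq N hφ
  have h3 : Nat.card N * ∑ χ : IrrCharacter G, m χ ^ 2 = Nat.card T := by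
    rw [h1] at h2
    have h4 : ∑ χ : IrrCharacter G, mult N (χ : G → ℂ) φ ^ 2 = ((∑ χ : IrrCharacter G, m χ ^ 2 : ℕ) : ℂ) := by
      push_cast
      exact Finset.sum_congr rfl fun χ _ => by rw [hm]
    rw [h4] at h2
    exact_mod_cast h2
  have h4 : ∑ χ : IrrCharacter G, m χ ^ 2 = N.relIndex T := by
    have h5 : Nat.card N * N.relIndex T = Nat.card T := by
      have := (N.subgroupOf T).card_mul_index
      rw [Nat.card_congr (Subgroup.subgroupOfEquivOfLe hNT).toEquiv] at this
      exact this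
    exact Nat.eq_of_mul_eq_mul_left Nat.card_pos (h3.trans h5.symm)
  have hmc : ∀ χ, m (cbar χ) = m χ := by
    intro χ
    have h5 := mult_cbar N hreal χ
    rw [hm, hm, Complex.conj_natCast] at h5
    exact_mod_cast h5
  have h5 : (∑ χ : IrrCharacter G, ((m χ ^ 2 : ℕ) : ZMod 2)) = 1 := by
    rw [← Nat.cast_sum, h4]
    exact (ZMod.natCast_eq_one_iff_odd).2 hodd
  rw [Cfsg.Agent.H611.EvenFixed.sum_eq_sum_fixed Finset.univ cbar (fun χ _ => cbar_cbar χ)
    (fun χ _ => Finset.mem_univ _) _ (fun χ _ => by rw [hmc])] at h5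
  obtain ⟨χ, hχ, hne⟩ := Finset.exists_ne_zero_of_sum_ne_zero (by rw [h5]; exact one_ne_zero)
  rw [Finset.mem_filter] at hχ
  refine ⟨χ, (cbar_eq_iff χ).1 hχ.2, ?_⟩
  rw [hm]
  intro h0
  apply hne
  have h6 : m χ = 0 := by exact_mod_cast h0
  rw [h6]
  simp

end Cfsg.Agent.H579.RR
end

-- part: H579/RR/OddOver
section
/-!
# Real characters over a real character of odd degree of a perfect normal subgroup (S4554, helper579)

* `exists_real_ext` : the canonical extension for a quotient of 2-power order is real;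
* `exists_real_over_odd` : `N` normal and perfect, `θ ∈ Irr(N)` real of odd degree: a real `χ ∈ Irr(G)` lies over `θ`.
-/

set_option autoImplicit false

namespace Cfsg.Agent.H579.RR

open Cfsg Cfsg.Agent.Characters Cfsg.Agent.H619.R4 Cfsg.Agent.H686.CharKit
open Cfsg.Agent.H672 (Over inertia over_iff over_comp_iff over_subtype_iff mem_inertia_iff le_inertia)
open scoped ComplexConjugate

universe u

variable {G : Type u} [Group G]

theorem detChar_eq_one {N : Type*} [Group N] [Finite N] (hperf : commutator N = ⊤) {θ : N → ℂ}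
    (hθ : IsIrrCharacter N θ) (n : N) : detChar θ n = 1 := by
  obtain ⟨δ, hδ⟩ := CharactersDeep.ExtUnique.exists_hom_detChar hθ
  have h1 : n ∈ δ.ker := by
    have h2 : commutator N ≤ δ.ker := Abelianization.commutator_subset_ker δ
    exact h2 (by rw [hperf]; exact Subgroup.mem_top n)
  rw [hδ, MonoidHom.mem_ker.1 h1, Units.val_one]

/-- **The canonical extension is real.** -/
theorem exists_real_ext [Finite G] (N : Subgroup G) [hN : N.Normal] (hperf : commutator N = ⊤) {θ : N → ℂ}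
    (hθ : IsIrrCharacter N θ) (hreal : ∀ n, (θ n).im = 0) (hodd : Odd (charDegree θ)) {k : ℕ}
    (h2 : N.index = 2 ^ k)
    (hinv : ∀ (g : G) (n : N), θ ⟨g * n * g⁻¹, hN.conj_mem (n : G) n.2 g⟩ = θ n) :
    ∃ χ : IrrCharacter G, (∀ g, ((χ : G → ℂ) g).im = 0) ∧ ∀ n : N, (χ : G → ℂ) n = θ n := by
  have hd : θ 1 = ((charDegree θ : ℕ) : ℂ) := (H672.coe_charDegree hθ).symm
  have hcop : Nat.Coprime N.index (charDegree θ) := by
    rw [h2]
    exact Nat.Coprime.pow_left _ (Nat.coprime_two_left.2 hodd)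
  have hone : Cfsg.IsCharacter G (fun _ => (1 : ℂ)) ∧ (fun _ : G => (1 : ℂ)) 1 = 1 :=
    ⟨Core.isIrr_isCharacter Core.isIrr_one, rfl⟩
  have hdet : ∀ n : N, (fun _ : G => (1 : ℂ)) n = Cfsg.detChar θ n := fun n => (detChar_eq_one hperf hθ n).symm
  have hext := (Cfsg.Agent.S0866.result N θ hθ hinv _ hd hcop).2 ⟨fun _ => 1, hone.1, hone.2, hdet⟩
  obtain ⟨χ, ⟨h3, h4, h5⟩, huniq⟩ := Cfsg.Agent.S0862.result N θ hθ _ hd hcop hext (fun _ => 1) hone hdet
  refine ⟨⟨χ, h3⟩, ?_, h4⟩
  have h6 := huniq (fun g => conj (χ g)) ⟨Core.isIrr_conj h3, fun n => by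
    show conj (χ n) = θ n
    rw [h4]
    exact Complex.conj_eq_iff_im.2 (hreal n), by
    funext g
    have h7 := H700.PRat.detChar_map (Complex.conjAe.toRingEquiv) h3 g
    have h8 : (fun x => Complex.conjAe.toRingEquiv (χ x)) = fun g => conj (χ g) := rfl
    rw [h8, h5] at h7
    rw [h7]
    exact map_one _⟩
  intro g
  exact Complex.conj_eq_iff_im.1 (congrFun h6 g)

/-- pulling back a character to `N.subgroupOf R` -/
noncomputable def up (N : Subgroup G) (θ : N → ℂ) (R : Subgroup G) : N.subgroupOf R → ℂ :=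
  fun x => θ ⟨((x : R) : G), Subgroup.mem_subgroupOf.1 x.2⟩

theorem isIrr_up (N : Subgroup G) {θ : N → ℂ} (hθ : IsIrrCharacter N θ) {R : Subgroup G} (hNR : N ≤ R) :
    IsIrrCharacter (N.subgroupOf R) (up N θ R) :=
  Core.isIrr_comp (Subgroup.subgroupOfEquivOfLe hNR : N.subgroupOf R →* N)
    (Subgroup.subgroupOfEquivOfLe hNR).surjective hθ

theorem perfect_subgroupOf {N R : Subgroup G} (hNR : N ≤ R) (hperf : commutator N = ⊤) :
    commutator (N.subgroupOf R) = ⊤ := by
  have e := (Subgroup.subgroupOfEquivOfLe hNR).symm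
  rw [commutator_def] at hperf ⊢
  have h1 : (⊤ : Subgroup (N.subgroupOf R)) = (⊤ : Subgroup N).map e.toMonoidHom :=
    (Subgroup.map_top_of_surjective _ e.surjective).symm
  rw [h1, ← Subgroup.map_commutator, hperf]

/-- `Over` from `R` to `N`. -/
theorem over_of_over [Finite G] {N R : Subgroup G} (hNR : N ≤ R) {θ : N → ℂ} (hθ : IsIrrCharacter N θ)
    {χ : G → ℂ} (hχ : IsCharacter G χ) {ψ : R → ℂ} (hψ : IsIrrCharacter R ψ) (h1 : Over R.subtype χ ψ)
    (h2 : Over (Subgroup.inclusion hNR) ψ θ) : Over N.subtype χ θ := by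
  have h3 := (over_comp_iff R.subtype (Subgroup.inclusion hNR) hχ hθ).2 ⟨ψ, hψ, h1, h2⟩
  exact h3

theorem over_subtype_of_inclusion [Finite G] {N R : Subgroup G} (hNR : N ≤ R) (θ : N → ℂ) (ψ : R → ℂ) :
    Over (N.subgroupOf R).subtype ψ (up N θ R) ↔ Over (Subgroup.inclusion hNR) ψ θ := by
  have h1 := H672.over_comp_equiv (Subgroup.inclusion hNR) (Subgroup.subgroupOfEquivOfLe hNR) ψ θ
  exact h1

/-- A constituent of an induced character lies over the character. -/
theorem over_of_indFun [Fintype G] (R : Subgroup G) [Fintype R] {ψ : R → ℂ} {χ : G → ℂ} (hχ : IsIrrCharacter G χ)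
    (h : classInner (indFun R ψ) χ ≠ 0) : Over R.subtype χ ψ := by
  rw [over_subtype_iff]
  have h3 := CharactersDeep.NormalInd.classInner_indFun R ψ χ (Core.isIrr_isClassFunction hχ)
  rw [h3] at h
  intro h4
  apply h
  rw [← Core.classInner_conj_symm, h4, map_zero]

/-- the invariant case -/
theorem exists_real_over_of_inv [Finite G] (N : Subgroup G) [hN : N.Normal] (hperf : commutator N = ⊤) {θ : N → ℂ}
    (hθ : IsIrrCharacter N θ) (hreal : ∀ n, (θ n).im = 0) (hodd : Odd (charDegree θ))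
    (hinv : ∀ (g : G) (n : N), θ ⟨g * n * g⁻¹, hN.conj_mem (n : G) n.2 g⟩ = θ n) :
    ∃ χ : IrrCharacter G, (∀ g, ((χ : G → ℂ) g).im = 0) ∧ Odd (charDegree (χ : G → ℂ)) ∧
      Over N.subtype (χ : G → ℂ) θ := by
  classical
  have := Fintype.ofFinite G
  have : Fact (Nat.Prime 2) := ⟨Nat.prime_two⟩
  obtain ⟨P⟩ : Nonempty (Sylow 2 G) := inferInstance
  obtain ⟨k, hk⟩ := H700.PRatExt.relIndex_sup_pow N (P : Subgroup G) P.2
  set R := N ⊔ (P : Subgroup G) with hR
  have hNR : N ≤ R := le_sup_left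
  have hPR : (P : Subgroup G) ≤ R := le_sup_right
  have := Fintype.ofFinite R
  have hRodd : Odd R.index := by
    rw [← Nat.not_even_iff_odd, even_iff_two_dvd]
    intro h
    exact P.not_dvd_index (h.trans (Subgroup.index_dvd_of_le hPR))
  have hN' : (N.subgroupOf R).Normal := inferInstance
  have hdeg : charDegree (up N θ R) = charDegree θ := by
    have h1 : up N θ R 1 = θ 1 := rfl
    apply H672.charDegree_of_eq
    rw [h1, H672.coe_charDegree hθ]
  obtain ⟨ψ, hψr, hψ⟩ := exists_real_ext (N.subgroupOf R) (perfect_subgroupOf hNR hperf)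
    (isIrr_up N hθ hNR) (fun x => hreal _) (by rw [hdeg]; exact hodd) hk
    (fun g n => hinv (g : G) ⟨((n : R) : G), Subgroup.mem_subgroupOf.1 n.2⟩)
  have hψd : charDegree (ψ : R → ℂ) = charDegree θ := by
    have h1 := hψ 1
    rw [Subgroup.coe_one] at h1
    apply H672.charDegree_of_eq
    rw [h1, ← hdeg]
    exact (H672.coe_charDegree (isIrr_up N hθ hNR)).symm
  have hchar : IsCharacter G (indFun R (ψ : R → ℂ)) :=
    CharactersDeep.IndFun.isCharacter_indFun R (Core.isIrr_isCharacter ψ.2)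
  obtain ⟨χ, hχr, hχo, m, hm, hmc⟩ := exists_real_odd (Λ := indFun R (ψ : R → ℂ))
    ⟨_, 0, hchar, Core.isCharacter_zero, by rw [sub_zero]⟩ (real_indFun _ _ hψr)
    ⟨((R.index * charDegree θ : ℕ) : ℤ), by exact_mod_cast hRodd.mul hodd, by
      rw [H612.Heredity.indFun_one R, ← charDegree_irr, hψd]
      push_cast
      ring⟩
  refine ⟨χ, hχr, hχo, ?_⟩
  have h1 : Over R.subtype (χ : G → ℂ) (ψ : R → ℂ) := by
    apply over_of_indFun R χ.2
    rw [hmc]
    intro h0
    have h2 : m = 0 := by exact_mod_cast h0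
    rw [h2] at hm
    exact absurd hm (by decide)
  refine over_of_over hNR hθ (Core.isIrr_isCharacter χ.2) ψ.2 h1 ?_
  rw [← over_subtype_of_inclusion hNR]
  have := Fintype.ofFinite (N.subgroupOf R)
  rw [over_subtype_iff]
  have h2 : (fun h : N.subgroupOf R => (ψ : R → ℂ) h) = up N θ R := funext hψ
  rw [h2, Core.classInner_irr_self (isIrr_up N hθ hNR)]
  exact one_ne_zero

/-- **A real character lies over every real character of odd degree of a perfect normal subgroup.** -/
theorem exists_real_over_odd [Finite G] (N : Subgroup G) [hN : N.Normal] (hperf : commutator N = ⊤) {θ : N → ℂ}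
    (hθ : IsIrrCharacter N θ) (hreal : ∀ n, (θ n).im = 0) (hodd : Odd (charDegree θ)) :
    ∃ χ : IrrCharacter G, (∀ g, ((χ : G → ℂ) g).im = 0) ∧ Over N.subtype (χ : G → ℂ) θ := by
  classical
  have := Fintype.ofFinite G
  have := Fintype.ofFinite N
  set T := _root_.Cfsg.Agent.H672.inertia N θ with hTd
  have hT : ∀ g : G, g ∈ T ↔ ∀ n : N, θ ⟨g * n * g⁻¹, hN.conj_mem (n : G) n.2 g⟩ = θ n := fun g => mem_inertia_iff
  have hNT : N ≤ T := le_inertia (Core.isIrr_isClassFunction hθ)
  have := Fintype.ofFinite T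
  have hN' : (N.subgroupOf T).Normal := inferInstance
  have hdeg : charDegree (up N θ T) = charDegree θ := by
    have h1 : up N θ T 1 = θ 1 := rfl
    apply H672.charDegree_of_eq
    rw [h1, H672.coe_charDegree hθ]
  obtain ⟨ψ, hψr, -, hψ⟩ := exists_real_over_of_inv (N.subgroupOf T) (perfect_subgroupOf hNT hperf)
    (isIrr_up N hθ hNT) (fun x => hreal _) (by rw [hdeg]; exact hodd)
    (fun g n => (hT g).1 g.2 ⟨((n : T) : G), Subgroup.mem_subgroupOf.1 n.2⟩)
  have := Fintype.ofFinite (N.subgroupOf T)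
  have hc : classInner (indFun (N.subgroupOf T) (fun x => θ ⟨(x : T), Subgroup.mem_subgroupOf.mp x.2⟩))
      (ψ : T → ℂ) ≠ 0 := by
    rw [CharactersDeep.NormalInd.classInner_indFun (N.subgroupOf T) _ (ψ : T → ℂ) (Core.isIrr_isClassFunction ψ.2),
      ← Core.classInner_conj_symm]
    intro h0
    rw [map_eq_zero] at h0
    exact (over_subtype_iff (N.subgroupOf T) _ _).1 hψ h0
  obtain ⟨hirr, -⟩ := Cfsg.Agent.S1489.result N T θ hθ hT hNT (ψ : T → ℂ) (ψ : T → ℂ) ψ.2 ψ.2 hc hc
  refine ⟨⟨_, hirr⟩, real_indFun _ _ hψr, ?_⟩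
  refine over_of_over hNT hθ (Core.isIrr_isCharacter hirr) ψ.2 ?_ ((over_subtype_of_inclusion hNT θ _).1 hψ)
  apply over_of_indFun T hirr
  rw [Core.classInner_irr_self hirr]
  exact one_ne_zero

end Cfsg.Agent.H579.RR
end

-- part: H579/RR/Psl2RX
section
/-!
# Real characters of degree `q ± 1` of `PSL₂(F)` with small inertia groups (S4554, helper579)

The characters of `H597.L2Char.exists_R`, `exists_X` are real.
-/

set_option autoImplicit false
set_option linter.unusedSectionVars false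

namespace Cfsg.Agent.H579.RR

open Matrix Cfsg Cfsg.Agent.Characters.Core Cfsg.Agent.H984.SLTwo Cfsg.Agent.H597.L2Char
open Cfsg.Agent.Blocks.Basic (charDegree_of_eq irr_one_eq_charDegree charDegree_pos)
open Cfsg.Agent.ClassicalGeometry.AutPSL.Root (pr pr_surjective pr_eq_one_iff)
open Cfsg.Agent.ClassicalGeometry.AutPSL.Auto (cj fld lift lift_pr coe_cj coe_fld_apply)

variable {F : Type*} [Field F] [Fintype F]

local notation "PSL" => Matrix.ProjectiveSpecialLinearGroup (Fin 2) F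
local notation "SL" => Matrix.SpecialLinearGroup (Fin 2) F
local notation "M₂" => Matrix (Fin 2) (Fin 2) F

/-- A character of degree `q + 1` with small inertia group. -/
theorem exists_R_real {p : ℕ} [Fact p.Prime] [CharP F p] {m : ℕ} (hm : 2 < m)
    (hq : Fintype.card F = 2 * m + 1) : ∃ θ : PSL → ℂ, IsIrrCharacter PSL θ ∧
      charDegree θ = 2 * m + 2 ∧ (∀ s, (θ s).im = 0) ∧ ∀ (A : GL (Fin 2) F) (σ : F ≃+* F) (i : ℕ),
        (∀ a, σ a = a ^ p ^ i) → (∀ s, θ ((lift (cj A * fld σ) : MulAut PSL) s) = θ s) →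
          m ∣ p ^ i - 1 ∨ m ∣ p ^ i + 1 := by
  classical
  have hcardu : Nat.card Fˣ = 2 * m := by
    rw [Nat.card_units, Nat.card_eq_fintype_card, hq]; omega
  obtain ⟨θ, γ, hγ, h3, h4⟩ := exists_hom (C := Fˣ) (m := m) (by omega) hcardu (z := -1) (by simp)
  set α : MulChar F ℂ := MulChar.ofUnitHom θ with hα
  have hαu : ∀ a : Fˣ, α a = θ a := fun a => by rw [hα, MulChar.ofUnitHom_coe]
  have hne : ¬ α = α⁻¹ := by
    intro h
    have h5 : θ γ ^ 2 = 1 := by
      apply Units.ext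
      have h5 : α γ = α⁻¹ γ := by rw [← h]
      rw [MulChar.inv_apply_eq_inv', hαu] at h5
      rw [sq]
      have h6 : (θ γ : ℂ) * θ γ = 1 := by
        nth_rw 2 [h5]
        exact mul_inv_cancel₀ (Units.ne_zero _)
      push_cast
      exact h6
    have h6 := Nat.le_of_dvd (by norm_num) (orderOf_dvd_of_pow_eq_one h5)
    omega
  have hirr : IsIrrCharacter SL (R α) := by
    apply isIrr_of_classInner_self (isCharacter_R α)
    rw [classInner_R_R, if_pos rfl, if_neg hne, add_zero]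
  have hα1 : α (-1) = 1 := by
    have := hαu (-1)
    rw [h3, Units.val_neg, Units.val_one] at this
    rw [this, Units.val_one]
  have hR1 : (R α : SL → ℂ) 1 = ((2 * m + 2 : ℕ) : ℂ) := by
    have h := R_upp_zero α (inv_one : (1 : Fˣ)⁻¹ = 1)
    rw [upp_one_zero, Units.val_one, map_one, hq, mul_one] at h
    rw [h]
    push_cast
    ring
  have hRz : (R α : SL → ℂ) z0 = ((2 * m + 2 : ℕ) : ℂ) := by
    have h := R_upp_zero α (neg_one_inv (F := F))
    rw [Units.val_neg, Units.val_one, hα1, hq, mul_one] at h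
    rw [show (z0 : SL) = upp (-1) 0 from rfl, h]
    push_cast
    ring
  obtain ⟨χ, hχ, hχR⟩ := exists_descent hirr (hRz.trans hR1.symm)
  refine ⟨χ, hχ, ?_, ?_, ?_⟩
  · apply charDegree_of_eq
    rw [← hR1, ← hχR 1, map_one]
  · refine im_of_inv hχ fun s => ?_
    obtain ⟨g, rfl⟩ := pr_surjective s
    rw [← map_inv, hχR, hχR]
    exact real_of_upp (isIrr_isClassFunction hirr) (fun u hu b c hb hc => by
      rw [R_upp_ne α hu hb, R_upp_ne α hu hc]) g
  · intro A σ i hσ hinv
    have hp : 0 < p ^ i := pow_pos (Fact.out : p.Prime).pos _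
    have hinvne : ∀ u : Fˣ, tr ((upp u 0 : SL) : M₂) ^ 2 ≠ 4 → u⁻¹ ≠ u := by
      intro u hu h
      apply hu
      rw [tr_upp h, mul_pow]
      have h5 : (u : F) * u = 1 := by
        have := mul_inv_cancel u
        rw [h] at this
        rw [← Units.val_mul, this, Units.val_one]
      rw [sq (u : F), h5]
      norm_num
    have hγ1 : γ⁻¹ ≠ γ := by
      intro h
      have h5 : γ ^ 2 = 1 := by
        rw [sq]
        nth_rw 1 [← h]
        rw [inv_mul_cancel]
      have h6 : orderOf γ = 2 * m := by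
        rw [← hcardu]
        exact orderOf_eq_card_of_forall_mem_zpowers hγ
      have h7 := Nat.le_of_dvd (by norm_num) (orderOf_dvd_of_pow_eq_one h5)
      omega
    have htr : tr ((upp γ 0 : SL) : M₂) ^ 2 ≠ 4 := by
      intro h
      unfold tr at h
      rw [coe_upp] at h
      simp only [Matrix.of_apply, Matrix.cons_val', Matrix.cons_val_zero,
        Matrix.cons_val_one, Matrix.cons_val_fin_one] at h
      apply hγ1
      apply Units.ext
      have h5 : (γ : F) * ((γ⁻¹ : Fˣ) : F) = 1 := by rw [← Units.val_mul, mul_inv_cancel, Units.val_one]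
      have h6 : (((γ⁻¹ : Fˣ) : F) - γ) ^ 2 = 0 := by linear_combination h - 4 * h5
      exact sub_eq_zero.1 (pow_eq_zero_iff (two_ne_zero)|>.1 h6)
    have hpow : (upp γ 0 : SL) ^ p ^ i = upp (γ ^ p ^ i) 0 := by
      have hk : ∀ k : ℕ, (upp γ 0 : SL) ^ k = upp (γ ^ k) 0 := by
        intro k
        induction k with
        | zero => rw [pow_zero, pow_zero, upp_one_zero]
        | succ k ih =>
          rw [pow_succ, ih, pow_succ]
          apply Matrix.SpecialLinearGroup.ext
          intro i j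
          rw [Matrix.SpecialLinearGroup.coe_mul, coe_upp, coe_upp, coe_upp]
          (revert i j; simp only [Matrix.mul_apply, mul_comm, _root_.Fin.forall_fin_succ, _root_.Units.val_pow_eq_pow_val, _root_.Units.val_inv_eq_inv_val, _root_.Matrix.of_apply, _root_.Matrix.cons_val', _root_.Matrix.cons_val_fin_one, _root_.Fin.sum_univ_two, Fin.isValue, _root_.Matrix.cons_val_zero, _root_.Matrix.cons_val_one, _root_.Units.val_mul, _root_.mul_inv_rev, _root_.MulZeroClass.zero_mul, _root_.add_zero, _root_.Matrix.cons_val_succ, _root_.zero_add, _root_.forall_const, _root_.MulZeroClass.mul_zero, _root_.and_self, _root_.implies_true])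
      exact hk _
    have h6 := _root_.Cfsg.Agent.H597.L2Char.inv_pow hσ (isIrr_isClassFunction hχ) hinv htr
    have h7 : (γ ^ p ^ i)⁻¹ ≠ γ ^ p ^ i := by
      apply hinvne
      rw [← hpow, tr_pow, ← hσ, ← map_pow, ← map_ofNat σ 4]
      exact fun h => htr (σ.injective h)
    rw [hχR, hχR, hpow, R_upp_split α h7, R_upp_split α hγ1, hαu, hαu, hαu, hαu, map_inv, map_inv,
      map_pow] at h6
    exact dvd_of_add_inv hp h4 h6

/-- A character of degree `q - 1` with small inertia group. -/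
theorem exists_X_real {p : ℕ} [Fact p.Prime] [CharP F p] {m : ℕ} (hm : 2 ≤ m)
    (hq : Fintype.card F = 2 * m + 1) : ∃ θ : PSL → ℂ, IsIrrCharacter PSL θ ∧
      charDegree θ = 2 * m ∧ (∀ s, (θ s).im = 0) ∧ ∀ (A : GL (Fin 2) F) (σ : F ≃+* F) (i : ℕ),
        (∀ a, σ a = a ^ p ^ i) → (∀ s, θ ((lift (cj A * fld σ) : MulAut PSL) s) = θ s) →
          m + 1 ∣ p ^ i - 1 ∨ m + 1 ∣ p ^ i + 1 := by
  classical
  have h2 : ringChar F ≠ 2 := ringChar_ne_two_of_odd (by rw [hq]; exact ⟨m, rfl⟩)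
  obtain ⟨g, hg⟩ := exists_ell (F := F)
  have : IsCyclic (Subgroup.centralizer ({g} : Set SL)) := isCyclic_cent g hg
  have hcardC : Nat.card (Subgroup.centralizer ({g} : Set SL)) = 2 * (m + 1) := by
    rw [card_cent_ell g hg, hq]; ring
  obtain ⟨θ, γ, hγ, h3, h4⟩ := exists_hom (C := Subgroup.centralizer ({g} : Set SL)) (m := m + 1)
    (by omega) hcardC (z := ⟨z0, z0_mem g⟩) (Subtype.ext z0_mul_self)
  have hone : (1 : MulChar F ℂ) (-1) = 1 := MulChar.one_apply (IsUnit.neg isUnit_one)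
  have hpar : (1 : MulChar F ℂ) (-1) = (θ ⟨z0, z0_mem g⟩ : ℂ) := by
    rw [h3, Units.val_one]; exact hone
  have hθ2 : θ ^ 2 ≠ 1 := by
    intro h
    have h5 : θ γ ^ 2 = 1 := by
      rw [← MonoidHom.pow_apply, h, MonoidHom.one_apply]
    have h6 := Nat.le_of_dvd (by norm_num) (orderOf_dvd_of_pow_eq_one h5)
    omega
  have hirr := isIrr_X h2 hg hpar hθ2
  have hX1 : (X θ (1 : MulChar F ℂ) : SL → ℂ) 1 = ((2 * m : ℕ) : ℂ) := by
    rw [X_one hg, hq]; push_cast; ring
  have hXz : (X θ (1 : MulChar F ℂ) : SL → ℂ) z0 = ((2 * m : ℕ) : ℂ) := by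
    rw [X_z0 hg hpar, hone, hq]; push_cast; ring
  obtain ⟨χ, hχ, hχX⟩ := exists_descent hirr (hXz.trans hX1.symm)
  refine ⟨χ, hχ, ?_, ?_, ?_⟩
  · apply charDegree_of_eq
    rw [← hX1, ← hχX 1, map_one]
  · refine im_of_inv hχ fun s => ?_
    obtain ⟨g, rfl⟩ := pr_surjective s
    rw [← map_inv, hχX, hχX]
    exact real_of_upp (isIrr_isClassFunction hirr) (fun u hu b c hb hc => by
      rw [X_upp_ne hg θ 1 hu hb, X_upp_ne hg θ 1 hu hc]) g
  · intro A σ i hσ hinv
    have hp : 0 < p ^ i := pow_pos (Fact.out : p.Prime).pos _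
    have hNS : NS ((γ : SL) : M₂) := by
      by_contra hn
      have h5 := comm_of_not_NS hn
      -- then `g` is central
      obtain ⟨k, hk⟩ := Subgroup.mem_zpowers_iff.1 (hγ ⟨g, self_mem_cent g⟩)
      have h6 : (γ : SL) ^ k = g := congrArg Subtype.val hk
      have h7 : (γ : SL) ∈ Subgroup.center SL := by
        rw [Subgroup.mem_center_iff]
        intro x
        have := h5 x
        rw [mul_assoc, inv_mul_eq_iff_eq_mul] at this
        exact this.symm
      have h8 : g ∈ Subgroup.center SL := by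
        rw [← h6]
        exact Subgroup.zpow_mem _ h7 _
      exact not_NS_of_mem_center h8 hg.NS
    have hEll : Ell ((γ : SL) : M₂) := ell_of_mem_cent hg γ.2 hNS
    have htr : tr ((γ : SL) : M₂) ^ 2 ≠ 4 := hEll.tr_ne.resolve_right h2
    have h6 := _root_.Cfsg.Agent.H597.L2Char.inv_pow hσ (isIrr_isClassFunction hχ) hinv htr
    have h7 : NS (((γ : SL) ^ p ^ i : SL) : M₂) := by
      apply NS_of_tr
      rw [tr_pow, ← hσ, ← map_pow, ← map_ofNat σ 4]
      exact fun h => htr (σ.injective h)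
    have h7' : X θ (1 : MulChar F ℂ) ((γ : SL) ^ p ^ i) =
        -((θ (γ ^ p ^ i) : ℂ) + (((θ (γ ^ p ^ i))⁻¹ : ℂˣ) : ℂ)) :=
      X_ell hg θ 1 (γ ^ p ^ i).2 h7
    have h8' : X θ (1 : MulChar F ℂ) (γ : SL) = -((θ γ : ℂ) + (((θ γ)⁻¹ : ℂˣ) : ℂ)) :=
      X_ell hg θ 1 γ.2 hNS
    rw [hχX, hχX, h8', h7', neg_inj, map_pow] at h6
    exact dvd_of_add_inv hp h4 h6

end Cfsg.Agent.H579.RR
end

-- part: H579/RR/Psl2Stab
section
/-!
# Real characters over real characters of `PSL₂(F)` (S4554, helper579)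

* `rd_of_over` : the degree of a real character over a nonlinear character of `N`;
* `real_ker` : the elements of `PGL₂` are real;
* `exists_real_psl` : no element of the stabiliser of `θ` has a field part of order two: a real character over `θ`.
-/

set_option autoImplicit false
set_option linter.unusedSectionVars false

namespace Cfsg.Agent.H579.RR

open Matrix Cfsg Cfsg.Agent.Characters Cfsg.Agent.H619.R4 Cfsg.Agent.H686.CharKit
open Cfsg.Agent.H672 (Over inertia over_iff over_comp_iff over_subtype_iff mem_inertia_iff le_inertia)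
open Cfsg.Agent.H597.L2Row Cfsg.Agent.H597.L2Cliff
open scoped ComplexConjugate

universe u

theorem odd_relIndex {G : Type*} [Group G] [Finite G] (N T : Subgroup G) [N.Normal]
    (h : ∀ g ∈ T, g * g ∈ N → g ∈ N) : Odd (N.relIndex T) := by
  rw [← Nat.not_even_iff_odd]
  intro he
  have : Fact (Nat.Prime 2) := ⟨Nat.prime_two⟩
  have h1 : 2 ∣ Nat.card (T ⧸ N.subgroupOf T) := by
    rw [← Subgroup.index_eq_card]
    exact he.two_dvd
  obtain ⟨x, hx⟩ := exists_prime_orderOf_dvd_card' 2 h1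
  induction x using QuotientGroup.induction_on with
  | H t =>
  have h2 : (t : T ⧸ N.subgroupOf T) * t = 1 := by
    have := pow_orderOf_eq_one (t : T ⧸ N.subgroupOf T)
    rwa [hx, pow_two] at this
  rw [← QuotientGroup.mk_mul, QuotientGroup.eq_one_iff, Subgroup.mem_subgroupOf] at h2
  have h3 : (t : T ⧸ N.subgroupOf T) = 1 := by
    rw [QuotientGroup.eq_one_iff, Subgroup.mem_subgroupOf]
    exact h t t.2 h2
  rw [h3, orderOf_one] at hx
  omega

theorem rd_of_over {G : Type u} [Group G] [Finite G] (N : Subgroup G) [N.Normal] {φ : N → ℂ}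
    (hφ : IsIrrCharacter N φ) (h1 : charDegree φ ≠ 1) {χ : IrrCharacter G} (hr : ∀ g, ((χ : G → ℂ) g).im = 0)
    (h : Over N.subtype (χ : G → ℂ) φ) : ∃ c, 0 < c ∧ c ∣ N.index ∧ RD G N (charDegree φ * c) := by
  classical
  have := Fintype.ofFinite G
  have := Fintype.ofFinite N
  have h' := (over_subtype_iff N (χ : G → ℂ) φ).1 h
  obtain ⟨c, hc, hci⟩ := H597.Degrees.degree_over N χ.2 hφ h'
  refine ⟨c, ?_, hci, χ, hr, ?_, hc⟩
  · rcases Nat.eq_zero_or_pos c with h0 | h0
    · rw [h0, mul_zero] at hc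
      have := H672.charDegree_pos χ.2
      omega
    · exact h0
  · by_contra hcon
    push Not at hcon
    have h2 : (fun n : N => (χ : G → ℂ) n) = (χ : G → ℂ) 1 • (1 : N → ℂ) := by
      funext n
      rw [hcon n n.2]
      simp
    apply h'
    rw [h2, Core.classInner_smul_left, Core.classInner_irr_ne Core.isIrr_one hφ, mul_zero]
    intro h3
    apply h1
    rw [← h3]
    exact H672.charDegree_of_eq (by simp)

section gl

variable {F : Type*} [Field F]

theorem exists_adj_conj (A : GL (Fin 2) F) : ∃ (B Z : GL (Fin 2) F),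
    B * A * B⁻¹ * A = Z ∧ ∀ C : GL (Fin 2) F, Z * C = C * Z := by
  obtain ⟨B, hB⟩ : ∃ B : GL (Fin 2) F, (B : Matrix (Fin 2) (Fin 2) F) * (A : Matrix (Fin 2) (Fin 2) F) =
      (A : Matrix (Fin 2) (Fin 2) F).adjugate * B := by
    have hmk : ∀ M : Matrix (Fin 2) (Fin 2) F, M.det ≠ 0 → M * (A : Matrix (Fin 2) (Fin 2) F) =
        (A : Matrix (Fin 2) (Fin 2) F).adjugate * M → ∃ B : GL (Fin 2) F,
        (B : Matrix (Fin 2) (Fin 2) F) * (A : Matrix (Fin 2) (Fin 2) F) =
          (A : Matrix (Fin 2) (Fin 2) F).adjugate * B := by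
      intro M hM h
      exact ⟨Matrix.GeneralLinearGroup.mkOfDetNeZero M hM, h⟩
    by_cases hc : (A : Matrix (Fin 2) (Fin 2) F) 1 0 = 0
    · by_cases hb : (A : Matrix (Fin 2) (Fin 2) F) 0 1 = 0
      · refine hmk !![0, 1; 1, 0] (by simp [Matrix.det_fin_two_of]) ?_
        rw [Matrix.adjugate_fin_two]
        ext i j
        (revert i j; simp only [Matrix.mul_apply, Fin.sum_univ_two, hc, hb, _root_.Fin.forall_fin_succ, _root_.Matrix.of_apply, _root_.Matrix.cons_val', _root_.Matrix.cons_val_fin_one, Fin.isValue, _root_.Matrix.cons_val_zero, _root_.Matrix.cons_val_one, _root_.neg_zero, _root_.MulZeroClass.mul_zero, _root_.add_zero, _root_.mul_one, _root_.zero_add, _root_.Matrix.cons_val_succ, _root_.Fin.succ_zero_eq_one, _root_.IsEmpty.forall_iff, _root_.and_true, _root_.MulZeroClass.zero_mul, _root_.one_mul, _root_.and_self, _root_.implies_true])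
      · refine hmk !![(A : Matrix (Fin 2) (Fin 2) F) 0 1, 0;
          (A : Matrix (Fin 2) (Fin 2) F) 1 1 - (A : Matrix (Fin 2) (Fin 2) F) 0 0,
          -(A : Matrix (Fin 2) (Fin 2) F) 0 1] ?_ ?_
        · rw [Matrix.det_fin_two_of]
          have : (A : Matrix (Fin 2) (Fin 2) F) 0 1 * -(A : Matrix (Fin 2) (Fin 2) F) 0 1 -
            0 * ((A : Matrix (Fin 2) (Fin 2) F) 1 1 - (A : Matrix (Fin 2) (Fin 2) F) 0 0) =
            -((A : Matrix (Fin 2) (Fin 2) F) 0 1 * (A : Matrix (Fin 2) (Fin 2) F) 0 1) := by ring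
          rw [this]
          exact neg_ne_zero.2 (mul_ne_zero hb hb)
        · rw [Matrix.adjugate_fin_two]
          ext i j
          (revert i j; simp only [Matrix.mul_apply, Fin.sum_univ_two, hc, _root_.Fin.forall_fin_succ, Fin.isValue, _root_.Matrix.of_apply, _root_.Matrix.cons_val', _root_.Matrix.cons_val_fin_one, _root_.Matrix.cons_val_zero, _root_.Matrix.cons_val_one, _root_.neg_zero, _root_.MulZeroClass.mul_zero, _root_.add_zero, _root_.Matrix.cons_val_succ, _root_.mul_neg, _root_.zero_add, _root_.Fin.succ_zero_eq_one, _root_.IsEmpty.forall_iff, _root_.and_true, _root_.neg_mul, _root_.MulZeroClass.zero_mul, _root_.neg_neg, _root_.forall_const]) <;> (repeat' with_reducible apply And.intro) <;> ring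
    · refine hmk !![(A : Matrix (Fin 2) (Fin 2) F) 1 0,
          (A : Matrix (Fin 2) (Fin 2) F) 1 1 - (A : Matrix (Fin 2) (Fin 2) F) 0 0; 0,
          -(A : Matrix (Fin 2) (Fin 2) F) 1 0] ?_ ?_
      · rw [Matrix.det_fin_two_of]
        have : (A : Matrix (Fin 2) (Fin 2) F) 1 0 * -(A : Matrix (Fin 2) (Fin 2) F) 1 0 -
          ((A : Matrix (Fin 2) (Fin 2) F) 1 1 - (A : Matrix (Fin 2) (Fin 2) F) 0 0) * 0 =
          -((A : Matrix (Fin 2) (Fin 2) F) 1 0 * (A : Matrix (Fin 2) (Fin 2) F) 1 0) := by ring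
        rw [this]
        exact neg_ne_zero.2 (mul_ne_zero hc hc)
      · rw [Matrix.adjugate_fin_two]
        ext i j
        (revert i j; simp only [Matrix.mul_apply, Fin.sum_univ_two, _root_.Fin.forall_fin_succ, Fin.isValue, _root_.Matrix.of_apply, _root_.Matrix.cons_val', _root_.Matrix.cons_val_fin_one, _root_.Matrix.cons_val_zero, _root_.Matrix.cons_val_one, _root_.MulZeroClass.mul_zero, _root_.add_zero, _root_.Matrix.cons_val_succ, _root_.mul_neg, _root_.Fin.succ_zero_eq_one, _root_.IsEmpty.forall_iff, _root_.and_true, _root_.neg_mul, _root_.neg_neg, _root_.MulZeroClass.zero_mul, _root_.zero_add, _root_.true_and, _root_.forall_const]) <;> (repeat' with_reducible apply And.intro) <;> ring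
  refine ⟨B, _, rfl, fun C => ?_⟩
  have h1 : ((B * A * B⁻¹ * A : GL (Fin 2) F) : Matrix (Fin 2) (Fin 2) F) =
      (A : Matrix (Fin 2) (Fin 2) F).det • (1 : Matrix (Fin 2) (Fin 2) F) := by
    rw [Units.val_mul, Units.val_mul, Units.val_mul, hB, Matrix.mul_assoc (A : Matrix (Fin 2) (Fin 2) F).adjugate,
      Units.mul_inv, Matrix.mul_one, Matrix.adjugate_mul]
  apply Units.ext
  rw [Units.val_mul (B * A * B⁻¹ * A) C, Units.val_mul C (B * A * B⁻¹ * A), h1, Matrix.smul_mul, Matrix.mul_smul,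
    Matrix.one_mul, Matrix.mul_one]

end gl

section setup

variable {G : Type u} [Group G] (M : Subgroup G) [hM : M.Normal] {F : Type} [Field F] [Fintype F]

local notation "PSL" => Matrix.ProjectiveSpecialLinearGroup (Fin 2) F
local notation "SL" => Matrix.SpecialLinearGroup (Fin 2) F
local notation "M₂" => Matrix (Fin 2) (Fin 2) F

variable (e : M ≃* Matrix.ProjectiveSpecialLinearGroup (Fin 2) F)

variable (hc : Subgroup.centralizer (M : Set G) = ⊥)

include hc in
/-- **The elements of the kernel of the field part are real**, if it is bigger than `M`. -/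
theorem real_ker (hne : ∃ k : G, ff M e k = 1 ∧ k ∉ M) (k : (ff M e).ker) :
    ∃ x : (ff M e).ker, x * k * x⁻¹ = k⁻¹ := by
  obtain ⟨k0, hk0, hk0M⟩ := hne
  obtain ⟨π, hπ⟩ := exists_GL_surj M e hc (ff M e).ker (le_ker M e) (fun h hh => hh) ⟨k0, hk0, hk0M⟩
  obtain ⟨A, rfl⟩ := hπ k
  obtain ⟨B, Z, h1, h2⟩ := exists_adj_conj A
  have h3 : π Z = 1 := by
    have h4 : ((π Z : (ff M e).ker) : G) ∈ Subgroup.centralizer (M : Set G) := by
      rw [Subgroup.mem_centralizer_iff]
      intro m hm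
      obtain ⟨C, hC⟩ := hπ ⟨m, le_ker M e hm⟩
      have h5 : π Z * π C = π C * π Z := by rw [← map_mul, h2, map_mul]
      rw [hC] at h5
      exact (congrArg Subtype.val h5).symm
    rw [hc] at h4
    exact Subtype.ext (Subgroup.mem_bot.1 h4)
  refine ⟨π B, ?_⟩
  rw [eq_inv_iff_mul_eq_one, ← map_inv, ← map_mul, ← map_mul, ← map_mul, h1, h3]

include hc in
/-- **Real characters over a real character whose stabiliser contains no involutory field part.** -/
theorem exists_real_psl [Finite G] {θ : PSL → ℂ} (hθ : IsIrrCharacter PSL θ) (hreal : ∀ s, (θ s).im = 0)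
    (hσ : ∀ g ∈ St M e θ, ff M e g * ff M e g = 1 → ff M e g = 1) :
    ∃ χ : IrrCharacter G, (∀ g, ((χ : G → ℂ) g).im = 0) ∧ Over M.subtype (χ : G → ℂ) (θ ∘ e) := by
  classical
  have := Fintype.ofFinite G
  have := Fintype.ofFinite M
  have hθe := isIrr_e M e hθ
  by_cases hK : ∀ g : G, ff M e g = 1 → g ∈ M
  · obtain ⟨χ, hr, hχ⟩ := exists_real_of_odd_stab M hθe (fun n => hreal _) (St M e θ)
      (fun g => mem_St' M e) (odd_relIndex M (St M e θ) fun g hg hgg => by
        apply hK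
        apply hσ g hg
        rw [← map_mul]
        exact ff_mem M e hgg)
    exact ⟨χ, hr, (over_subtype_iff M _ _).2 hχ⟩
  · push Not at hK
    set K := (ff M e).ker with hKd
    have hMK : M ≤ K := le_ker M e
    have := Fintype.ofFinite K
    have := Fintype.ofFinite (M.subgroupOf K)
    have hn : (M.subgroupOf K).Normal := inferInstance
    -- a character of `K` over `θ`
    obtain ⟨ψ, hψ, hov⟩ := H672.exists_over_subtype (M.subgroupOf K) (isIrr_up M hθe hMK)
    have hψr : ∀ k : K, (ψ k).im = 0 := by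
      refine im_of_inv hψ fun k => ?_
      obtain ⟨x, hx⟩ := real_ker M e hc hK k
      rw [← hx]
      exact Core.isIrr_isClassFunction hψ k x
    -- the inertia group
    have hodd : Odd (K.relIndex (_root_.Cfsg.Agent.H672.inertia K ψ)) := by
      refine odd_relIndex K _ fun g hg hgg => ?_
      rw [mem_inertia_iff] at hg
      by_contra hgK
      -- Clifford
      have hov' : classInner (fun n : M.subgroupOf K => ψ n) (up M (θ ∘ e) K) ≠ 0 :=
        (over_subtype_iff _ _ _).1 hov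
      let γ : M.subgroupOf K ≃* M := Subgroup.subgroupOfEquivOfLe hMK
      let α : M.subgroupOf K ≃* M.subgroupOf K := (γ.trans (MulAut.conjNormal g : MulAut M)).trans γ.symm
      have hα : ∀ x, ((α x : M.subgroupOf K) : K) = ⟨g * ((x : K) : G) * g⁻¹, by
          have hKn : K.Normal := MonoidHom.normal_ker _
          exact hKn.conj_mem _ (x : K).2 g⟩ := by
        intro x
        apply Subtype.ext
        show (((γ.symm ((MulAut.conjNormal g : MulAut M) (γ x)) : M.subgroupOf K) : K) : G) = _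
        have h5 : ∀ m : M, (((γ.symm m : M.subgroupOf K) : K) : G) = m := fun m => rfl
        rw [h5, MulAut.conjNormal_apply]
        rfl
      have hβ : IsIrrCharacter (M.subgroupOf K) (up M (θ ∘ e) K ∘ α) :=
        Core.isIrr_comp (α : M.subgroupOf K →* M.subgroupOf K) α.surjective (isIrr_up M hθe hMK)
      have hov2 : classInner (fun n : M.subgroupOf K => ψ n) (up M (θ ∘ e) K ∘ α) ≠ 0 := by
        have h6 : (fun n : M.subgroupOf K => ψ n) = (fun n : M.subgroupOf K => ψ n) ∘ α := by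
          funext x
          show ψ x = ψ (α x)
          rw [hα]
          exact (hg (x : K)).symm
        rw [h6, Clifford.classInner_comp_mulEquiv α (fun n : M.subgroupOf K => ψ n) (up M (θ ∘ e) K)]
        exact hov'
      obtain ⟨k, hk⟩ := Clifford.exists_conj_of_constituents (M.subgroupOf K) hψ (isIrr_up M hθe hMK) hβ hov' hov2
      have hffk : ff M e (g * (k : G)⁻¹) = ff M e g := by
        rw [map_mul, map_inv, MonoidHom.mem_ker.1 k.2, inv_one, mul_one]
      have hSt : g * (k : G)⁻¹ ∈ St M e θ := by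
        rw [mem_St' M e]
        intro n
        obtain ⟨m, hm⟩ : ∃ m : M, (MulAut.conjNormal (k : G) : MulAut M) m = n :=
          (MulAut.conjNormal (k : G) : MulAut M).surjective n
        have h7 := congrFun hk (γ.symm m)
        have h8 : (θ ∘ e) ((MulAut.conjNormal g : MulAut M) m) = (θ ∘ e) ((MulAut.conjNormal (k : G) : MulAut M) m) := h7
        rw [hm] at h8
        rw [← h8]
        congr 1
        apply Subtype.ext
        have h9 : (n : G) = k * m * (k : G)⁻¹ := by
          rw [← hm, MulAut.conjNormal_apply]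
        show g * (k : G)⁻¹ * n * (g * (k : G)⁻¹)⁻¹ = ((MulAut.conjNormal g : MulAut M) m : G)
        rw [MulAut.conjNormal_apply, h9]
        group
      have h10 : ff M e g * ff M e g = 1 := by
        rw [← map_mul]
        exact hgg
      have h11 := hσ _ hSt (by rw [hffk]; exact h10)
      rw [hffk] at h11
      exact hgK h11
    obtain ⟨χ, hr, hχ⟩ := exists_real_of_odd_stab K hψ hψr (_root_.Cfsg.Agent.H672.inertia K ψ) (fun g => mem_inertia_iff) hodd
    exact ⟨χ, hr, over_of_over hMK hθe (Core.isIrr_isCharacter χ.2) hψ ((over_subtype_iff K _ _).2 hχ)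
      ((over_subtype_of_inclusion hMK _ _).1 hov)⟩

end setup

end Cfsg.Agent.H579.RR
end

-- part: H579/RR/Psl2Row
section
/-!
# The groups with socle `PSL₂(q)` (S4554, helper579)

* `rd_lie` : the Steinberg character of a group with socle of Lie type;
* `row_psl2` : three real degrees.
-/

set_option autoImplicit false
set_option linter.unusedSectionVars false

namespace Cfsg.Agent.H579.RR

open Matrix Cfsg Cfsg.Agent.Characters Cfsg.Agent.H619.R4 Cfsg.Agent.H686.CharKit
open Cfsg.Agent.H672 (Over inertia over_iff over_comp_iff over_subtype_iff mem_inertia_iff le_inertia)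
open Cfsg.Agent.H597.L2Row Cfsg.Agent.H597.L2Cliff Cfsg.Agent.H597.L2Aut
open Cfsg.Agent.H984.SLTwo Cfsg.Agent.H597.L2Char
open Cfsg.Agent.Blocks.Basic (charDegree_of_eq irr_one_eq_charDegree charDegree_pos)
open scoped ComplexConjugate commutatorElement

universe u

/-- **The Steinberg character of a group with socle of Lie type.** -/
theorem rd_lie {G : Type u} [Group G] [Finite G] (N : Subgroup G) [N.Normal] [IsSimpleGroup N] {p : ℕ}
    (hp : p.Prime) (h : IsLieTypeChar p N) (hpN : p ∣ Nat.card N) : RD G N (p ^ (Nat.card N).factorization p) := by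
  have : Fact p.Prime := ⟨hp⟩
  exact H685.R4.rd_steinberg N (H979.LieSplit.hasSplit_of_isLieTypeChar hp h) hpN

section

variable {F : Type} [Field F] [Fintype F]

local notation "PSL" => Matrix.ProjectiveSpecialLinearGroup (Fin 2) F
local notation "SL" => Matrix.SpecialLinearGroup (Fin 2) F

theorem fact_psl {p : ℕ} [hpp : Fact p.Prime] [hp : CharP F p] :
    p ^ (Nat.card PSL).factorization p = Fintype.card F := by
  obtain ⟨n, -, hn⟩ := FiniteField.card F p
  have h1 := Cfsg.Agent.ClassicalGeometry.PSL2Basic.card_PSL2_gcd (F := F)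
  have hpq : p ∣ Fintype.card F := by
    rw [hn]; exact dvd_pow_self p n.ne_zero
  have hcop1 : ¬ p ∣ Fintype.card F ^ 2 - 1 := by
    intro h
    have h2 : p ∣ Fintype.card F ^ 2 := (hpq.trans (dvd_pow_self _ two_ne_zero))
    have h3 : 1 ≤ Fintype.card F ^ 2 := Nat.one_le_pow _ _ Fintype.card_pos
    have h4 := (Nat.dvd_sub_iff_right h3 h2).1 h
    exact hpp.out.one_lt.ne' (Nat.dvd_one.1 h4)
  have hcop2 : ¬ p ∣ Nat.gcd 2 (Fintype.card F - 1) := by
    intro h
    have h2 : p ∣ Fintype.card F - 1 := h.trans (Nat.gcd_dvd_right _ _)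
    have h4 := (Nat.dvd_sub_iff_right Fintype.card_pos hpq).1 h2
    exact hpp.out.one_lt.ne' (Nat.dvd_one.1 h4)
  have h5 := congrArg (fun x : ℕ => x.factorization p) h1
  beta_reduce at h5
  have hne1 : Nat.gcd 2 (Fintype.card F - 1) ≠ 0 := fun h => hcop2 (h ▸ dvd_zero p)
  have hne2 : Fintype.card F ^ 2 - 1 ≠ 0 := fun h => hcop1 (h ▸ dvd_zero p)
  rw [Nat.factorization_mul Nat.card_pos.ne' hne1, Nat.factorization_mul Fintype.card_ne_zero hne2,
    Finsupp.add_apply, Finsupp.add_apply, Nat.factorization_eq_zero_of_not_dvd hcop2,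
    Nat.factorization_eq_zero_of_not_dvd hcop1, add_zero, add_zero, hn,
    Nat.Prime.factorization_pow hpp.out, Finsupp.single_eq_same] at h5
  rw [h5, hn]

variable {G : Type u} [Group G] [Finite G] (M : Subgroup G) [hM : M.Normal]

theorem rd_st (hF : 4 ≤ Fintype.card F) (e : M ≃* PSL) : RD G M (Fintype.card F) := by
  obtain ⟨p, hp⟩ := CharP.exists F
  have hpp : Fact p.Prime := ⟨CharP.char_is_prime F p⟩
  have hsimple : IsSimpleGroup PSL := Cfsg.Agent.TwoFusion.SLTwoFacts.isSimpleGroup_psl hF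
  have hsM : IsSimpleGroup M := (MulEquiv.isSimpleGroup_congr e).2 hsimple
  have h1 : Nat.card M = Nat.card PSL := Nat.card_congr e.toEquiv
  have h2 : p ^ (Nat.card M).factorization p = Fintype.card F := by rw [h1, fact_psl]
  have h3 : p ∣ Nat.card M := by
    by_contra hcon
    rw [Nat.factorization_eq_zero_of_not_dvd hcon, pow_zero] at h2
    omega
  have h4 := rd_lie M hpp.out (Or.inl ⟨F, inferInstance, inferInstance, hp, 2, le_refl 2, fun _ => hF, ⟨e⟩⟩) h3
  rwa [h2] at h4

theorem perfect_psl (hF : 4 ≤ Fintype.card F) (e : M ≃* PSL) : commutator M = ⊤ := by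
  have hsimple : IsSimpleGroup PSL := Cfsg.Agent.TwoFusion.SLTwoFacts.isSimpleGroup_psl hF
  have hsM : IsSimpleGroup M := (MulEquiv.isSimpleGroup_congr e).2 hsimple
  rcases IsSimpleGroup.eq_bot_or_eq_top_of_normal (commutator M) inferInstance with h | h
  · exfalso
    have hcc : ∀ a b : PSL, a * b = b * a := by
      intro a b
      obtain ⟨a, rfl⟩ := e.surjective a
      obtain ⟨b, rfl⟩ := e.surjective b
      have h1 : ⁅a, b⁆ ∈ commutator M :=
        Subgroup.commutator_mem_commutator (Subgroup.mem_top a) (Subgroup.mem_top b)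
      rw [h, Subgroup.mem_bot, commutatorElement_eq_one_iff_mul_comm] at h1
      rw [← map_mul, h1, map_mul]
    have h1 : (Nat.card PSL).Prime := by
      let _ : CommGroup PSL := { (inferInstance : Group PSL) with mul_comm := hcc }
      exact IsSimpleGroup.prime_card
    exact Cfsg.Agent.ClassicalGeometry.PSL2Solvable.not_prime_card F hF h1
  · exact h

/-- the odd degrees -/
theorem rd_odd_psl (hF : 4 ≤ Fintype.card F) (e : M ≃* PSL) {θ : PSL → ℂ} (hθ : IsIrrCharacter PSL θ)
    (hreal : ∀ s, (θ s).im = 0) (hodd : Odd (charDegree θ)) (h1 : charDegree θ ≠ 1) :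
    ∃ c, 0 < c ∧ c ∣ M.index ∧ RD G M (charDegree θ * c) := by
  obtain ⟨χ, hr, hov⟩ := exists_real_over_odd M (perfect_psl M hF e) (isIrr_e M e hθ) (fun n => hreal _)
    (by rw [deg_e]; exact hodd)
  have h2 := rd_of_over M (isIrr_e M e hθ) (by rw [deg_e]; exact h1) hr hov
  rwa [deg_e] at h2

variable (hc : Subgroup.centralizer (M : Set G) = ⊥)

/-- the other degrees -/
theorem rd_even_psl (e : M ≃* PSL) (hc : Subgroup.centralizer (M : Set G) = ⊥) {θ : PSL → ℂ}
    (hθ : IsIrrCharacter PSL θ)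
    (hreal : ∀ s, (θ s).im = 0) (h1 : charDegree θ ≠ 1)
    (hσ : ∀ g ∈ St M e θ, ff M e g * ff M e g = 1 → ff M e g = 1) :
    ∃ c, 0 < c ∧ c ∣ M.index ∧ RD G M (charDegree θ * c) := by
  obtain ⟨χ, hr, hov⟩ := exists_real_psl M e hc hθ hreal hσ
  have h2 := rd_of_over M (isIrr_e M e hθ) (by rw [deg_e]; exact h1) hr hov
  rwa [deg_e] at h2

theorem pow_bound {p a : ℕ} (hp : 3 ≤ p) (h4 : 4 < p ^ a) : 4 * a < p ^ a := by
  rcases Nat.lt_or_ge a 2 with h2 | h2
  · have : 4 * a ≤ 4 := by omega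
    omega
  · have key : ∀ b : ℕ, 4 * (2 + b) < 3 ^ (2 + b) := by
      intro b
      induction b with
      | zero => norm_num
      | succ b ih =>
        rw [show 2 + (b + 1) = (2 + b) + 1 by ring, pow_succ]
        omega
    obtain ⟨b, hb⟩ := Nat.exists_eq_add_of_le h2
    have h5 := key b
    rw [← hb] at h5
    have h6 : 3 ^ a ≤ p ^ a := Nat.pow_le_pow_left hp a
    omega

/-- `q` even -/
theorem r3_even (hF : 4 ≤ Fintype.card F) (e : M ≃* PSL) (hc : Subgroup.centralizer (M : Set G) = ⊥)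
    (h2 : ringChar F = 2) : R3 G M := by
  classical
  have hcp : CharP F 2 := h2 ▸ ringChar.charP F
  have hp2 : Fact (Nat.Prime 2) := ⟨Nat.prime_two⟩
  obtain ⟨a, -, ha⟩ := FiniteField.card F 2
  have hq := rd_st M hF e
  have hidx := index_le M e hc ha
  have hker : ∀ g : G, ff M e g = 1 → g ∈ M := by
    intro g hg
    obtain ⟨A, hA⟩ := form_one M e hg
    exact mem_of_sq M e hc hA (sq_two h2 A)
  have hidx' : M.index ≤ a := by
    have e1 : (ff M e).ker ≤ M := fun g hg => hker g hg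
    have e2 := Subgroup.index_dvd_of_le e1
    exact (Nat.le_of_dvd (Nat.pos_of_ne_zero Subgroup.index_ne_zero_of_finite) e2).trans
      (index_ker_le M e ha)
  set q := Fintype.card F with hqdef
  have heven : q % 2 = 0 := FiniteField.even_card_iff_char_two.1 h2
  have hrealSL : ∀ (θ : PSL → ℂ), IsIrrCharacter PSL θ → ∀ s, (θ s).im = 0 := by
    intro θ hθ
    refine im_of_inv hθ (real_psl_of_conj (Core.isIrr_isClassFunction hθ) fun g => ?_)
    by_cases hg : NS (g : Matrix (Fin 2) (Fin 2) F)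
    · rcases conj_cases hg with h | ⟨h, -⟩
      · exact h
      · exact absurd h2 h
    · rw [inv_of_not_NS hg]
  have hex : ∀ d : ℕ, (d = q - 1 ∨ d = q + 1) → ∃ θ : PSL → ℂ, IsIrrCharacter PSL θ ∧ charDegree θ = d := by
    intro d hd
    obtain ⟨-, hcnt⟩ := Cfsg.Agent.S2300.result (F := F)
    obtain ⟨-, -, cqp, cqm⟩ := hcnt hF
    have hcast : (Fintype.card F : ℂ) - 1 = ((q - 1 : ℕ) : ℂ) := by
      rw [Nat.cast_sub (by omega)]; simp [hqdef]
    have hcast' : (Fintype.card F : ℂ) + 1 = ((q + 1 : ℕ) : ℂ) := by push_cast; rfl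
    have key : ∀ z : ℂ, z = (d : ℂ) → Nat.card {χ : Cfsg.IrrCharacter SL // (χ : SL → ℂ) 1 = z} ≠ 0 →
        ∃ θ : PSL → ℂ, IsIrrCharacter PSL θ ∧ charDegree θ = d := by
      intro z hz hz0
      obtain ⟨⟨⟨χ, hχ⟩, hχz⟩⟩ := (Nat.card_ne_zero.1 hz0).1
      obtain ⟨θ, hθ, hθd, -⟩ := Cfsg.Agent.H597.L2Even.exists_psl h2 hχ
      exact ⟨θ, hθ, hθd.trans (charDegree_of_eq (hχz.trans hz))⟩
    rcases hd with rfl | rfl
    · exact key _ hcast (by rw [cqm]; omega)
    · exact key _ hcast' (by rw [cqp]; (clear * - hF; omega))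
  obtain ⟨θ1, hθ1, hd1⟩ := hex (q - 1) (Or.inl rfl)
  obtain ⟨θ2, hθ2, hd2⟩ := hex (q + 1) (Or.inr rfl)
  obtain ⟨c1, hc1, hc1i, hr1⟩ := rd_odd_psl M hF e hθ1 (hrealSL _ hθ1)
    (by rw [hd1, Nat.odd_iff]; omega) (by rw [hd1]; omega)
  obtain ⟨c2, hc2, hc2i, hr2⟩ := rd_odd_psl M hF e hθ2 (hrealSL _ hθ2)
    (by rw [hd2, Nat.odd_iff]; omega) (by rw [hd2]; omega)
  rw [hd1] at hr1
  rw [hd2] at hr2
  have hM0 : 0 < M.index := Nat.pos_of_ne_zero Subgroup.index_ne_zero_of_finite
  have hc1a := (Nat.le_of_dvd hM0 hc1i).trans hidx'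
  have haq : a < q := by
    rw [ha]
    exact Nat.lt_two_pow_self
  have hcop : Nat.Coprime (q - 1) (q + 1) := by
    have e1 : Odd (q - 1) := by rw [Nat.odd_iff]; omega
    have e2 : q + 1 = (q - 1) + 2 := by omega
    rw [e2, Nat.coprime_self_add_right]
    exact e1.coprime_two_right
  have hcop2 : Nat.Coprime (q - 1) q := by
    have := Nat.coprime_self_add_right (m := q - 1) (n := 1)
    rw [show q - 1 + 1 = q by (clear * - hF; omega)] at this
    exact this.2 (Nat.coprime_one_right _)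
  have hcop3 : Nat.Coprime (q + 1) q := by
    rw [Nat.coprime_self_add_left]
    exact Nat.coprime_one_left _
  refine ⟨q, (q - 1) * c1, (q + 1) * c2, ?_, ?_, ?_, hq, hr1, hr2⟩
  · intro h
    have h5 : (q - 1) ∣ 1 := hcop2.dvd_of_dvd_mul_left (by rw [mul_one]; exact ⟨c1, h⟩)
    have := Nat.le_of_dvd one_pos h5
    omega
  · intro h
    have h5 : (q + 1) ∣ 1 := hcop3.dvd_of_dvd_mul_left (by rw [mul_one]; exact ⟨c2, h⟩)
    have := Nat.le_of_dvd one_pos h5
    omega
  · intro h
    have h5 : (q + 1) ∣ c1 := hcop.symm.dvd_of_dvd_mul_left ⟨c2, h⟩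
    have := Nat.le_of_dvd hc1 h5
    omega

/-- `q` odd -/
theorem r3_odd (hF : 4 ≤ Fintype.card F) (e : M ≃* PSL) (hc : Subgroup.centralizer (M : Set G) = ⊥)
    (h2 : ringChar F ≠ 2) : R3 G M := by
  classical
  obtain ⟨p, hp⟩ := CharP.exists F
  have hpp : Fact p.Prime := ⟨CharP.char_is_prime F p⟩
  obtain ⟨a, -, ha⟩ := FiniteField.card F p
  have hodd : Fintype.card F % 2 = 1 := FiniteField.odd_card_of_char_ne_two h2
  obtain ⟨m, hq⟩ : ∃ m, Fintype.card F = 2 * m + 1 := ⟨Fintype.card F / 2, by omega⟩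
  have hm2 : 2 ≤ m := by omega
  have hst := rd_st M hF e
  rw [hq] at hst
  have hpa : p ^ (a : ℕ) = 2 * m + 1 := by rw [← ha, hq]
  have hp3 : 3 ≤ p := by
    have h2 := hpp.out.two_le
    rcases Nat.lt_or_ge p 3 with h3 | h3
    · exfalso
      have h5 : p = 2 := by omega
      have h6 : 2 ∣ p ^ (a : ℕ) := by rw [h5]; exact dvd_pow_self 2 a.ne_zero
      omega
    · exact h3
  have h2a : 2 * (a : ℕ) ≤ m := by
    have h5 := pow_bound hp3 (a := a) (by omega)
    omega
  have hidx : M.index ≤ m := (index_le M e hc ha).trans h2a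
  have hM0 : 0 < M.index := Nat.pos_of_ne_zero Subgroup.index_ne_zero_of_finite
  have hone : ∀ g : G, ∀ i : ℕ, (∀ x, ff M e g x = x ^ p ^ i) → p ^ i = 1 → ff M e g = 1 := by
    intro g i hi h1
    ext x
    rw [hi, h1, pow_one]
    rfl
  have hsmall : ∀ i < (a : ℕ), 3 * p ^ i ≤ 2 * m + 1 := by
    intro i hi
    rw [← hpa]
    have h5 : p ^ (a : ℕ) = p ^ ((a : ℕ) - i) * p ^ i := by rw [← pow_add]; congr 1; omega
    rw [h5]
    apply Nat.mul_le_mul_right
    calc 3 ≤ p := hp3
      _ = p ^ 1 := (pow_one p).symm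
      _ ≤ p ^ ((a : ℕ) - i) := Nat.pow_le_pow_right (by omega) (by omega)
  -- the character of degree `q - 1`
  obtain ⟨θX, hθX, hθXd, hθXr, hX⟩ := exists_X_real (p := p) hm2 hq
  obtain ⟨c1, hc1, hc1i, hr1⟩ := rd_even_psl M e hc hθX hθXr (by omega) (by
    intro g hg _
    obtain ⟨A, hA⟩ := form M e g
    obtain ⟨i, hi, hi'⟩ := exists_frob ha (ff M e g)
    have h5 := hX A (ff M e g) i hi' (fun s => by rw [← hA]; exact hg s)
    have h6 := hsmall i hi
    have hpi : 0 < p ^ i := pow_pos hpp.out.pos i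
    apply hone g i hi'
    rcases h5 with h5 | h5
    · rcases Nat.eq_zero_or_pos (p ^ i - 1) with h7 | h7
      · omega
      · have := Nat.le_of_dvd h7 h5
        omega
    · have := Nat.le_of_dvd (by omega) h5
      omega)
  rw [hθXd] at hr1
  have hc1m := (Nat.le_of_dvd hM0 hc1i).trans hidx
  have hne1 : 2 * m + 1 ≠ 2 * m * c1 := by
    intro h
    have h5 : 2 * (m * c1) = 2 * m + 1 := by rw [h]; ring
    omega
  rcases Nat.even_or_odd m with hme | hmo
  · -- `q ≡ 1 mod 4`
    obtain ⟨θ, hθ, hθd⟩ := exists_half hq (by omega) (Or.inr rfl) hme.add_one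
    have hsq : IsSquare (-1 : F) := by
      rw [FiniteField.isSquare_neg_one_iff, hq]
      obtain ⟨k, hk⟩ := hme
      omega
    have hr := im_of_inv hθ (real_psl_of_conj (Core.isIrr_isClassFunction hθ) fun g => isConj_inv_of_sq hsq g)
    obtain ⟨c3, hc3, hc3i, hr3⟩ := rd_odd_psl M hF e hθ hr (by rw [hθd]; exact hme.add_one) (by omega)
    rw [hθd] at hr3
    refine ⟨2 * m + 1, 2 * m * c1, (m + 1) * c3, hne1, ?_, ?_, hst, hr1, hr3⟩
    · intro h
      have h5 : (m + 1) ∣ 2 * m + 1 := ⟨c3, h⟩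
      have h6 : (m + 1) ∣ 2 * (m + 1) := dvd_mul_left _ _
      have h7 : (m + 1) ∣ 1 := by
        have h8 := Nat.dvd_sub h6 h5
        rwa [show 2 * (m + 1) - (2 * m + 1) = 1 by omega] at h8
      have := Nat.le_of_dvd one_pos h7
      omega
    · intro h
      have hcop : Nat.Coprime (m + 1) (2 * m) := by
        apply Nat.Coprime.mul_right
        · exact hme.add_one.coprime_two_right
        · rw [Nat.coprime_self_add_left]
          exact Nat.coprime_one_left _
      have h5 : (m + 1) ∣ c1 := hcop.dvd_of_dvd_mul_left ⟨c3, h⟩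
      have := Nat.le_of_dvd hc1 h5
      omega
  · -- `q ≡ 3 mod 4`
    have hm3 : 2 < m := by
      obtain ⟨k, hk⟩ := hmo
      omega
    obtain ⟨θR, hθR, hθRd, hθRr, hR⟩ := exists_R_real (p := p) hm3 hq
    obtain ⟨c2, hc2, hc2i, hr2⟩ := rd_even_psl M e hc hθR hθRr (by omega) (by
      intro g hg _
      obtain ⟨A, hA⟩ := form M e g
      obtain ⟨i, hi, hi'⟩ := exists_frob ha (ff M e g)
      have h5 := hR A (ff M e g) i hi' (fun s => by rw [← hA]; exact hg s)
      have h6 := hsmall i hi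
      have hpi : 0 < p ^ i := pow_pos hpp.out.pos i
      apply hone g i hi'
      have h3i : p ^ i = 1 ∨ 3 ≤ p ^ i := by
        rcases Nat.eq_zero_or_pos i with h8 | h8
        · left; rw [h8, pow_zero]
        · right
          calc 3 ≤ p := hp3
            _ = p ^ 1 := (pow_one p).symm
            _ ≤ p ^ i := Nat.pow_le_pow_right (by omega) h8
      rcases h5 with h5 | h5
      · rcases Nat.eq_zero_or_pos (p ^ i - 1) with h7 | h7
        · omega
        · have := Nat.le_of_dvd h7 h5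
          obtain ⟨l, hl⟩ := hmo
          omega
      · have := Nat.le_of_dvd (by omega) h5
        obtain ⟨l, hl⟩ := hmo
        omega)
    rw [hθRd] at hr2
    refine ⟨2 * m + 1, 2 * m * c1, (2 * m + 2) * c2, hne1, ?_, ?_, hst, hr1, hr2⟩
    · intro h
      have h5 : 2 * ((m + 1) * c2) = 2 * m + 1 := by rw [h]; ring
      omega
    · intro h
      have h5 : m * c1 = (m + 1) * c2 := by
        have h6 : 2 * (m * c1) = 2 * ((m + 1) * c2) := by
          rw [← mul_assoc, h]; ring
        omega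
      have hcop : Nat.Coprime (m + 1) m := by
        rw [Nat.coprime_self_add_left]
        exact Nat.coprime_one_left m
      have h6 : (m + 1) ∣ c1 := hcop.dvd_of_dvd_mul_left ⟨c2, h5⟩
      have := Nat.le_of_dvd hc1 h6
      omega

end

end Cfsg.Agent.H579.RR

namespace Cfsg.Agent.H579.R4

open Cfsg Cfsg.Agent.H619.R4

universe u

/-- **Three real degrees: `PSL₂(q)`.** -/
theorem row_psl2 {S : Type u} [Group S] (F : Type) [Field F] [Fintype F] (hF : 4 ≤ Fintype.card F)
    (e : Nonempty (S ≃* Matrix.ProjectiveSpecialLinearGroup (Fin 2) F)) : Row S := by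
  intro G _ _ N _ ⟨f⟩ hC _
  obtain ⟨e⟩ := e
  by_cases h2 : ringChar F = 2
  · exact RR.r3_even N hF (f.symm.trans e) hC h2
  · exact RR.r3_odd N hF (f.symm.trans e) hC h2

end Cfsg.Agent.H579.R4
end

-- part: H579/RR/OddAt
section
/-!
# Real characters of odd degree not vanishing at a real element (S4554, helper579)

* `exists_odd_at_real` : `x ≠ 1` real: a real irreducible character `≠ 1` of odd degree which does not vanish at `x`
  (after helper494's `exists_odd_at`);
* `vanish` : characters of defect zero;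
* `rd_odd_deg` : the degree in `G` of a real irreducible character of odd degree of a perfect normal subgroup.
-/

set_option autoImplicit false
set_option linter.unusedSectionVars false

namespace Cfsg.Agent.H579.RR

open Cfsg Cfsg.Agent.Characters Cfsg.Agent.Blocks Cfsg.Agent.H686.CharKit
open Cfsg.Agent.H727.Orth Cfsg.Agent.H619.R4
open Cfsg.Agent.H672 (Over inertia over_iff over_comp_iff over_subtype_iff mem_inertia_iff le_inertia)
open Cfsg.Agent.H705.StrongLin (ind ind_eq real_of_ind)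
open Cfsg.Agent.H694 (ind_cases ind_eq_zero_iff cj cj_cj charDegree_cj sum_eq_sum_real real_of_ind_ne)
open scoped ComplexConjugate commutatorElement

universe u

/-- **Parity at a real element.** -/
theorem exists_odd_at_real {S : Type u} [Group S] [Finite S] {x : S} (hx : x ≠ 1) (hr : IsConj x x⁻¹) :
    ∃ χ : IrrCharacter S, (∀ s, ((χ : S → ℂ) s).im = 0) ∧ Odd (charDegree (χ : S → ℂ)) ∧
      (χ : S → ℂ) ≠ 1 ∧ (χ : S → ℂ) x ≠ 0 := by
  classical
  have := Fintype.ofFinite S
  have := Core.finite_irr (G := S)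
  have := Fintype.ofFinite (IrrCharacter S)
  have hint : ∀ χ : IrrCharacter S, (χ : S → ℂ) x ∈ integralClosure ℤ ℂ := fun χ =>
    Characters.GaloisBasic.isIntegral_apply (Core.isIrr_isCharacter χ.2) x
  obtain ⟨v, hv⟩ : ∃ v : IrrCharacter S → OI, ∀ χ, ((v χ : OI) : ℂ) = (χ : S → ℂ) x :=
    ⟨fun χ => ⟨_, hint χ⟩, fun _ => rfl⟩
  obtain ⟨one, hone⟩ : ∃ one : IrrCharacter S, (one : S → ℂ) = 1 := ⟨⟨1, Core.isIrr_one⟩, rfl⟩
  obtain ⟨f, hf⟩ : ∃ f : IrrCharacter S → O2, ∀ χ, f χ = red ((charDegree (χ : S → ℂ) : OI) * v χ) :=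
    ⟨_, fun _ => rfl⟩
  have hcl : ∀ (χ : IrrCharacter S) {a b : S}, IsConj a b → (χ : S → ℂ) a = (χ : S → ℂ) b := by
    intro χ a b h
    obtain ⟨c, rfl⟩ := isConj_iff.1 h
    exact (Core.isIrr_isClassFunction χ.2 a c).symm
  -- the sum of all terms is zero
  have h1 : ∑ χ : IrrCharacter S, f χ = 0 := by
    have h2 : ∑ χ : IrrCharacter S, ((charDegree (χ : S → ℂ) : OI) * v χ) = 0 := by
      have h3 := Characters.Counting.sum_irr_one_mul x
      rw [if_neg hx] at h3
      apply Subtype.ext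
      push_cast
      rw [← h3]
      refine Finset.sum_congr rfl fun χ _ => ?_
      rw [hv, Cfsg.Agent.Blocks.Basic.irr_one_eq_charDegree χ.2]
    rw [Finset.sum_congr rfl fun χ _ => hf χ, ← map_sum, h2, map_zero]
  have hfone : f one = 1 := by
    rw [hf]
    have h2 : charDegree (one : S → ℂ) = 1 := by
      have h3 := Cfsg.Agent.Blocks.Basic.irr_one_eq_charDegree one.2
      rw [hone, Pi.one_apply] at h3
      rw [hone]
      exact_mod_cast h3.symm
    have h3 : v one = 1 := by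
      apply Subtype.ext
      rw [hv, hone]
      rfl
    rw [h2, h3, Nat.cast_one, one_mul, map_one]
  have hcj : ∀ χ, f (cj χ) = f χ := by
    intro χ
    rw [hf, hf, charDegree_cj]
    congr 2
    apply Subtype.ext
    rw [hv, hv]
    show conj ((χ : S → ℂ) x) = _
    rw [← Core.isCharacter_apply_inv (Core.isIrr_isCharacter χ.2)]
    exact (hcl χ hr).symm
  have h2 := sum_eq_sum_real add_self_zero f hcj
  rw [h1] at h2
  have h3 : ∑ᶠ χ ∈ {χ : IrrCharacter S | ind (χ : S → ℂ) ≠ 0}, f χ =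
      ∑ χ ∈ Finset.univ.filter (fun χ : IrrCharacter S => ind (χ : S → ℂ) ≠ 0), f χ := by
    rw [← finsum_mem_coe_finset]
    congr 1
    funext χ
    simp only [_root_.ne_eq, _root_.Set.mem_ofPred_eq, _root_.Finset.coe_filter, _root_.Finset.mem_univ, _root_.true_and]
  rw [h3] at h2
  have hind1 : ind (one : S → ℂ) ≠ 0 := by
    intro h
    obtain ⟨s, hs⟩ := (ind_eq_zero_iff one.2).1 h
    rw [hone] at hs
    simp at hs
  have h4 : one ∈ Finset.univ.filter (fun χ : IrrCharacter S => ind (χ : S → ℂ) ≠ 0) := by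
    rw [Finset.mem_filter]
    exact ⟨Finset.mem_univ _, hind1⟩
  rw [← Finset.add_sum_erase _ _ h4, hfone] at h2
  have h5 : ∑ χ ∈ (Finset.univ.filter (fun χ : IrrCharacter S => ind (χ : S → ℂ) ≠ 0)).erase one, f χ ≠ 0 := by
    intro h
    rw [h, add_zero] at h2
    exact one_ne_zero h2.symm
  obtain ⟨χ, hχ, hfχ⟩ := Finset.exists_ne_zero_of_sum_ne_zero h5
  rw [Finset.mem_erase, Finset.mem_filter] at hχ
  rw [hf, map_mul] at hfχ
  refine ⟨χ, fun s => real_of_ind_ne χ.2 hχ.2.2 s, ?_, ?_, ?_⟩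
  · by_contra ho
    rw [Nat.not_odd_iff_even] at ho
    obtain ⟨k, hk⟩ := ho
    apply hfχ
    have h10 : ((charDegree (χ : S → ℂ) : ℕ) : OI) = 2 * (k : OI) := by
      rw [hk]
      push_cast
      ring
    rw [h10, red_two_mul, zero_mul]
  · intro h10
    exact hχ.1 (Subtype.ext (h10.trans hone.symm))
  · intro h10
    apply hfχ
    have h11 : v χ = 0 := by
      apply Subtype.ext
      rw [hv, h10]
      rfl
    rw [h11, map_zero, mul_zero]

/-- Characters of defect zero. -/
theorem vanish {S : Type u} [Group S] [Finite S] (χ : IrrCharacter S) {p c : ℕ} (hp : p.Prime)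
    (hc : Nat.card S = charDegree (χ : S → ℂ) * c) (hpc : ¬ p ∣ c) {x : S} (hx : p ∣ orderOf x) :
    (χ : S → ℂ) x = 0 := by
  classical
  obtain ⟨n, ρ, hρ, hχ⟩ := χ.2
  have h0 : Nat.card S ≠ 0 := Nat.card_pos.ne'
  set e := (Nat.card S).factorization p with he
  have h1 : p ^ e ∣ Nat.card S := Nat.ordProj_dvd _ _
  have h2 : ¬ p ^ (e + 1) ∣ Nat.card S := Nat.pow_succ_factorization_not_dvd h0 hp
  have h3 : p ^ e ∣ charDegree (χ : S → ℂ) := by
    have h4 : Nat.Coprime (p ^ e) c := Nat.Coprime.pow_left _ ((Nat.Prime.coprime_iff_not_dvd hp).2 hpc)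
    rw [hc] at h1
    exact h4.dvd_of_dvd_mul_right h1
  have h4 : charDegree (χ : S → ℂ) = Module.finrank ℂ (Fin n → ℂ) := by
    have h5 := Cfsg.Agent.Blocks.Basic.irr_one_eq_charDegree χ.2
    rw [← hχ] at h5
    have h6 : ρ.character 1 = (Module.finrank ℂ (Fin n → ℂ) : ℂ) := ρ.char_one
    have h7 : ((charDegree ρ.character : ℕ) : ℂ) = (Module.finrank ℂ (Fin n → ℂ) : ℂ) := by
      rw [← h6]
      exact h5.symm
    rw [← hχ]
    exact_mod_cast h7
  rw [h4] at h3
  rw [← hχ]
  have := hρ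
  exact Cfsg.Agent.S0165.result ρ p e hp h1 h2 h3 x hx

/-- the only linear character of a perfect group -/
theorem eq_one_of_perfect {S : Type u} [Group S] [Finite S] (hS : commutator S = ⊤) {χ : S → ℂ}
    (hχ : IsIrrCharacter S χ) (h1 : charDegree χ = 1) : χ = 1 := by
  have h2 : χ 1 = 1 := by
    rw [Cfsg.Agent.Blocks.Basic.irr_one_eq_charDegree hχ, h1, Nat.cast_one]
  obtain ⟨f, hf⟩ := Characters.Linear.exists_hom_of_isIrrCharacter hχ h2
  have h3 : ∀ s, f s = 1 := by
    intro s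
    have h4 : s ∈ f.ker := by
      have h5 : commutator S ≤ f.ker := Abelianization.commutator_subset_ker f
      exact h5 (by rw [hS]; exact Subgroup.mem_top s)
    exact h4
  funext s
  rw [hf]
  show ((f s : ℂˣ) : ℂ) = 1
  rw [h3, Units.val_one]

/-- **Odd degrees**, for a perfect normal subgroup. -/
theorem rd_odd_deg {G : Type u} [Group G] [Finite G] (N : Subgroup G) [N.Normal] (hperf : commutator N = ⊤)
    {θ : N → ℂ} (hθ : IsIrrCharacter N θ) (hreal : ∀ n, (θ n).im = 0) (hodd : Odd (charDegree θ)) (hne : θ ≠ 1) :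
    ∃ c, 0 < c ∧ c ∣ N.index ∧ RD G N (charDegree θ * c) := by
  obtain ⟨χ, hr, hov⟩ := exists_real_over_odd N hperf hθ hreal hodd
  exact rd_of_over N hθ (fun h => hne (eq_one_of_perfect hperf hθ h)) hr hov

/-- nonabelian simple groups are perfect -/
theorem perfect_of_simple {S : Type*} [Group S] [IsSimpleGroup S] {a b : S} (h : a * b ≠ b * a) :
    commutator S = ⊤ := by
  rcases IsSimpleGroup.eq_bot_or_eq_top_of_normal (commutator S) inferInstance with h1 | h1
  · exfalso
    have h2 : ⁅a, b⁆ ∈ commutator S := Subgroup.commutator_mem_commutator (Subgroup.mem_top a) (Subgroup.mem_top b)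
    rw [h1, Subgroup.mem_bot, commutatorElement_eq_one_iff_mul_comm] at h2
    exact h h2
  · exact h1

end Cfsg.Agent.H579.RR
end
end
end
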